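import Groth.Agent.SDiv28.WeakAssPoints
import Groth.Agent.ModPairLib.EffCartier
import Groth.Prelude.Def_BlowUp2
import Groth.Prelude.Def_Flat
import Mathlib

/-!
# The local dimension drops on an effective Cartier divisor
-/

set_option autoImplicit false
set_option backward.isDefEq.respectTransparency.types false
universe u

open CategoryTheory AlgebraicGeometry Opposite TopologicalSpace Topology
open Groth.Agent.AssSch12

namespace Groth.Agent.SDiv28

/-- A point of an effective Cartier divisor has a proper generisation. -/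
theorem exists_specializes_ne {X : Scheme.{u}} {I : X.IdealSheafData} (hI : BlowUp.IsEffCartierIdeal I)
    {x : X} (hx : x ∈ I.support) : ∃ y : X, y ⤳ x ∧ y ≠ x := by
  obtain ⟨V, hxV, a, ha, haI⟩ := hI x
  have hap : a ∈ primeAt V.2 hxV := by
    rw [mem_primeAt_iff]
    intro hxa
    have h : x ∈ X.zeroLocus (U := V.1) (I.ideal V : Set Γ(X, V.1)) :=
      ((I.coe_support_inter V).subset ⟨hx, hxV⟩).1
    rw [haI, Scheme.zeroLocus_span, Scheme.zeroLocus_singleton] at h
    exact h hxa
  haveI : (primeAt V.2 hxV).IsPrime := (V.2.primeIdealOf ⟨x, hxV⟩).2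
  obtain ⟨q, hq, hqle⟩ := Ideal.exists_minimalPrimes_le (bot_le : (⊥ : Ideal Γ(X, V.1)) ≤ primeAt V.2 hxV)
  haveI := hq.1.1
  obtain ⟨y, hy, rfl⟩ := exists_point V.2 q
  refine ⟨y, (specializes_iff V.2 hy hxV).2 hqle, fun h => ?_⟩
  subst h
  exact Set.disjoint_left.1 (Ideal.disjoint_nonZeroDivisors_of_mem_minimalPrimes hq) hap ha

/-- Dimension drops by at least one on a closed subspace all of whose points have proper generisations. -/
theorem topologicalKrullDim_add_one_le {D T : Type*} [TopologicalSpace D] [TopologicalSpace T]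
    [QuasiSober D] [T0Space T] {j : D → T} (hj : IsClosedEmbedding j) [Nonempty D]
    (h : ∀ d : D, ∃ y : T, y ⤳ j d ∧ y ∉ Set.range j) :
    topologicalKrullDim D + 1 ≤ topologicalKrullDim T := by
  haveI : Nonempty (IrreducibleCloseds D) :=
    let ⟨d⟩ := ‹Nonempty D›; ⟨⟨closure {d}, isIrreducible_singleton.closure, isClosed_closure⟩⟩
  unfold topologicalKrullDim
  rw [Order.krullDim_eq_iSup_length]
  rcases eq_top_or_lt_top (⨆ l : LTSeries (IrreducibleCloseds D), (l.length : ℕ∞)) with htop | hlt
  · have : Order.krullDim (IrreducibleCloseds T) = ⊤ := top_le_iff.1 (by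
      refine le_trans ?_ (Order.krullDim_le_of_strictMono _ (IrreducibleCloseds.map_strictMono_of_isInducing hj.isInducing))
      rw [Order.krullDim_eq_iSup_length, htop]; rfl)
    rw [this]; exact le_top
  · obtain ⟨l, hl⟩ := ENat.exists_eq_iSup_of_lt_top hlt
    rw [← hl]
    obtain ⟨g, hg⟩ := QuasiSober.sober l.last.isIrreducible l.last.isClosed
    obtain ⟨y, hy, hyr⟩ := h g
    let C : IrreducibleCloseds T := ⟨closure {y}, isIrreducible_singleton.closure, isClosed_closure⟩
    let m := l.map (IrreducibleCloseds.map j hj.continuous)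
      (IrreducibleCloseds.map_strictMono_of_isInducing hj.isInducing)
    have hlast : m.last < C := by
      rw [LTSeries.last_map]
      have hsub : (IrreducibleCloseds.map j hj.continuous l.last : Set T) ⊆ Set.range j := by
        rw [IrreducibleCloseds.coe_map]
        exact (closure_mono (Set.image_subset_range j _)).trans hj.isClosed_range.closure_eq.le
      refine lt_of_le_of_ne ?_ fun heq => hyr (hsub ?_)
      · intro z hz
        have hz' : z ∈ closure (j '' (l.last : Set D)) := hz
        refine closure_minimal ?_ isClosed_closure hz'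
        rintro _ ⟨d, hd, rfl⟩
        exact (hy.trans ((hg.specializes hd).map hj.continuous)).mem_closure
      · rw [heq]; exact subset_closure rfl
    have := Order.LTSeries.length_le_krullDim (m.snoc C hlast)
    simpa [m] using this

theorem localDim_lt {S D : Type*} [TopologicalSpace S] [TopologicalSpace D] [QuasiSober D] [T0Space S]
    {j : D → S} (hj : IsClosedEmbedding j) (h : ∀ d : D, ∃ y : S, y ⤳ j d ∧ y ∉ Set.range j)
    (d : D) (hfin : FlatMor.localDim S (j d) ≠ ⊤) :
    FlatMor.localDim D d < FlatMor.localDim S (j d) := by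
  haveI : Nonempty {U : Opens S // j d ∈ U} := ⟨⟨⊤, trivial⟩⟩
  obtain ⟨U, hU⟩ : ∃ U : {U : Opens S // j d ∈ U},
      topologicalKrullDim (U.1 : Set S) = FlatMor.localDim S (j d) :=
    ciInf_mem (fun U : {U : Opens S // j d ∈ U} => topologicalKrullDim (U.1 : Set S))
  let W : Opens D := ⟨j ⁻¹' U.1, U.1.isOpen.preimage hj.continuous⟩
  haveI : QuasiSober (W : Set D) := W.isOpen.isOpenEmbedding_subtypeVal.quasiSober
  haveI : Nonempty (W : Set D) := ⟨⟨d, U.2⟩⟩
  let jW : ↥(W : Set D) → ↥(U.1 : Set S) := (U.1 : Set S).restrictPreimage j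
  have hjW : IsClosedEmbedding jW := hj.restrictPreimage _
  have hle := topologicalKrullDim_add_one_le hjW fun w => by
    obtain ⟨y, hy, hyr⟩ := h w.1
    refine ⟨⟨y, hy.mem_open U.1.isOpen w.2⟩, (subtype_specializes_iff _ _).2 hy, ?_⟩
    rintro ⟨z, hz⟩
    exact hyr ⟨z.1, congrArg Subtype.val hz⟩
  rw [hU] at hle
  refine lt_of_le_of_lt (iInf_le _ ⟨W, U.2⟩) (lt_of_lt_of_le ?_ hle)
  show topologicalKrullDim (W : Set D) < _
  have hfin' : topologicalKrullDim (W : Set D) ≠ ⊤ := fun htop => hfin (top_le_iff.1 (by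
    rw [htop, ← WithBot.coe_top, ← WithBot.coe_one, ← WithBot.coe_add, top_add] at hle; exact hle))
  have hbot : topologicalKrullDim (W : Set D) ≠ ⊥ := by
    rw [topologicalKrullDim, ne_eq, Order.krullDim_eq_bot_iff, not_isEmpty_iff]
    exact ⟨⟨closure {⟨d, U.2⟩}, isIrreducible_singleton.closure, isClosed_closure⟩⟩
  cases hd : topologicalKrullDim (W : Set D) with
  | bot => exact absurd hd hbot
  | coe k =>
    rw [show (k : WithBot ℕ∞) + 1 = ((k + 1 : ℕ∞) : WithBot ℕ∞) from rfl, WithBot.coe_lt_coe]
    exact (ENat.lt_add_one_iff (fun hk => hfin' (by rw [hd, hk]; rfl))).2 le_rfl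

end Groth.Agent.SDiv28
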