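import Groth.Agent.FlatCrit.Tor
import Groth.Agent.QReg6.Regular
import Groth.Prelude.Def_CAlgX
import Mathlib

/-!
# `H₁`-regular sequences are quasi-regular; flat base change
-/

set_option autoImplicit false
set_option backward.isDefEq.respectTransparency.types false

universe u

open MvPolynomial TensorProduct Groth.Agent.FlatCrit
open Function (Injective Bijective Exact)

namespace Groth.Agent.SDiv28.RegSeq

variable {R : Type u} [CommRing R] {c : ℕ}

section H1

variable (f : Fin c → R)

/-- `R` as a module over the polynomial ring through the sequence. -/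
@[reducible]
noncomputable def evalAlg : Algebra (MvPolynomial (Fin c) R) R := (eval f).toAlgebra

local notation "P" => MvPolynomial (Fin c) R
local notation "I" => idealOfVars (Fin c) R

theorem smul_eq (p : P) (r : R) : (letI := evalAlg f; p • r) = eval f p * r := rfl

theorem injective_rTensor_vars (h : CAlgX.IsH1Regular f) :
    letI := evalAlg f
    Injective ((Submodule.subtype (I : Submodule P P)).rTensor R) := by
  letI := evalAlg f
  let x : Fin c → ↥(I : Submodule P P) := fun i => ⟨X i, Ideal.subset_span ⟨i, rfl⟩⟩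
  have hrep : ∀ z : ↥(I : Submodule P P) ⊗[P] R, ∃ a : Fin c → R, z = ∑ i, x i ⊗ₜ[P] a i := by
    intro z
    induction z using TensorProduct.induction_on with
    | zero => exact ⟨0, by simp⟩
    | add u v hu hv =>
      obtain ⟨a, rfl⟩ := hu
      obtain ⟨b, rfl⟩ := hv
      exact ⟨a + b, by simp [tmul_add, Finset.sum_add_distrib]⟩
    | tmul p r =>
      obtain ⟨q, hq⟩ := Ideal.mem_span_range_iff_exists_fun.1 p.2
      refine ⟨fun i => q i • r, ?_⟩
      have hp : p = ∑ i, q i • x i := Subtype.ext (by simpa [x] using hq.symm)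
      conv_lhs => rw [hp, TensorProduct.sum_tmul]
      simp only [TensorProduct.smul_tmul]
  rw [injective_iff_map_eq_zero]
  intro z hz
  obtain ⟨a, rfl⟩ := hrep z
  have h0 : ∑ i, a i * f i = 0 := by
    have h1 := congrArg (TensorProduct.lid P R) hz
    simp only [map_sum, LinearMap.rTensor_tmul, lid_tmul, map_zero, Submodule.subtype_apply, x,
      smul_eq, eval_X] at h1
    simpa [mul_comm] using h1
  let T : Fin c → R →+ ↥(I : Submodule P P) ⊗[P] R := fun i =>
    (TensorProduct.mk P _ R (x i)).toAddMonoidHom
  have key : ∀ v ∈ Submodule.span R {v : Fin c → R | ∃ i j : Fin c, v = Pi.single i (f j) - Pi.single j (f i)},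
      ∀ s : R, (∑ i, x i ⊗ₜ[P] (s * v i)) = 0 := by
    intro v hv
    induction hv using Submodule.span_induction with
    | mem v hv =>
      obtain ⟨i, j, rfl⟩ := hv
      intro s
      have hs : ∀ (k : Fin c) (b : R), (∑ l, x l ⊗ₜ[P] (s * (Pi.single k b : Fin c → R) l)) = x k ⊗ₜ[P] (s * b) := by
        intro k b
        rw [Finset.sum_eq_single k] <;> simp +contextual
      simp only [Pi.sub_apply, mul_sub, tmul_sub]
      refine (Finset.sum_sub_distrib (fun l => x l ⊗ₜ[P] (s * (Pi.single i (f j) : Fin c → R) l)) (fun l => x l ⊗ₜ[P] (s * (Pi.single j (f i) : Fin c → R) l))).trans ?_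
      rw [hs, hs]
      have e1 : s * f j = (X j : P) • s := by rw [smul_eq, eval_X, mul_comm]
      have e2 : s * f i = (X i : P) • s := by rw [smul_eq, eval_X, mul_comm]
      rw [e1, e2, tmul_smul, tmul_smul, smul_tmul', smul_tmul']
      rw [show (X j : P) • x i = (X i : P) • x j from Subtype.ext (by simp [x, mul_comm]), sub_self]
    | zero => intro s; simp
    | add v w _ _ hv hw =>
      intro s
      simp only [Pi.add_apply, mul_add, tmul_add, Finset.sum_add_distrib, hv s, hw s, add_zero]
    | smul r v _ hv =>
      intro s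
      simp only [Pi.smul_apply, smul_eq_mul, ← mul_assoc]
      exact hv (s * r)
  simpa using key a (h a h0) 1

variable (c) in
/-- Exponents of the monomials of degree `n`. -/
abbrev Deg (n : ℕ) : Type := {d : Fin c →₀ ℕ // d ∈ (Finset.univ : Finset (Fin c)).finsuppAntidiag n}

theorem deg_eq {n : ℕ} (d : Deg c n) : Finsupp.degree d.1 = n := by
  have := (Finset.mem_finsuppAntidiag.1 d.2).1
  rw [Finsupp.degree_eq_sum]
  exact this

theorem torVanish_gr (h : CAlgX.IsH1Regular f) (n : ℕ) :
    letI := evalAlg f
    TorVanish P R (↥(I ^ n : Submodule P P) ⧸ Submodule.comap (Submodule.subtype (I ^ n : Submodule P P)) (I ^ (n + 1))) := by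
  letI := evalAlg f
  let m : Deg c n → ↥(I ^ n : Submodule P P) := fun d => ⟨monomial d.1 1, by
    rw [mem_pow_idealOfVars_iff]
    intro e he
    rw [Finset.mem_singleton.1 (support_monomial_subset he), deg_eq]⟩
  let g : (Deg c n → P) →ₗ[P] (↥(I ^ n : Submodule P P) ⧸
      Submodule.comap (Submodule.subtype (I ^ n : Submodule P P)) (I ^ (n + 1))) :=
    Submodule.mkQ _ ∘ₗ Fintype.linearCombination P m
  let i : (Deg c n → ↥(I : Submodule P P)) →ₗ[P] (Deg c n → P) :=
    LinearMap.pi fun d => Submodule.subtype (I : Submodule P P) ∘ₗ LinearMap.proj d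
  have hmemI : ∀ q : P, q ∈ I ↔ q.coeff 0 = 0 := by
    intro q
    rw [← pow_one (I), mem_pow_idealOfVars_iff']
    simp [Finsupp.degree_eq_zero_iff]
  have hcoeff : ∀ (v : Deg c n → P) (d : Fin c →₀ ℕ) (hd : Finsupp.degree d ≤ n),
      ((Fintype.linearCombination P m v : ↥(I ^ n : Submodule P P)) : P).coeff d =
        ∑ e : Deg c n, if e.1 = d then (v e).coeff 0 else 0 := by
    intro v d hd
    rw [Fintype.linearCombination_apply, Submodule.coe_sum, coeff_sum]
    refine Finset.sum_congr rfl fun e _ => ?_
    rw [Submodule.coe_smul, smul_eq_mul, coeff_mul_monomial']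
    by_cases he : e.1 = d
    · subst he
      rw [if_pos le_rfl, if_pos rfl, tsub_self, mul_one]
    · rw [if_neg he, if_neg]
      intro hle
      obtain ⟨c', hc'⟩ := exists_add_of_le hle
      have h1 := congrArg Finsupp.degree hc'
      rw [map_add, deg_eq] at h1
      have : c' = 0 := (Finsupp.degree_eq_zero_iff _).1 (by omega)
      exact he (by rw [hc', this, add_zero])
  refine TorVanish.of_presentation i g ?_ ?_ torVanish_of_projective ?_
  · intro v
    show Submodule.Quotient.mk _ = 0 ↔ _
    rw [Submodule.Quotient.mk_eq_zero, Submodule.mem_comap, mem_pow_idealOfVars_iff']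
    constructor
    · intro hv
      refine ⟨fun e => ⟨v e, (hmemI _).2 ?_⟩, rfl⟩
      have := hv e.1 (by rw [deg_eq]; omega)
      rw [Submodule.subtype_apply, hcoeff v _ (deg_eq e).le, Finset.sum_eq_single e
        (fun b _ hb => if_neg fun hbe => hb (Subtype.ext hbe)) (by simp), if_pos rfl] at this
      exact this
    · rintro ⟨w, rfl⟩ d hd
      rw [Submodule.subtype_apply, hcoeff _ d (by omega)]
      refine Finset.sum_eq_zero fun e _ => ?_
      rw [show (i w e : P).coeff 0 = 0 from (hmemI _).1 (w e).2, ite_self]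
  · refine (Submodule.mkQ_surjective _).comp fun y => ?_
    have hy : (y : P) ∈ Ideal.span ((monomial · 1) '' (Finsupp.degree ⁻¹' {n})) := by
      rw [← pow_idealOfVars_eq_span]; exact y.2
    suffices h : ∀ q ∈ Ideal.span ((monomial · (1 : R)) '' (Finsupp.degree ⁻¹' {n})),
        ∃ v, ((Fintype.linearCombination P m v : ↥(I ^ n : Submodule P P)) : P) = q by
      obtain ⟨v, hv⟩ := h _ hy
      exact ⟨v, Subtype.ext hv⟩
    intro q hq
    induction hq using Submodule.span_induction with
    | mem q hq =>
      obtain ⟨d, hd, rfl⟩ := hq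
      classical
      refine ⟨Pi.single ⟨d, Finset.mem_finsuppAntidiag.2 ⟨?_, Finset.subset_univ _⟩⟩ 1, ?_⟩
      · rw [← Finsupp.degree_eq_sum]; exact hd
      · simp [Fintype.linearCombination_apply_single, m]
    | zero => exact ⟨0, by simp⟩
    | add u v _ _ hu hv =>
      obtain ⟨a, ha⟩ := hu
      obtain ⟨b, hb⟩ := hv
      exact ⟨a + b, by rw [map_add, Submodule.coe_add, ha, hb]⟩
    | smul r u _ hu =>
      obtain ⟨a, ha⟩ := hu
      exact ⟨r • a, by rw [map_smul, Submodule.coe_smul, ha]⟩
  · classical
    have hcomm : ∀ z, (TensorProduct.piLeft P R (fun _ : Deg c n => P)) (i.rTensor R z) =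
        fun d => (Submodule.subtype (I : Submodule P P)).rTensor R
          ((TensorProduct.piLeft P R (fun _ : Deg c n => ↥(I : Submodule P P))) z d) := by
      intro z
      induction z using TensorProduct.induction_on with
      | zero => funext d; simp
      | add u v hu hv =>
        funext d
        simp only [map_add, hu, hv, Pi.add_apply]
      | tmul w r =>
        funext d
        simp [i]
    intro a b hab
    apply (TensorProduct.piLeft P R (fun _ : Deg c n => ↥(I : Submodule P P))).injective
    funext d
    apply injective_rTensor_vars f h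
    rw [← congrFun (hcomm a) d, ← congrFun (hcomm b) d, hab]

theorem injective_rTensor_pow (h : CAlgX.IsH1Regular f) : ∀ n : ℕ,
    letI := evalAlg f
    Injective ((Submodule.subtype (I ^ n : Submodule P P)).rTensor R) := by
  letI := evalAlg f
  intro n
  induction n with
  | zero =>
    have : Bijective (Submodule.subtype (I ^ 0 : Submodule P P)) :=
      ⟨Subtype.val_injective, fun y => ⟨⟨y, by rw [pow_zero, Ideal.one_eq_top]; trivial⟩, rfl⟩⟩
    let e₀ : ↥(I ^ 0 : Submodule P P) ≃ₗ[P] P := LinearEquiv.ofBijective _ this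
    exact (e₀.rTensor R).injective
  | succ n ih =>
    have hle : (I ^ (n + 1) : Submodule P P) ≤ (I ^ n : Submodule P P) := Ideal.pow_le_pow_right n.le_succ
    let j : ↥(I ^ (n + 1) : Submodule P P) →ₗ[P] ↥(I ^ n : Submodule P P) := Submodule.inclusion hle
    have hex : Exact j (Submodule.mkQ (Submodule.comap (Submodule.subtype (I ^ n : Submodule P P)) (I ^ (n + 1)))) := by
      intro y
      show Submodule.Quotient.mk y = 0 ↔ _
      rw [Submodule.Quotient.mk_eq_zero, Submodule.mem_comap]
      exact ⟨fun hy => ⟨⟨y.1, hy⟩, Subtype.ext rfl⟩, fun ⟨z, hz⟩ => hz ▸ z.2⟩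
    have hj := torVanish_gr f h n j _ hex (Submodule.mkQ_surjective _) (Submodule.inclusion_injective hle)
    rw [show Submodule.subtype (I ^ (n + 1) : Submodule P P) = Submodule.subtype (I ^ n : Submodule P P) ∘ₗ j from rfl,
      LinearMap.rTensor_comp]
    exact ih.comp hj

theorem coeff_mem_of_eval_eq_zero (h : CAlgX.IsH1Regular f) {n : ℕ} (p : P) (hp : p.IsHomogeneous n)
    (h0 : eval f p = 0) (d : Fin c →₀ ℕ) : p.coeff d ∈ Ideal.span (Set.range f) := by
  letI := evalAlg f
  by_cases hd : Finsupp.degree d = n
  swap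
  · rw [hp.coeff_eq_zero hd]; exact zero_mem _
  have hmem : p ∈ (I ^ n : Submodule P P) := by
    rw [mem_pow_idealOfVars_iff']
    exact fun e he => hp.coeff_eq_zero he.ne
  have hz : (⟨p, hmem⟩ : ↥(I ^ n : Submodule P P)) ⊗ₜ[P] (1 : R) = 0 := by
    apply injective_rTensor_pow f h n
    apply (TensorProduct.lid P R).injective
    rw [LinearMap.rTensor_tmul, lid_tmul, map_zero, map_zero, Submodule.subtype_apply, smul_eq, h0, zero_mul]
  let J := Ideal.span (Set.range f)
  have hev : ∀ q : P, eval f q - q.coeff 0 ∈ J := by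
    intro q
    induction q using MvPolynomial.induction_on with
    | C a => simp
    | add u v hu hv =>
      rw [map_add, coeff_add]
      convert! add_mem hu hv using 1
      ring
    | mul_X u i hu =>
      rw [map_mul, eval_X, ← constantCoeff_eq, map_mul, constantCoeff_X, mul_zero, sub_zero]
      exact Ideal.mul_mem_left _ _ (Ideal.subset_span ⟨i, rfl⟩)
  let bil : ↥(I ^ n : Submodule P P) →+ R →+ R ⧸ J :=
    AddMonoidHom.mk' (fun q => AddMonoidHom.mk' (fun r => Ideal.Quotient.mk J (q.1.coeff d * r))
      (fun r s => by rw [mul_add, map_add]))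
      (fun q q' => AddMonoidHom.ext fun r => by
        simp [Submodule.coe_add, coeff_add, add_mul, map_add])
  let Φ : ↥(I ^ n : Submodule P P) ⊗[P] R →+ R ⧸ J := TensorProduct.liftAddHom bil fun s q r => by
    show Ideal.Quotient.mk J ((s • q).1.coeff d * r) = Ideal.Quotient.mk J (q.1.coeff d * (eval f s * r))
    rw [Submodule.coe_smul, smul_eq_mul, Ideal.Quotient.eq, coeff_mul]
    rw [Finset.sum_eq_single (0, d) (fun b hb hne => ?_) (by simp)]
    · have := Ideal.mul_mem_left J (q.1.coeff d * r) (hev s)
      convert! J.neg_mem this using 1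
      ring
    · have hb' := Finset.HasAntidiagonal.mem_antidiagonal.1 hb
      have hlt : Finsupp.degree b.2 < n := by
        have : Finsupp.degree b.1 + Finsupp.degree b.2 = n := by rw [← map_add, hb', hd]
        rcases eq_or_ne b.1 0 with h1 | h1
        · exact absurd (Prod.ext h1 (by simpa [h1] using hb')) hne
        · have : Finsupp.degree b.1 ≠ 0 := fun h2 => h1 ((Finsupp.degree_eq_zero_iff _).1 h2)
          omega
      rw [(mem_pow_idealOfVars_iff' _ _).1 q.2 _ hlt, mul_zero]
  have := congrArg Φ hz
  rw [map_zero, TensorProduct.liftAddHom_tmul] at this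
  have h2 : Ideal.Quotient.mk J (p.coeff d * 1) = 0 := this
  rwa [mul_one, Ideal.Quotient.eq_zero_iff_mem] at h2

theorem isQuasiRegular_of_isH1Regular (h : CAlgX.IsH1Regular f) : CAlgX.IsQuasiRegular f :=
  QReg6.isQuasiRegular_of_eval_eq_zero fun _ p hp h0 d => coeff_mem_of_eval_eq_zero f h p hp h0 d

end H1

section FlatBC

variable {S : Type u} [CommRing S] [Algebra R S] [Module.Flat R S]

/-- Relations after a flat base change are combinations of old relations. -/
theorem mem_span_of_flat {ι : Type} [Fintype ι] (g : ι → R) {v : ι → S}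
    (hv : ∑ i, v i * algebraMap R S (g i) = 0) :
    v ∈ Submodule.span S ((fun w : ι → R => fun i => algebraMap R S (w i)) '' {w | ∑ i, w i * g i = 0}) := by
  classical
  let L : (ι → R) →ₗ[R] R := Fintype.linearCombination R g
  let e : S ⊗[R] (ι → R) ≃ₗ[S] (ι → S) := TensorProduct.piScalarRight R S S ι
  have hL : ∀ z : S ⊗[R] (ι → R),
      TensorProduct.rid R S (L.lTensor S z) = ∑ i, e z i * algebraMap R S (g i) := by
    intro z
    induction z using TensorProduct.induction_on with
    | zero => simp
    | add u w hu hw => simp only [map_add, hu, hw, Pi.add_apply, add_mul, Finset.sum_add_distrib]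
    | tmul s w =>
      simp [e, L, Fintype.linearCombination_apply, Algebra.smul_def, Finset.sum_mul]
      refine Finset.sum_congr rfl fun i _ => ?_
      ring
  have hz : L.lTensor S (e.symm v) = 0 := by
    apply (TensorProduct.rid R S).injective
    rw [hL, map_zero]
    simpa using hv
  obtain ⟨w, hw⟩ := (Module.Flat.lTensor_exact S (LinearMap.exact_subtype_ker_map L) _).1 hz
  rw [← e.apply_symm_apply v, ← hw]
  clear hw
  induction w using TensorProduct.induction_on with
  | zero => simp
  | add a b ha hb => rw [map_add, map_add]; exact add_mem ha hb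
  | tmul s k =>
    have : e ((LinearMap.ker L).subtype.lTensor S (s ⊗ₜ k)) = s • fun i => algebraMap R S (k.1 i) := by
      funext i
      simp [e, Algebra.smul_def, mul_comm]
    rw [this]
    refine Submodule.smul_mem _ _ (Submodule.subset_span ⟨k.1, ?_, rfl⟩)
    simpa [L, Fintype.linearCombination_apply] using LinearMap.mem_ker.1 k.2

variable {f : Fin c → R}

theorem isH1Regular_map (h : CAlgX.IsH1Regular f) : CAlgX.IsH1Regular fun i => algebraMap R S (f i) := by
  classical
  intro a ha
  refine Submodule.span_le.2 ?_ (mem_span_of_flat f ha)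
  rintro _ ⟨w, hw, rfl⟩
  let ψ : (Fin c → R) →ₗ[R] (Fin c → S) := LinearMap.pi fun i => Algebra.linearMap R S ∘ₗ LinearMap.proj i
  show ψ w ∈ _
  have hw' := Submodule.mem_map_of_mem (f := ψ) (h w hw)
  rw [Submodule.map_span] at hw'
  refine Submodule.span_subset_span R S _ (Submodule.span_mono ?_ hw')
  rintro _ ⟨_, ⟨i, j, rfl⟩, rfl⟩
  refine ⟨i, j, funext fun k => ?_⟩
  show algebraMap R S _ = _
  simp only [LinearMap.proj_apply, Pi.sub_apply, map_sub]
  congr 1 <;> exact Pi.apply_single (fun _ => algebraMap R S) (fun _ => map_zero _) _ _ k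

theorem isQuasiRegular_map (h : CAlgX.IsQuasiRegular f) :
    CAlgX.IsQuasiRegular fun i => algebraMap R S (f i) := by
  classical
  refine QReg6.isQuasiRegular_of_eval_eq_zero fun n p hp h0 d => ?_
  by_cases hd : Finsupp.degree d = n
  swap
  · rw [hp.coeff_eq_zero hd]; exact zero_mem _
  let g : Deg c n → R := fun e => eval f (monomial e.1 1)
  have hsupp : ∀ e, p.coeff e ≠ 0 → e ∈ (Finset.univ : Finset (Fin c)).finsuppAntidiag n := fun e he => by
    refine Finset.mem_finsuppAntidiag.2 ⟨?_, Finset.subset_univ _⟩
    rw [← Finsupp.degree_eq_sum]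
    by_contra hne
    exact he (hp.coeff_eq_zero hne)
  have hsum : ∑ e : Deg c n, p.coeff e.1 * algebraMap R S (g e) = 0 := by
    have hrhs : ∀ e : Deg c n, p.coeff e.1 * algebraMap R S (g e) =
        eval (fun i => algebraMap R S (f i)) (monomial e.1 (p.coeff e.1)) := by
      intro e
      simp [g, eval_monomial, Finsupp.prod, map_prod]
    simp only [hrhs, ← map_sum]
    have hp' : ∑ e : Deg c n, monomial e.1 (p.coeff e.1) = p := by
      rw [Finset.sum_coe_sort _ (fun e => monomial e (p.coeff e))]
      conv_rhs => rw [as_sum p]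
      refine (Finset.sum_subset (fun e he => hsupp e (mem_support_iff.1 he)) fun e _ he => ?_).symm
      rw [notMem_support_iff.1 he, map_zero]
    rw [hp', h0]
  have hmem := mem_span_of_flat g hsum
  have hJ : Ideal.span (Set.range fun i => algebraMap R S (f i)) = (Ideal.span (Set.range f)).map (algebraMap R S) := by
    rw [Ideal.map_span, ← Set.range_comp]; rfl
  let e₀ : Deg c n := ⟨d, Finset.mem_finsuppAntidiag.2 ⟨by rw [← Finsupp.degree_eq_sum]; exact hd, Finset.subset_univ _⟩⟩
  suffices H : ∀ v ∈ Submodule.span S ((fun w : Deg c n → R => fun e => algebraMap R S (w e)) ''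
      {w | ∑ e, w e * g e = 0}), v e₀ ∈ Ideal.span (Set.range fun i => algebraMap R S (f i)) from H _ hmem
  intro v hv
  induction hv using Submodule.span_induction with
  | zero => exact zero_mem _
  | add a b _ _ ha hb => exact add_mem ha hb
  | smul s a _ ha => exact Ideal.mul_mem_left _ _ ha
  | mem v hv =>
    obtain ⟨w, hw, rfl⟩ := hv
    rw [hJ]
    refine Ideal.mem_map_of_mem _ ?_
    let q : MvPolynomial (Fin c) R := ∑ e : Deg c n, monomial e.1 (w e)
    have hq : q.IsHomogeneous n := MvPolynomial.IsHomogeneous.sum _ _ _ fun e _ => isHomogeneous_monomial _ (deg_eq e)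
    have hqe : eval f q = 0 := by
      rw [map_sum, ← hw]
      refine Finset.sum_congr rfl fun e _ => ?_
      simp [g, eval_monomial]
    have := h n q hq (by rw [hqe]; exact zero_mem _) d
    rwa [coeff_sum, Finset.sum_eq_single e₀ (fun b _ hb => by
      rw [coeff_monomial, if_neg]; exact fun he => hb (Subtype.ext he)) (by simp),
      coeff_monomial, if_pos rfl] at this

end FlatBC

end Groth.Agent.SDiv28.RegSeq
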