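import Groth.Agent.CAlgH.KoszulRegular
import Groth.Agent.SDiv28.RegSeq
import Mathlib

/-!
# Regular ⇒ Koszul regular ⇒ `H₁`-regular
-/

set_option autoImplicit false
set_option backward.isDefEq.respectTransparency false

universe u

open Groth.Agent.Disc12.Koszul Groth.Agent.CAlgH.KoszulRegular

namespace Groth.Agent.SDiv28.RegSeq

variable {R : Type u} [CommRing R] {n : ℕ}

theorem functional_single (f : Fin n → R) (i : Fin n) : functional f (Pi.single i 1) = f i := by
  classical
  rw [functional_apply, Finset.sum_eq_single i] <;> simp +contextual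

theorem isH1Regular_of_kreg {f : Fin n → R} (h : KReg f) : CAlgX.IsH1Regular f := by
  classical
  intro a ha
  let W := Submodule.span R {v : Fin n → R | ∃ i j : Fin n, v = Pi.single i (f j) - Pi.single j (f i)}
  have key : ∀ x ∈ ⋀[R]^2 (Fin n → R), ∃ w ∈ W, D (functional f) x = ExteriorAlgebra.ι R w := by
    intro x hx
    rw [ExteriorAlgebra.exteriorPower, pow_two] at hx
    induction hx using Submodule.mul_induction_on' with
    | mem_mul_mem u hu v hv =>
      obtain ⟨u, rfl⟩ := hu
      obtain ⟨v, rfl⟩ := hv
      refine ⟨functional f u • v - functional f v • u, ?_, ?_⟩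
      · have : functional f u • v - functional f v • u =
            ∑ i, ∑ j, (u i * v j) • (Pi.single j (f i) - Pi.single i (f j)) := by
          funext k
          simp only [Pi.sub_apply, Pi.smul_apply, smul_eq_mul, functional_apply, Finset.sum_apply,
            mul_sub, Finset.sum_sub_distrib, Pi.single_apply, mul_ite, mul_zero]
          simp only [Finset.sum_ite_eq, Finset.mem_univ, if_true, Finset.sum_mul]
          congr 1
          · exact Finset.sum_congr rfl fun i _ => by ring
          · rw [Finset.sum_comm]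
            simp only [Finset.sum_ite_eq, Finset.mem_univ, if_true]
            exact Finset.sum_congr rfl fun i _ => by ring
        rw [this]
        exact sum_mem fun i _ => sum_mem fun j _ => W.smul_mem _ (Submodule.subset_span ⟨j, i, rfl⟩)
      · rw [D_ι_mul, D_ι, map_sub, map_smul, map_smul, ← Algebra.commutes, ← Algebra.smul_def]
    | add x hx y hy hx' hy' =>
      obtain ⟨w, hw, hw'⟩ := hx'
      obtain ⟨z, hz, hz'⟩ := hy'
      exact ⟨w + z, add_mem hw hz, by rw [map_add, hw', hz', map_add]⟩
  let E : K R n 1 ≃ₗ[R] (Fin n → R) := exteriorPower.oneEquiv R (Fin n → R)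
  have hE : (E.symm a).1 = ExteriorAlgebra.ι R a := by
    simp [E, exteriorPower.oneEquiv, exteriorPower.ιMulti_apply_coe, ExteriorAlgebra.ιMulti_apply,
      List.ofFn_succ]
  have hx : d f 0 (E.symm a) = 0 := by
    rw [d_one_oneEquiv_symm, functional_apply, ha, map_zero]
  obtain ⟨y, hy⟩ := (h 0 _).1 hx
  obtain ⟨w, hw, hw'⟩ := key y.1 y.2
  have hyv : D (functional f) y.1 = ExteriorAlgebra.ι R a := (congrArg Subtype.val hy).trans hE
  exact (ExteriorAlgebra.ι_inj R _ _).1 (hw'.symm.trans hyv) ▸ hw

theorem kreg_of_regular {f : Fin n → R}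
    (h : RingTheory.Sequence.IsWeaklyRegular R (List.ofFn f)) : KReg f := by
  intro p
  refine exact_of_local f (fun m hm _ => ⟨1, fun h1 => hm.ne_top ((Ideal.eq_top_iff_one m).2 h1), ?_⟩) p
  refine exactUpTo_of_regular 1 f fun i r hr => ⟨0, ?_⟩
  rw [pow_zero, one_mul]
  have hlen : (i : ℕ) < (List.ofFn f).length := by simp
  have := h.regular_mod_prev i hlen
  rw [isSMulRegular_quotient_iff_mem_of_smul_mem] at this
  have hset : Ideal.ofList ((List.ofFn f).take i) = Ideal.span (f '' Set.Iio i) := by
    refine congrArg Ideal.span (Set.ext fun y => ?_)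
    simp only [Set.mem_setOf_eq, Set.mem_image, Set.mem_Iio, List.mem_take_iff_getElem, List.getElem_ofFn,
      List.length_ofFn]
    constructor
    · rintro ⟨j, hj, rfl⟩
      exact ⟨⟨j, by omega⟩, by simp only [Fin.lt_def]; omega, rfl⟩
    · rintro ⟨j, hj, rfl⟩
      exact ⟨j, by have := j.2; simp only [Fin.lt_def] at hj; omega, rfl⟩
  simp only [Ideal.mul_top, smul_eq_mul, List.getElem_ofFn, hset] at this
  exact this r hr

theorem seq_of_koszul {rs : List R} (h : LCI.IsKoszulRegularSeq R rs) : CAlgX.IsH1Regular rs.get := by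
  refine isH1Regular_of_kreg ((isKoszulRegularSeq_iff _).1 ?_)
  rwa [List.ofFn_get]

theorem seq_koszul_of_regular {rs : List R} (h : RingTheory.Sequence.IsWeaklyRegular R rs) :
    LCI.IsKoszulRegularSeq R rs := by
  rw [← List.ofFn_get rs] at h ⊢
  exact (isKoszulRegularSeq_iff _).2 (kreg_of_regular h)

end Groth.Agent.SDiv28.RegSeq
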