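import Groth.Agent.CAlgH.CIImmersion
import Groth.Agent.CAlgH.CIHom
import Groth.Agent.VarietyLib.SmoothStalk
import Mathlib

/-!
# Closed immersions of flat schemes into smooth schemes
-/

set_option autoImplicit false
universe u

open CategoryTheory CategoryTheory.Limits AlgebraicGeometry

namespace Groth.Agent.SDiv28.SmoothRegImm

theorem isRegularLocalRing_fiberStalk {X S : Scheme.{u}} (p : X ⟶ S) [Smooth p] (x : X) :
    IsRegularLocalRing (CInt.fiberStalk p x) := by
  have : Smooth (p.fiberToSpecResidueField (p x)) :=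
    MorphismProperty.of_isPullback (P := @Smooth)
      (IsPullback.of_hasPullback p (S.fromSpecResidueField (p x))) ‹_›
  exact VarietyLib.isRegularLocalRing_stalk_of_smooth (S.residueField (p x)) (p.fiber (p x))
    (p.fiberToSpecResidueField (p x)) (p.asFiber x)

theorem isRegularClosedImmersion {X Y S : Scheme.{u}} (p : X ⟶ S) [Smooth p] (i : Y ⟶ X)
    [IsClosedImmersion i] [Flat (i ≫ p)] [LocallyOfFinitePresentation (i ≫ p)]
    (hY : ∀ y : Y, Pi1.IsCompleteIntersection (CInt.fiberStalk (i ≫ p) y)) :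
    Mor2.IsRegularClosedImmersion i := by
  refine ⟨inferInstance, fun y => ?_⟩
  haveI := isRegularLocalRing_fiberStalk p (i y)
  obtain ⟨V, hyV, hV⟩ := CAlgH.CIImmersion.exists_isRegularClosedImmersion_of_ci p i y (hY y)
  obtain ⟨U, hU, hyU, rs, hrs, hker⟩ := CAlgH.CIImmersion.exists_regular_chart i y V hyV hV
  exact ⟨U, hU, hyU, rs, hrs, by rw [Scheme.Hom.ker_apply]; exact hker⟩

theorem isRegularClosedImmersion_section {X S : Scheme.{u}} (f : X ⟶ S) [Smooth f] (σ : S ⟶ X)
    (hσ : σ ≫ f = 𝟙 S) [IsClosedImmersion σ] : Mor2.IsRegularClosedImmersion σ := by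
  haveI : Smooth (σ ≫ f) := by rw [hσ]; infer_instance
  refine isRegularClosedImmersion f σ fun y => ?_
  haveI := isRegularLocalRing_fiberStalk (σ ≫ f) y
  exact CAlgH.CIHom.isCompleteIntersection_of_regularLocal

end Groth.Agent.SDiv28.SmoothRegImm
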