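import Groth.Agent.SDiv28.SchDenseAss
import Groth.Agent.CAlgH.RegImmStalk
import Groth.Agent.CAlgH3.RegularCore
import Groth.Agent.ModPairLib.EffCartier
import Mathlib

/-!
# Effective Cartier ideals through their stalks
-/

set_option autoImplicit false
set_option backward.isDefEq.respectTransparency.types false
universe u

open CategoryTheory AlgebraicGeometry Opposite TopologicalSpace
open Groth.Agent.AssSch12
open Groth.Agent.ModPairLib (res)

namespace Groth.Agent.SDiv28.StalkCartier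

variable {X : Scheme.{u}}

/-- The local equation of an effective Cartier ideal cuts out the stalk kernel. -/
theorem exists_ker_stalkMap {I : X.IdealSheafData} (hI : BlowUp.IsEffCartierIdeal I) (z : I.subscheme) :
    ∃ g : X.presheaf.stalk (I.subschemeι z), g ∈ nonZeroDivisors (X.presheaf.stalk (I.subschemeι z)) ∧
      RingHom.ker (I.subschemeι.stalkMap z).hom = Ideal.span {g} := by
  obtain ⟨U, hxU, f, hf, hfI⟩ := hI (I.subschemeι z)
  letI := X.presheaf.algebra_section_stalk (⟨_, hxU⟩ : U.1)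
  haveI := U.2.isLocalization_stalk ⟨_, hxU⟩
  haveI : IsClosedImmersion (I.subschemeι ∣_ U.1) := inferInstance
  refine ⟨X.presheaf.germ U.1 _ hxU f, IsLocalization.map_nonZeroDivisors_le
    (U.2.primeIdealOf ⟨_, hxU⟩).asIdeal.primeCompl _ (Submonoid.mem_map_of_mem _ hf), ?_⟩
  rw [CAlgH.RegImmStalk.ker_stalkMap_eq I.subschemeι z U.2 hxU, I.ker_subschemeι_app U, hfI, Ideal.map_span,
    Set.image_singleton]

theorem one_le_dim [IsLocallyNoetherian X] {I : X.IdealSheafData} (hI : BlowUp.IsEffCartierIdeal I)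
    (x : X) (hx : x ∈ I.support) : 1 ≤ ringKrullDim (X.presheaf.stalk x) := by
  obtain ⟨z, rfl⟩ := I.range_subschemeι.ge hx
  obtain ⟨g, hg, hker⟩ := exists_ker_stalkMap hI z
  have h1 := ringKrullDim_quotient_succ_le_of_nonZeroDivisor hg
  haveI : Nontrivial (X.presheaf.stalk (I.subschemeι z) ⧸ Ideal.span {g}) :=
    Ideal.Quotient.nontrivial_iff.2 (hker ▸ RingHom.ker_ne_top _)
  refine le_trans ?_ h1
  calc (1 : WithBot ℕ∞) = 0 + 1 := (zero_add 1).symm
    _ ≤ _ := by gcongr; exact ringKrullDim_nonneg_of_nontrivial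

theorem exists_dvr [IsLocallyNoetherian X] {I : X.IdealSheafData} (hI : BlowUp.IsEffCartierIdeal I)
    [IsIntegral I.subscheme] (ξ : X) (hξ : IsGenericPoint ξ (I.support : Set X)) :
    ∃ _ : IsDomain (X.presheaf.stalk ξ), IsDiscreteValuationRing (X.presheaf.stalk ξ) := by
  have hr : IsGenericPoint (I.subschemeι (genericPoint I.subscheme)) (I.support : Set X) := by
    have h := (genericPoint_spec I.subscheme).image I.subschemeι.continuous
    rw [Set.image_univ, I.range_subschemeι, I.support.isClosed.closure_eq] at h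
    exact h
  obtain rfl := hξ.eq hr
  obtain ⟨g, hg, hker⟩ := exists_ker_stalkMap hI (genericPoint I.subscheme)
  let R := X.presheaf.stalk (I.subschemeι (genericPoint I.subscheme))
  have hfld : IsField (R ⧸ RingHom.ker (I.subschemeι.stalkMap (genericPoint I.subscheme)).hom) :=
    MulEquiv.isField (Field.toIsField I.subscheme.functionField)
      (RingHom.quotientKerEquivOfSurjective (I.subschemeι.stalkMap_surjective _)).toMulEquiv
  have hmax : Ideal.span {g} = IsLocalRing.maximalIdeal R := by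
    refine IsLocalRing.eq_maximalIdeal ?_
    rw [← hker]
    exact Ideal.Quotient.maximal_of_isField _ hfld
  haveI : Nontrivial (R ⧸ Ideal.span {g}) := Ideal.Quotient.nontrivial_iff.2 (hker ▸ RingHom.ker_ne_top _)
  have hdim : (1 : WithBot ℕ∞) ≤ ringKrullDim R :=
    one_le_dim hI _ (I.range_subschemeι.le ⟨_, rfl⟩)
  haveI : IsRegularLocalRing R := by
    refine IsRegularLocalRing.of_spanFinrank_maximalIdeal_le R ?_
    refine le_trans ?_ hdim
    have : (IsLocalRing.maximalIdeal R).spanFinrank ≤ 1 := by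
      rw [← hmax]
      exact (Submodule.spanFinrank_span_le_ncard_of_finite (Set.finite_singleton g)).trans (Set.ncard_singleton g).le
    exact_mod_cast this
  haveI := CAlgH3.isDomain_of_isRegularLocalRing R
  refine ⟨inferInstance, ?_⟩
  have hnf : ¬ IsField R := fun h => by
    rw [ringKrullDim_eq_zero_of_isField h] at hdim
    exact absurd hdim (by decide)
  refine ((IsDiscreteValuationRing.TFAE R hnf).out 0 4).2 ?_
  exact ⟨⟨g, hmax.symm⟩⟩

/-- An ideal principal at the stalk by a nonzerodivisor is effective Cartier nearby. -/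
theorem exists_nhd_of_stalk [IsLocallyNoetherian X] (I : X.IdealSheafData) {x : X} (U : X.affineOpens)
    (hxU : x ∈ U.1) {g : X.presheaf.stalk x} (hg : g ∈ nonZeroDivisors (X.presheaf.stalk x))
    (hgI : (I.ideal U).map (X.presheaf.germ U.1 x hxU).hom = Ideal.span {g}) :
    ∃ V : X.affineOpens, x ∈ V.1 ∧
      ∃ f : Γ(X, V.1), f ∈ nonZeroDivisors Γ(X, V.1) ∧ I.ideal V = Ideal.span {f} := by
  classical
  obtain ⟨U, hU⟩ := U
  haveI := isNoetherianRing_of_isAffineOpen hU
  letI := TopCat.Presheaf.algebra_section_stalk X.presheaf (⟨x, hxU⟩ : U)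
  haveI := hU.isLocalization_stalk ⟨x, hxU⟩
  let A := Γ(X, U)
  let R := X.presheaf.stalk x
  let p := primeAt hU hxU
  haveI : p.IsPrime := (hU.primeIdealOf ⟨x, hxU⟩).2
  haveI : IsLocalization p.primeCompl R := hU.isLocalization_stalk ⟨x, hxU⟩
  let I₀ := I.ideal ⟨U, hU⟩
  have hI₀ : I₀.map (algebraMap A R) = Ideal.span {g} := hgI
  obtain ⟨⟨⟨a, ha⟩, s₀⟩, hs₀⟩ := (IsLocalization.mem_map_algebraMap_iff p.primeCompl R).1
    (show g ∈ I₀.map (algebraMap A R) from hI₀.ge (Ideal.mem_span_singleton_self g))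
  have hs₀u : IsUnit (algebraMap A R (s₀ : A)) := IsLocalization.map_units R s₀
  have ha0 : algebraMap A R a ∈ nonZeroDivisors R := by
    rw [← hs₀]; exact mul_mem hg hs₀u.mem_nonZeroDivisors
  have hgen : Ideal.span {algebraMap A R a} = Ideal.span {g} := by
    rw [← hs₀]
    exact Ideal.span_singleton_mul_right_unit hs₀u g
  obtain ⟨T, hT⟩ := IsNoetherian.noetherian I₀
  have hK : (LinearMap.ker (LinearMap.mulRight A a)).FG := IsNoetherian.noetherian _
  obtain ⟨S, hS⟩ := hK
  have h1 : ∀ t ∈ T, ∃ s : A, s ∉ p ∧ s * t ∈ Ideal.span {a} := by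
    intro t ht
    have : algebraMap A R t ∈ (Ideal.span {a}).map (algebraMap A R) := by
      rw [Ideal.map_span, Set.image_singleton, hgen, ← hI₀]
      exact Ideal.mem_map_of_mem _ (hT ▸ Submodule.subset_span ht)
    obtain ⟨⟨⟨c, hc⟩, s⟩, hs⟩ := (IsLocalization.mem_map_algebraMap_iff p.primeCompl R).1 this
    rw [← map_mul] at hs
    obtain ⟨u, hu⟩ := (IsLocalization.eq_iff_exists p.primeCompl R).1 hs
    refine ⟨u * s, (u * s).2, ?_⟩
    rw [mul_assoc, mul_comm (s : A), hu]
    exact Ideal.mul_mem_left _ _ hc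
  have h2 : ∀ k ∈ S, ∃ s : A, s ∉ p ∧ s * k = 0 := by
    intro k hk
    have hka : k * a = 0 := LinearMap.mem_ker.1 (hS ▸ Submodule.subset_span hk)
    have : algebraMap A R k = 0 := by
      refine mem_nonZeroDivisors_iff_right.1 ha0 _ ?_
      rw [← map_mul, hka, map_zero]
    obtain ⟨u, hu⟩ := (IsLocalization.map_eq_zero_iff p.primeCompl R k).1 this
    exact ⟨u, u.2, hu⟩
  choose! s₁ hs₁p hs₁ using h1
  choose! s₂ hs₂p hs₂ using h2
  let s := (∏ t ∈ T, s₁ t) * ∏ k ∈ S, s₂ k
  have hsp : s ∉ p := fun hs => (Ideal.IsPrime.mem_or_mem ‹p.IsPrime› hs).elim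
    (fun h' => by obtain ⟨i, hi, hm⟩ := Ideal.IsPrime.prod_mem_iff.1 h'; exact hs₁p i hi hm)
    (fun h' => by obtain ⟨i, hi, hm⟩ := Ideal.IsPrime.prod_mem_iff.1 h'; exact hs₂p i hi hm)
  haveI := hU.isLocalization_basicOpen s
  have hsu : IsUnit (res (X.basicOpen_le s) s) := RingedSpace.isUnit_res_basicOpen X.toRingedSpace s
  refine ⟨⟨X.basicOpen s, hU.basicOpen s⟩, (notMem_primeAt_iff hU hxU s).1 hsp,
    res (X.basicOpen_le s) a, ?_, ?_⟩
  · rw [mem_nonZeroDivisors_iff_right]
    intro z hz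
    obtain ⟨⟨w, u⟩, hw⟩ := IsLocalization.surj (Submonoid.powers s) z
    have h0 : algebraMap A Γ(X, X.basicOpen s) (w * a) = 0 := by
      rw [map_mul, ← hw]
      show z * algebraMap _ _ (u : A) * res (X.basicOpen_le s) a = 0
      rw [mul_right_comm, hz, zero_mul]
    obtain ⟨⟨_, m, rfl⟩, hm⟩ := (IsLocalization.map_eq_zero_iff (Submonoid.powers s) _ _).1 h0
    have hk : s ^ m * w ∈ Submodule.span A (S : Set A) := by
      rw [hS]; exact LinearMap.mem_ker.2 (by rw [LinearMap.mulRight_apply, mul_assoc]; exact hm)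
    have hkill : ∀ k ∈ Submodule.span A (S : Set A), s * k = 0 := by
      intro k hk
      induction hk using Submodule.span_induction with
      | mem k hk =>
        show ((∏ t ∈ T, s₁ t) * ∏ j ∈ S, s₂ j) * k = 0
        rw [← Finset.prod_erase_mul S s₂ hk, mul_assoc, mul_assoc, hs₂ k hk, mul_zero, mul_zero]
      | zero => rw [mul_zero]
      | add x y _ _ hx hy => rw [mul_add, hx, hy, add_zero]
      | smul c x _ hx => rw [smul_eq_mul, mul_left_comm, hx, mul_zero]
    have h2' : algebraMap A Γ(X, X.basicOpen s) w = 0 :=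
      (IsLocalization.map_eq_zero_iff (Submonoid.powers s) _ _).2
        ⟨⟨s ^ (m + 1), m + 1, rfl⟩, by show s ^ (m + 1) * w = 0; rw [pow_succ', mul_assoc, hkill _ hk]⟩
    exact (IsLocalization.map_units _ u).mul_left_eq_zero.1 (hw.trans h2')
  · rw [← I.map_ideal (U := ⟨X.basicOpen s, hU.basicOpen s⟩) (V := ⟨U, hU⟩) (X.basicOpen_le s)]
    refine le_antisymm (Ideal.map_le_iff_le_comap.2 ?_) ?_
    · show I₀ ≤ _
      rw [← hT, Submodule.span_le]
      intro t ht
      obtain ⟨c, hc⟩ := Ideal.mem_span_singleton'.1 (hs₁ t ht)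
      show res (X.basicOpen_le s) t ∈ Ideal.span {res (X.basicOpen_le s) a}
      refine (Ideal.unit_mul_mem_iff_mem _ hsu).1 ?_
      rw [← map_mul]
      have : s * t = ((∏ i ∈ T.erase t, s₁ i) * (∏ k ∈ S, s₂ k) * c) * a := by
        show (∏ i ∈ T, s₁ i) * (∏ k ∈ S, s₂ k) * t = _
        rw [← Finset.prod_erase_mul T s₁ ht]
        linear_combination (-(∏ i ∈ T.erase t, s₁ i) * ∏ k ∈ S, s₂ k) * hc
      rw [this, map_mul]
      exact Ideal.mul_mem_left _ _ (Ideal.mem_span_singleton_self _)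
    · rw [Ideal.span_singleton_le_iff_mem]
      exact Ideal.mem_map_of_mem _ ha

theorem isEffCartierIdeal_of_stalks [IsLocallyNoetherian X] (D : X.IdealSheafData)
    (h : ∀ x ∈ D.support, ∀ (U : X.affineOpens) (hx : x ∈ (U : X.Opens)),
      ∃ g : X.presheaf.stalk x, g ∈ nonZeroDivisors (X.presheaf.stalk x) ∧
        (D.ideal U).map (X.presheaf.germ U x hx).hom = Ideal.span {g}) :
    BlowUp.IsEffCartierIdeal D := by
  intro x
  by_cases hx : x ∈ D.support
  · obtain ⟨_, ⟨U, hU, rfl⟩, hxU, -⟩ :=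
      X.isBasis_affineOpens.exists_subset_of_mem_open (Set.mem_univ x) isOpen_univ
    obtain ⟨g, hg, hgI⟩ := h x hx ⟨U, hU⟩ hxU
    exact exists_nhd_of_stalk D ⟨U, hU⟩ hxU hg hgI
  · obtain ⟨V, hV, hxV, hVc⟩ :=
      Opens.isBasis_iff_nbhd.mp X.isBasis_affineOpens (show x ∈ D.support.compl from hx)
    refine ⟨⟨V, hV⟩, hxV, 1, one_mem _, ?_⟩
    rw [Ideal.span_singleton_one, Ideal.eq_top_iff_one]
    by_contra h1
    obtain ⟨m, hm, hle⟩ := Ideal.exists_le_maximal (D.ideal ⟨V, hV⟩) ((Ideal.ne_top_iff_one _).2 h1)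
    haveI := hm.isPrime
    obtain ⟨y, hy, rfl⟩ := exists_point hV m
    refine hVc hy ((D.mem_support_iff_of_mem (U := ⟨V, hV⟩) hy).2 ?_)
    rw [Scheme.mem_zeroLocus_iff]
    exact fun f hf => fun hmem => (notMem_primeAt_iff hV hy f).2 hmem (hle hf)

end Groth.Agent.SDiv28.StalkCartier
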