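import Groth.Agent.FlatMorSlice.Regular
import Groth.Agent.ProjLib.IdealComap
import Groth.Agent.Props12.Stalks
import Groth.Agent.ModPairLib.EffCartier
import Groth.Agent.SDiv28.StalkCartier
import Groth.Prelude.Def_CurvBase
import Mathlib

/-!
# Fibrewise effective Cartier ideals (EGA IV 11.3.8, one equation)
-/

set_option autoImplicit false
set_option backward.isDefEq.respectTransparency.types false
universe u

open CategoryTheory CategoryTheory.Limits AlgebraicGeometry Opposite TopologicalSpace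
open Groth.Agent.AssSch12
open Groth.Agent.ModPairLib (res res_res)

namespace Groth.Agent.SDiv28.FibreCartier

/-- The germs of the ideals of two affine opens around a point agree. -/
theorem germ_ideal_eq {X : Scheme.{u}} (I : X.IdealSheafData) {x : X} (U V : X.affineOpens)
    (hU : x ∈ U.1) (hV : x ∈ V.1) :
    (I.ideal U).map (X.presheaf.germ U.1 x hU).hom = (I.ideal V).map (X.presheaf.germ V.1 x hV).hom := by
  obtain ⟨W, hW, hxW, hle⟩ := Opens.isBasis_iff_nbhd.mp X.isBasis_affineOpens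
    (show x ∈ U.1 ⊓ V.1 from ⟨hU, hV⟩)
  have key : ∀ (O : X.affineOpens) (hO : x ∈ O.1) (h : W ≤ O.1),
      (I.ideal O).map (X.presheaf.germ O.1 x hO).hom =
        (I.ideal ⟨W, hW⟩).map (X.presheaf.germ W x hxW).hom := by
    intro O hO h
    rw [← I.map_ideal (U := ⟨W, hW⟩) (V := O) h, Ideal.map_map, ← CommRingCat.hom_comp]
    exact congrArg (fun ψ => Ideal.map (CommRingCat.Hom.hom ψ) _) (X.presheaf.germ_res (homOfLE h) x hxW).symm
  rw [key U hU (hle.trans inf_le_left), key V hV (hle.trans inf_le_right)]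

/-- Germs of an inverse image ideal. -/
theorem stalk_comap {X T : Scheme.{u}} (g : T ⟶ X) (I : X.IdealSheafData) (w : T) (U : X.affineOpens)
    (hw : g w ∈ U.1) (U' : T.affineOpens) (hw' : w ∈ U'.1) :
    ((I.ideal U).map (X.presheaf.germ U.1 (g w) hw).hom).map (g.stalkMap w).hom =
      ((I.comap g).ideal U').map (T.presheaf.germ U'.1 w hw').hom := by
  obtain ⟨W, hW, hwW, hle⟩ := Opens.isBasis_iff_nbhd.mp T.isBasis_affineOpens
    (show w ∈ g ⁻¹ᵁ U.1 from hw)
  rw [germ_ideal_eq (I.comap g) U' ⟨W, hW⟩ hw' hwW, ProjLib.comap_ideal_eq I g U ⟨W, hW⟩ hle,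
    Ideal.map_map, Ideal.map_map, ← CommRingCat.hom_comp, ← CommRingCat.hom_comp]
  congr 2
  rw [Scheme.Hom.germ_stalkMap, Scheme.Hom.appLE, Category.assoc, T.presheaf.germ_res]

/-- If a principal ideal is generated by a nonzerodivisor, its generator is one. -/
theorem nzd_of_span_eq {R : Type u} [CommRing R] {a b : R} (hb : b ∈ nonZeroDivisors R)
    (h : Ideal.span {a} = Ideal.span {b}) : a ∈ nonZeroDivisors R := by
  obtain ⟨c, hc⟩ := Ideal.mem_span_singleton'.1 (h ▸ Ideal.mem_span_singleton_self b)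
  rw [← hc] at hb
  exact (mul_mem_nonZeroDivisors.1 hb).2

theorem fibre_nzd {X S : Scheme.{u}} (φ : X ⟶ S) (I : X.IdealSheafData) (s : S) (w : ↥(φ.fiber s))
    (hfib : BlowUp.IsEffCartierIdeal (I.comap (φ.fiberι s))) (U : X.affineOpens)
    (hw : φ.fiberι s w ∈ U.1) (f : Γ(X, U.1)) (hf : I.ideal U = Ideal.span {f}) :
    (φ.fiberι s).stalkMap w (X.presheaf.germ U.1 _ hw f) ∈ nonZeroDivisors ((φ.fiber s).presheaf.stalk w) := by
  obtain ⟨U', hw', g, hg, hgI⟩ := hfib w
  have h := stalk_comap (φ.fiberι s) I w U hw U' hw'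
  rw [hf, hgI, Ideal.map_span, Ideal.map_span, Ideal.map_span, Set.image_singleton, Set.image_singleton,
    Set.image_singleton] at h
  refine nzd_of_span_eq ?_ h
  letI := (φ.fiber s).presheaf.algebra_section_stalk (⟨w, hw'⟩ : U'.1)
  haveI := U'.2.isLocalization_stalk ⟨w, hw'⟩
  exact IsLocalization.map_nonZeroDivisors_le (U'.2.primeIdealOf ⟨w, hw'⟩).asIdeal.primeCompl _
    (Submonoid.mem_map_of_mem _ hg)

theorem fibre_nzd_at {X S : Scheme.{u}} (φ : X ⟶ S) (I : X.IdealSheafData)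
    (hfib : ∀ s : ↥S, BlowUp.IsEffCartierIdeal (I.comap (φ.fiberι s))) (x : X) (U : X.affineOpens)
    (hx : x ∈ U.1) (f : Γ(X, U.1)) (hf : I.ideal U = Ideal.span {f}) (y : Γ(X, U.1))
    (hy : X.presheaf.germ U.1 x hx (f * y) ∈
      (IsLocalRing.maximalIdeal (S.presheaf.stalk (φ x))).map (φ.stalkMap x).hom) :
    X.presheaf.germ U.1 x hx y ∈
      (IsLocalRing.maximalIdeal (S.presheaf.stalk (φ x))).map (φ.stalkMap x).hom := by
  suffices key : ∀ (s : S) (w : ↥(φ.fiber s)) (x₀ : X), φ.fiberι s w = x₀ → ∀ hx₀ : x₀ ∈ U.1,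
      X.presheaf.germ U.1 x₀ hx₀ (f * y) ∈
        (IsLocalRing.maximalIdeal (S.presheaf.stalk (φ x₀))).map (φ.stalkMap x₀).hom →
      X.presheaf.germ U.1 x₀ hx₀ y ∈
        (IsLocalRing.maximalIdeal (S.presheaf.stalk (φ x₀))).map (φ.stalkMap x₀).hom from
    key (φ x) (φ.asFiber x) x (φ.fiberι_asFiber x) hx hy
  rintro s w _ rfl hx hy
  obtain ⟨-, hker⟩ := Props12.stalkMap_fiberι φ s w
  have hn := fibre_nzd φ I s w (hfib s) U hx f hf
  rw [← hker, RingHom.mem_ker, map_mul, map_mul] at hy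
  rw [← hker, RingHom.mem_ker]
  exact (mul_right_mem_nonZeroDivisors_eq_zero_iff hn).1 ((mul_comm _ _).trans hy)

set_option maxHeartbeats 800000 in
theorem chart {X S : Scheme.{u}} (φ : X ⟶ S) [Flat φ] [LocallyOfFinitePresentation φ]
    (I : X.IdealSheafData) (hfib : ∀ s : ↥S, BlowUp.IsEffCartierIdeal (I.comap (φ.fiberι s)))
    (x : X) (U : X.affineOpens) (hxU : x ∈ U.1) (V : S.affineOpens) (e : U.1 ≤ φ ⁻¹ᵁ V.1)
    (f : Γ(X, U.1)) (hf : I.ideal U = Ideal.span {f}) :
    ∃ (W : X.affineOpens) (_ : x ∈ W.1) (e' : W.1 ≤ φ ⁻¹ᵁ V.1), ∃ g : Γ(X, W.1),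
      g ∈ nonZeroDivisors Γ(X, W.1) ∧ I.ideal W = Ideal.span {g} ∧
      ((Ideal.Quotient.mk (Ideal.span {g})).comp (φ.appLE V.1 W.1 e').hom).Flat := by
  obtain ⟨U, hU⟩ := U
  obtain ⟨V, hV⟩ := V
  let A := Γ(S, V)
  let B := Γ(X, U)
  have hfin := LocallyOfFinitePresentation.finitePresentation_appLE φ hV hU e
  have hflat : (φ.appLE V U e).hom.Flat := HasRingHomProperty.appLE @Flat φ ‹_› ⟨V, hV⟩ ⟨U, hU⟩ e
  letI : Algebra A B := (φ.appLE V U e).hom.toAlgebra
  haveI : Algebra.FinitePresentation A B := hfin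
  haveI : Module.Flat A B := hflat
  let q := hU.primeIdealOf ⟨x, hxU⟩
  letI := X.presheaf.algebra_section_stalk (⟨x, hxU⟩ : U)
  haveI : IsLocalization q.asIdeal.primeCompl (X.presheaf.stalk x) := hU.isLocalization_stalk ⟨x, hxU⟩
  have hxV : φ x ∈ V := e hxU
  let m := IsLocalRing.maximalIdeal (S.presheaf.stalk (φ x))
  have hcomp : (X.presheaf.germ U x hxU).hom.comp (algebraMap A B) =
      (φ.stalkMap x).hom.comp (S.presheaf.germ V (φ x) hxV).hom := by
    rw [RingHom.algebraMap_toAlgebra, ← CommRingCat.hom_comp, ← CommRingCat.hom_comp]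
    congr 1
    rw [Scheme.Hom.germ_stalkMap, Scheme.Hom.appLE, Category.assoc, X.presheaf.germ_res]
  let p := q.asIdeal.comap (algebraMap A B)
  have hp : p = (hV.primeIdealOf ⟨φ x, hxV⟩).asIdeal := by
    ext a
    show algebraMap A B a ∈ q.asIdeal ↔ _
    rw [← not_iff_not, show (algebraMap A B a ∉ q.asIdeal) ↔ _ from notMem_primeAt_iff hU hxU _,
      show (a ∉ (hV.primeIdealOf ⟨φ x, hxV⟩).asIdeal) ↔ _ from notMem_primeAt_iff hV hxV _,
      Scheme.mem_basicOpen X _ x hxU, Scheme.mem_basicOpen S _ _ hxV]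
    rw [show X.presheaf.germ U x hxU (algebraMap A B a) =
      (φ.stalkMap x).hom (S.presheaf.germ V (φ x) hxV a) from RingHom.congr_fun hcomp a]
    exact isUnit_map_iff _ _
  have hmax : m = p.map (S.presheaf.germ V (φ x) hxV).hom := by
    letI := S.presheaf.algebra_section_stalk (⟨φ x, hxV⟩ : V)
    haveI := hV.isLocalization_stalk ⟨φ x, hxV⟩
    rw [hp]
    exact (IsLocalization.AtPrime.map_eq_maximalIdeal (hV.primeIdealOf ⟨φ x, hxV⟩).asIdeal
      (S.presheaf.stalk (φ x))).symm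
  have hpB : (p.map (algebraMap A B)).map (X.presheaf.germ U x hxU).hom = m.map (φ.stalkMap x).hom := by
    rw [hmax, Ideal.map_map, Ideal.map_map, hcomp]
  have hr : FlatMorSlice.FibReg A q.asIdeal [f] := by
    intro i hi y hc
    obtain rfl : i = 0 := by simpa using hi
    simp only [List.take_zero, Ideal.ofList_nil, sup_bot_eq, List.getElem_cons_zero] at hc ⊢
    obtain ⟨c, hc, hcy⟩ := hc
    have hcu : IsUnit (X.presheaf.germ U x hxU c) := IsLocalization.map_units _ (⟨c, hc⟩ : q.asIdeal.primeCompl)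
    have h1 : X.presheaf.germ U x hxU (f * y) ∈ m.map (φ.stalkMap x).hom := by
      have := Ideal.mem_map_of_mem (X.presheaf.germ U x hxU).hom hcy
      rw [hpB, map_mul] at this
      exact (Ideal.unit_mul_mem_iff_mem _ hcu).1 this
    have h2 := fibre_nzd_at φ I hfib x ⟨U, hU⟩ hxU f hf y h1
    rw [← hpB] at h2
    obtain ⟨d, hd, hdy⟩ := (IsLocalization.algebraMap_mem_map_algebraMap_iff q.asIdeal.primeCompl
      (X.presheaf.stalk x) _ _).1 h2
    exact ⟨d, hd, hdy⟩
  have hq : Module.Flat A (LocalizedModule q.asIdeal.primeCompl B) :=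
    Module.Flat.trans A B (LocalizedModule q.asIdeal.primeCompl B)
  obtain ⟨c, hc, htor, hfl⟩ := FlatMorSlice.exists_regular_sequence q hq [f] hr
  have hxc : x ∈ X.basicOpen c := (notMem_primeAt_iff hU hxU c).1 hc
  haveI := hU.isLocalization_basicOpen c
  have hgI : I.ideal ⟨X.basicOpen c, hU.basicOpen c⟩ = Ideal.span {res (X.basicOpen_le c) f} :=
    ModPairLib.ideal_restrict I (U := ⟨U, hU⟩) (V := ⟨X.basicOpen c, hU.basicOpen c⟩) (X.basicOpen_le c) hf
  suffices h : res (X.basicOpen_le c) f ∈ nonZeroDivisors Γ(X, X.basicOpen c) ∧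
      ((Ideal.Quotient.mk (Ideal.span {res (X.basicOpen_le c) f})).comp
        (φ.appLE V (X.basicOpen c) ((X.basicOpen_le c).trans e)).hom).Flat from
    Exists.intro ⟨X.basicOpen c, hU.basicOpen c⟩ (Exists.intro hxc (Exists.intro ((X.basicOpen_le c).trans e)
      (Exists.intro (res (X.basicOpen_le c) f) ⟨h.1, hgI, h.2⟩)))
  refine ⟨?_, ?_⟩
  · rw [mem_nonZeroDivisors_iff_right]
    intro z hz
    obtain ⟨⟨a, d⟩, hd⟩ := IsLocalization.surj (Submonoid.powers c) z
    have h0 : algebraMap B Γ(X, X.basicOpen c) (a * f) = 0 := by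
      rw [map_mul, ← hd]
      show z * algebraMap _ _ (d : B) * res (X.basicOpen_le c) f = 0
      rw [mul_right_comm, hz, zero_mul]
    obtain ⟨⟨_, n, rfl⟩, hn⟩ := (IsLocalization.map_eq_zero_iff (Submonoid.powers c) _ _).1 h0
    change c ^ n * (a * f) = 0 at hn
    obtain ⟨k, hk⟩ := htor 0 (by simp) (c ^ n * a) (by
      simp only [List.take_zero, Ideal.ofList_nil, List.getElem_cons_zero, Ideal.mem_bot]
      rw [← hn]; ring)
    simp only [List.take_zero, Ideal.ofList_nil, Ideal.mem_bot, ← mul_assoc, ← pow_add] at hk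
    have h2 : algebraMap B Γ(X, X.basicOpen c) a = 0 :=
      (IsLocalization.map_eq_zero_iff (Submonoid.powers c) _ _).2 ⟨⟨c ^ (k + n), k + n, rfl⟩, hk⟩
    exact (IsLocalization.map_units _ d).mul_left_eq_zero.1 (hd.trans h2)
  · let B' := Γ(X, X.basicOpen c)
    letI : Algebra A B' := (φ.appLE V (X.basicOpen c) ((X.basicOpen_le c).trans e)).hom.toAlgebra
    haveI : IsScalarTower A B B' := .of_algebraMap_eq' (by
      show (φ.appLE V (X.basicOpen c) _).hom = _
      rw [RingHom.algebraMap_toAlgebra (φ.appLE V U e).hom]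
      exact (congrArg CommRingCat.Hom.hom (φ.appLE_map e (homOfLE (X.basicOpen_le c)).op)).symm)
    have hmap : (Ideal.ofList [f]).map (algebraMap B B') = Ideal.span {res (X.basicOpen_le c) f} := by
      rw [Ideal.ofList_singleton, Ideal.map_span, Set.image_singleton]; rfl
    haveI := FlatMorSlice.flat_away_of_forall (A := A) c hfl
    let M' := (Ideal.ofList [f]).localized' B' (Submonoid.powers c) (Algebra.linearMap B B')
    haveI : IsLocalizedModule (Submonoid.powers c)
        (Submodule.toLocalizedQuotient' B' (Submonoid.powers c) (Algebra.linearMap B B') (Ideal.ofList [f])) :=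
      inferInstance
    have hM : M' = Ideal.span {res (X.basicOpen_le c) f} :=
      (Ideal.localized'_eq_map B' (Submonoid.powers c) _).trans hmap
    have hFl : Module.Flat A (B' ⧸ M') :=
      Module.Flat.of_linearEquiv ((IsLocalizedModule.iso (Submonoid.powers c)
        (Submodule.toLocalizedQuotient' B' (Submonoid.powers c) (Algebra.linearMap B B')
          (Ideal.ofList [f]))).restrictScalars A).symm
    rw [hM] at hFl
    exact hFl

theorem exists_principal {X : Scheme.{u}} (I : X.IdealSheafData) (hI : Curv2.IsLocPrincipal I) (x : X) :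
    ∃ U : X.affineOpens, x ∈ U.1 ∧ ∃ f : Γ(X, U.1), I.ideal U = Ideal.span {f} := by
  by_cases hx : x ∈ I.support
  · exact hI x hx
  · obtain ⟨V, hV, hxV, hVc⟩ :=
      Opens.isBasis_iff_nbhd.mp X.isBasis_affineOpens (show x ∈ I.support.compl from hx)
    refine ⟨⟨V, hV⟩, hxV, 1, ?_⟩
    rw [Ideal.span_singleton_one, Ideal.eq_top_iff_one]
    by_contra h1
    obtain ⟨m, hm, hle⟩ := Ideal.exists_le_maximal (I.ideal ⟨V, hV⟩) ((Ideal.ne_top_iff_one _).2 h1)
    haveI := hm.isPrime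
    obtain ⟨y, hy, rfl⟩ := exists_point hV m
    refine hVc hy ((I.mem_support_iff_of_mem (U := ⟨V, hV⟩) hy).2 ?_)
    rw [Scheme.mem_zeroLocus_iff]
    exact fun f hf => fun hmem => (notMem_primeAt_iff hV hy f).2 hmem (hle hf)

/-- A locally principal ideal that is effective Cartier on all fibres of a flat morphism is a relative
effective Cartier divisor. -/
theorem isRelEffCartier {X S : Scheme.{u}} (φ : X ⟶ S) [Flat φ] [LocallyOfFinitePresentation φ]
    (I : X.IdealSheafData) (hI : Curv2.IsLocPrincipal I)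
    (hfib : ∀ s : ↥S, BlowUp.IsEffCartierIdeal (I.comap (φ.fiberι s))) :
    BlowUp.IsEffCartierIdeal I ∧ Flat (I.subschemeι ≫ φ) := by
  have key : ∀ x : X, ∃ (V : S.affineOpens) (W : X.affineOpens) (_ : x ∈ W.1) (e : W.1 ≤ φ ⁻¹ᵁ V.1),
      ∃ g : Γ(X, W.1), g ∈ nonZeroDivisors Γ(X, W.1) ∧ I.ideal W = Ideal.span {g} ∧
        ((Ideal.Quotient.mk (Ideal.span {g})).comp (φ.appLE V.1 W.1 e).hom).Flat := by
    intro x
    obtain ⟨U, hxU, f, hf⟩ := exists_principal I hI x
    obtain ⟨V, hV, hxV, -⟩ := Opens.isBasis_iff_nbhd.mp S.isBasis_affineOpens (Opens.mem_top (φ x))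
    obtain ⟨c, hc, hxc⟩ := U.2.exists_basicOpen_le (V := φ ⁻¹ᵁ V) ⟨x, hxV⟩ hxU
    obtain ⟨W, hxW, e, g, hg⟩ := chart φ I hfib x (X.affineBasicOpen c) hxc ⟨V, hV⟩ hc _
      (ModPairLib.ideal_restrict I (V := X.affineBasicOpen c) (X.basicOpen_le c) hf)
    exact ⟨⟨V, hV⟩, W, hxW, e, g, hg⟩
  refine ⟨fun x => ?_, (HasRingHomProperty.iff_exists_appLE (P := @Flat)
    (RingHom.Flat.stableUnderComposition.stableUnderCompositionWithLocalizationAway
      RingHom.Flat.holdsForLocalizationAway).1).2 fun z => ?_⟩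
  · obtain ⟨-, W, hxW, -, g, hg, hgI, -⟩ := key x
    exact ⟨W, hxW, g, hg, hgI⟩
  · obtain ⟨V, W, hxW, e, g, -, hgI, hfl⟩ := key (I.subschemeι z)
    refine ⟨V, ⟨I.subschemeι ⁻¹ᵁ W.1, W.2.preimage _⟩, hxW, I.subschemeι.preimage_mono e, ?_⟩
    have h1 : ((I.subschemeι ≫ φ).appLE V.1 (I.subschemeι ⁻¹ᵁ W.1) (I.subschemeι.preimage_mono e)).hom =
        (I.subschemeι.app W.1).hom.comp (φ.appLE V.1 W.1 e).hom := by
      rw [← CommRingCat.hom_comp, Scheme.Hom.app_eq_appLE, Scheme.Hom.appLE_comp_appLE]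
    rw [h1]
    let ψ := (Ideal.quotEquivOfEq ((I.ker_subschemeι_app W).trans hgI).symm).trans
      (RingHom.quotientKerEquivOfSurjective (I.subschemeι.app_surjective W.1 W.2))
    have h2 : (I.subschemeι.app W.1).hom.comp (φ.appLE V.1 W.1 e).hom =
        ψ.toRingHom.comp ((Ideal.Quotient.mk (Ideal.span {g})).comp (φ.appLE V.1 W.1 e).hom) := by
      rw [← RingHom.comp_assoc]
      congr 1
    rw [h2]
    exact RingHom.Flat.respectsIso.1 _ ψ hfl

end Groth.Agent.SDiv28.FibreCartier
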