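import Groth.Agent.FlatMor12.FittSheaf
import Groth.Agent.RefHullLib.GenericStalk
import Mathlib

/-!
# Finite type modules on integral schemes are free on a nonempty open
-/

set_option autoImplicit false
set_option backward.isDefEq.respectTransparency.types false
universe u

open CategoryTheory AlgebraicGeometry Opposite TopologicalSpace
open Groth.Agent.Coherent

namespace Groth.Agent.SDiv28.GenRank

variable {X : Scheme.{u}} [IsIntegral X]

/-- Sections whose generic germs are linearly independent are linearly independent. -/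
theorem linearIndependent_of_germ {F : X.Modules} {U : X.Opens} (hη : genericPoint X ∈ U) {ι : Type*}
    [Fintype ι] (g : ι → Γ(F, U))
    (h : LinearIndependent (X.presheaf.stalk (genericPoint X))
      fun i => F.presheaf.germ U _ hη (g i)) : LinearIndependent Γ(X, U) g := by
  rw [Fintype.linearIndependent_iff] at h ⊢
  intro c hc i
  have := congrArg (F.presheaf.germ U _ hη) hc
  rw [map_sum, map_zero] at this
  simp only [QCohLoc.germ_smul'] at this
  exact germ_injective_of_isIntegral X (genericPoint X) hη ((h _ this i).trans (map_zero _).symm)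

theorem exists_open_free (F : X.Modules) (hF : Coh.IsQCoh F) (hft : CohB1.IsFT F) :
    ∃ U : X.Opens, (U : Set X).Nonempty ∧
      Nonempty (F.restrict U.ι ≅ FlatMod.freeMod (↑U)
        (Module.finrank (X.presheaf.stalk (genericPoint X)) (F.presheaf.stalk (genericPoint X)))) := by
  classical
  have := hF
  obtain ⟨_, ⟨U, hU, rfl⟩, hηU, -⟩ :=
    X.isBasis_affineOpens.exists_subset_of_mem_open (Set.mem_univ (genericPoint X)) isOpen_univ
  have : Module.Finite Γ(X, U) Γ(F, U) := FlatMor12.FittSheaf.finite_affine F hft ⟨U, hU⟩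
  letI : Field (X.presheaf.stalk (genericPoint X)) := inferInstanceAs (Field X.functionField)
  letI := Module.compHom (F.presheaf.stalk (genericPoint X)) (X.presheaf.germ U _ hηU).hom
  letI := (X.presheaf.germ U _ hηU).hom.toAlgebra
  have : IsScalarTower Γ(X, U) (X.presheaf.stalk (genericPoint X)) (F.presheaf.stalk (genericPoint X)) :=
    IsScalarTower.of_algebraMap_smul fun _ _ => rfl
  let φ : Γ(F, U) →ₗ[Γ(X, U)] F.presheaf.stalk (genericPoint X) :=
    { toFun := F.presheaf.germ U _ hηU
      map_add' := map_add _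
      map_smul' := QCohLoc.germ_smul' (M := F) hηU }
  let S := (hU.primeIdealOf ⟨genericPoint X, hηU⟩).asIdeal.primeCompl
  have : IsLocalizedModule S φ := EGA43.QcohFP.isLocalizedModule_germ F hU hηU φ fun _ => rfl
  have : IsLocalization.AtPrime (X.presheaf.stalk (genericPoint X))
      (hU.primeIdealOf ⟨genericPoint X, hηU⟩).asIdeal := hU.isLocalization_stalk ⟨genericPoint X, hηU⟩
  have hspan : Submodule.span (X.presheaf.stalk (genericPoint X)) (Set.range φ) = ⊤ :=
    span_eq_top_of_isLocalizedModule _ S φ Submodule.span_univ |> fun h => by rwa [Set.image_univ] at h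
  obtain ⟨B, hBs, hBspan, hBli⟩ := exists_linearIndependent (X.presheaf.stalk (genericPoint X)) (Set.range φ)
  rw [hspan] at hBspan
  let b : Module.Basis B (X.presheaf.stalk (genericPoint X)) (F.presheaf.stalk (genericPoint X)) :=
    Module.Basis.mk hBli (by rw [Subtype.range_coe, hBspan])
  have : Module.Finite (X.presheaf.stalk (genericPoint X)) (F.presheaf.stalk (genericPoint X)) :=
    Module.Finite.of_isLocalizedModule S φ
  have : Finite B := Module.Finite.finite_basis b
  have := Fintype.ofFinite B
  let e := Fintype.equivFinOfCardEq (Module.finrank_eq_card_basis b).symm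
  let b' := b.reindex e
  have hb' : ∀ i, b' i ∈ Set.range φ := fun i => hBs (by
    rw [Module.Basis.reindex_apply, Module.Basis.mk_apply]; exact (e.symm i).2)
  choose g hg using hb'
  -- kill the cokernel by one function
  have hden : ∀ x : Γ(F, U), ∃ a : S, (a : Γ(X, U)) • x ∈ Submodule.span Γ(X, U) (Set.range g) := by
    intro x
    obtain ⟨⟨s, hs⟩, hsc⟩ := IsLocalization.exist_integer_multiples_of_finite S (fun i => b'.repr (φ x) i)
    choose c hc using hsc
    have h0 : φ (s • x) = φ (∑ i, c i • g i) := by
      rw [map_smul, map_sum]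
      conv_lhs => rw [← b'.sum_repr (φ x), Finset.smul_sum]
      refine Finset.sum_congr rfl fun i _ => ?_
      rw [map_smul, hg, ← smul_assoc, ← algebraMap_smul (X.presheaf.stalk (genericPoint X)) (c i)]
      exact (congrArg (· • b' i) (hc i)).symm
    obtain ⟨t, ht⟩ := IsLocalizedModule.exists_of_eq (S := S) h0
    refine ⟨t * ⟨s, hs⟩, ?_⟩
    rw [Submonoid.coe_mul, mul_smul]
    simp only [Submonoid.smul_def] at ht
    rw [ht]
    exact Submodule.smul_mem _ _ (Submodule.sum_mem _ fun i _ =>
      Submodule.smul_mem _ _ (Submodule.subset_span ⟨i, rfl⟩))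
  obtain ⟨T, hT⟩ := (Module.Finite.fg_top (R := Γ(X, U)) (M := Γ(F, U)))
  choose a ha using hden
  let f : Γ(X, U) := ∏ x ∈ T, (a x : Γ(X, U))
  have hfS : f ∈ S := Submonoid.prod_mem _ fun x _ => (a x).2
  have hfspan : ∀ x : Γ(F, U), f • x ∈ Submodule.span Γ(X, U) (Set.range g) := by
    intro x
    have hx : x ∈ Submodule.span Γ(X, U) (T : Set Γ(F, U)) := hT ▸ Submodule.mem_top
    induction hx using Submodule.span_induction with
    | mem x hx =>
      show (∏ y ∈ T, (a y : Γ(X, U))) • x ∈ _
      rw [← Finset.prod_erase_mul T _ hx, mul_smul]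
      exact Submodule.smul_mem _ _ (ha x)
    | zero => rw [smul_zero]; exact zero_mem _
    | add p q _ _ hp hq => rw [smul_add]; exact add_mem hp hq
    | smul c p _ hp => rw [smul_comm]; exact Submodule.smul_mem _ _ hp
  have hηf : genericPoint X ∈ X.basicOpen f :=
    (EGA43.InjFibre.mem_basicOpen_iff_notMem hU hηU f).2 hfS
  let g' := fun i => resM F (X.basicOpen_le f) (g i)
  have hli : LinearIndependent Γ(X, X.basicOpen f) g' := by
    refine linearIndependent_of_germ hηf g' ?_
    have : (fun i => F.presheaf.germ (X.basicOpen f) _ hηf (g' i)) = b' := funext fun i =>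
      (TopCat.Presheaf.germ_res_apply F.presheaf _ _ _ _).trans (hg i)
    rw [this]
    exact b'.linearIndependent
  have hsp : ⊤ ≤ Submodule.span Γ(X, X.basicOpen f) (Set.range g') := by
    intro y _
    obtain ⟨n, t, ht⟩ := qcoh_exists_pow_smul hU F f y
    obtain ⟨c, hc⟩ := (Submodule.mem_span_range_iff_exists_fun Γ(X, U)).1 (hfspan t)
    have hmem : resM F (X.basicOpen_le f) (f • t) ∈ Submodule.span Γ(X, X.basicOpen f) (Set.range g') := by
      rw [← hc, map_sum]
      refine Submodule.sum_mem _ fun i _ => ?_
      rw [resM_smul]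
      exact Submodule.smul_mem _ _ (Submodule.subset_span ⟨i, rfl⟩)
    rw [resM_smul, ht, smul_smul, ← map_mul, ← pow_succ'] at hmem
    exact (Submodule.smul_mem_iff_of_isUnit _
      (isUnit_res_pow f (X.basicOpen_le f) le_rfl (n + 1))).1 hmem
  obtain ⟨bb⟩ := Props12.exists_basis_restrict_top F (X.basicOpen f) (Module.Basis.mk hli hsp)
  have : IsAffine (X.basicOpen f).toScheme := hU.basicOpen f
  exact ⟨X.basicOpen f, ⟨_, hηf⟩, Props12.exists_iso_freeMod_of_basis _ bb⟩

end Groth.Agent.SDiv28.GenRank
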