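import Groth.Agent.SDiv28.SchDenseAss
import Groth.Agent.AssSch12.PullbackPoint
import Mathlib

/-!
# Weakly associated points of the structure module and of `M~`
-/

set_option autoImplicit false
set_option backward.isDefEq.respectTransparency.types false
universe u

open CategoryTheory AlgebraicGeometry Opposite TopologicalSpace
open Groth.Agent.AssSch12
open Groth.Agent.CAlgH3 (annEl mem_annEl)

namespace Groth.Agent.SDiv28

variable {X : Scheme.{u}}

/-- The stalk of the structure module is the local ring. -/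
noncomputable def unitStalkEquiv (x : X) :
    X.presheaf.stalk x ≃ₗ[X.presheaf.stalk x] (Coh.structureModule X).presheaf.stalk x :=
  LinearEquiv.ofBijective (LinearMap.toSpanSingleton _ _ (unitOne x)) (bijective_smul_unitOne x)

theorem isWeakAssPoint_structureModule_iff (x : X) :
    Curv2.IsWeakAssPoint (Coh.structureModule X) x ↔
      IsAssociatedPrime (IsLocalRing.maximalIdeal (X.presheaf.stalk x)) (X.presheaf.stalk x) := by
  rw [isWeakAssPoint_iff_isAssPoint]
  exact LinearEquiv.isAssociatedPrime_iff (unitStalkEquiv x).symm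

variable {W : X.Opens} (hW : IsAffineOpen W) {x : X} (hx : x ∈ W)

theorem isWeakAssPoint_structureModule_iff_affine :
    Curv2.IsWeakAssPoint (Coh.structureModule X) x ↔
      primeAt hW hx ∈ FlatCA.weakAss Γ(X, W) Γ(X, W) := by
  rw [isWeakAssPoint_structureModule_iff, isAssociatedPrime_stalk_iff hW hx]

include hW in
theorem mem_minimalPrimes_iff :
    primeAt hW hx ∈ minimalPrimes Γ(X, W) ↔ ∀ y : X, y ⤳ x → y = x := by
  constructor
  · intro h y hy
    have hyW : y ∈ W := hy.mem_open W.isOpen hx
    refine eq_of_primeAt_eq hW hyW hx ?_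
    have hle := (specializes_iff hW hyW hx).1 hy
    exact le_antisymm hle (h.2 ⟨(hW.primeIdealOf ⟨y, hyW⟩).2, bot_le⟩ hle)
  · intro h
    refine ⟨⟨(hW.primeIdealOf ⟨x, hx⟩).2, bot_le⟩, fun q hq hle => ?_⟩
    haveI := hq.1
    obtain ⟨y, hy, rfl⟩ := exists_point hW q
    have := h y ((specializes_iff hW hy hx).2 hle)
    subst this
    exact le_rfl

omit hW hx in
theorem isWeakAssPoint_structureModule_iff_reduced [IsReduced X] (x : X) :
    Curv2.IsWeakAssPoint (Coh.structureModule X) x ↔ ∀ y : X, y ⤳ x → y = x := by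
  obtain ⟨_, ⟨W, hW, rfl⟩, hx, -⟩ :=
    X.isBasis_affineOpens.exists_subset_of_mem_open (Set.mem_univ x) isOpen_univ
  rw [isWeakAssPoint_structureModule_iff_affine hW hx, CAlgH3.weakAss_self_of_isReduced,
    mem_minimalPrimes_iff hW hx]

/-- Weakly associated points of `M~`. -/
theorem isWeakAssPoint_tilde_iff (A : CommRingCat.{u}) (M : ModuleCat.{u} A) (p : Spec A) :
    p.asIdeal ∈ FlatCA.weakAss A M ↔ Curv2.IsWeakAssPoint (tilde M) p := by
  rw [isWeakAssPoint_iff_mem_weakAss]
  letI : Algebra A ((Spec A).presheaf.stalk p) := (StructureSheaf.toStalk A p).hom.toAlgebra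
  haveI : IsLocalization.AtPrime ((Spec A).presheaf.stalk p) p.asIdeal :=
    StructureSheaf.IsLocalization.to_stalk A p
  haveI : IsScalarTower A ((Spec A).presheaf.stalk p) ((tilde M).presheaf.stalk p) :=
    IsScalarTower.of_algebraMap_smul fun _ _ => rfl
  have hd : Disjoint (p.asIdeal.primeCompl : Set A) (p.asIdeal : Set A) :=
    Set.disjoint_left.2 fun a ha hb => ha hb
  rw [CAlgH3.weakAss_localized_iff p.asIdeal.primeCompl (A := (Spec A).presheaf.stalk p)
    (AlgebraicGeometry.tilde.toStalk M p).hom _ p.2 hd, IsLocalization.AtPrime.map_eq_maximalIdeal]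

theorem mem_weakAss_of_isAssociatedPrime {R : Type u} [CommRing R] {N : Type u} [AddCommGroup N]
    [Module R N] {p : Ideal R} (h : p ∈ associatedPrimes R N) : p ∈ FlatCA.weakAss R N := by
  obtain ⟨hp, m, rfl⟩ := h
  refine ⟨m, ?_⟩
  show _ ∈ (annEl R m).minimalPrimes
  rw [CAlgH3.colon_bot_singleton] at hp ⊢
  rw [← Ideal.radical_minimalPrimes, Ideal.minimalPrimes_eq_subsingleton_self]
  rfl

theorem isAssociatedPrime_of_mem_ass {R : Type u} [CommRing R] {N : Type u} [AddCommGroup N]
    [Module R N] {p : Ideal R} (h : p ∈ FlatCA.ass R N) : p ∈ associatedPrimes R N := by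
  obtain ⟨hp, m, rfl⟩ := h
  haveI := hp
  exact ⟨hp, m, by rw [CAlgH3.colon_bot_singleton]; exact hp.radical.symm⟩

end Groth.Agent.SDiv28
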