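import Groth.Agent.SDiv28.UfdPrincipal
import Groth.Agent.CAlgMisc2.Normal
import Groth.Agent.Props12.KerReduced
import Mathlib

/-!
# The complement of a dense affine open has codimension one at normal points
-/

set_option autoImplicit false
set_option backward.isDefEq.respectTransparency.types false
universe u

open CategoryTheory AlgebraicGeometry Opposite TopologicalSpace
open Groth.Agent.AssSch12
open Groth.Agent.ModPairLib (res)

namespace Groth.Agent.SDiv28.AffCompl

variable {X : Scheme.{u}}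

/-- A dense open contains every point corresponding to a minimal prime. -/
theorem mem_of_dense [IsLocallyNoetherian X] {U : X.Opens} (hd : Dense (U : Set X)) {V : X.Opens}
    (hV : IsAffineOpen V) {η : X} (hη : η ∈ V) (hmin : primeAt hV hη ∈ minimalPrimes Γ(X, V)) :
    η ∈ U := by
  classical
  haveI := isNoetherianRing_of_isAffineOpen hV
  haveI : (primeAt hV hη).IsPrime := (hV.primeIdealOf ⟨η, hη⟩).2
  let M := (minimalPrimes.finite_of_isNoetherianRing Γ(X, V)).toFinset.erase (primeAt hV hη)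
  have hex : ∀ m ∈ M, ∃ g, g ∈ m ∧ g ∉ primeAt hV hη := by
    intro m hm
    obtain ⟨hne, hm⟩ := Finset.mem_erase.1 hm
    rw [Set.Finite.mem_toFinset] at hm
    exact SetLike.not_le_iff_exists.1 fun hle => hne (le_antisymm hle (hmin.2 hm.1 hle))
  choose! g hgm hgη using hex
  let G := ∏ m ∈ M, g m
  have hG : G ∉ primeAt hV hη := fun h => by
    obtain ⟨m, hm, hmem⟩ := Ideal.IsPrime.prod_mem_iff.1 h
    exact hgη m hm hmem
  obtain ⟨y, hyG, hyU⟩ :=
    hd.exists_mem_open (X.basicOpen G).isOpen ⟨η, (notMem_primeAt_iff hV hη G).1 hG⟩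
  have hy : y ∈ V := X.basicOpen_le G hyU
  obtain ⟨m, hm, hle⟩ := Ideal.exists_minimalPrimes_le (I := ⊥) (J := primeAt hV hy) bot_le
  haveI : (primeAt hV hy).IsPrime := (hV.primeIdealOf ⟨y, hy⟩).2
  have hmeq : m = primeAt hV hη := by
    by_contra hne
    have hmM : m ∈ M := Finset.mem_erase.2 ⟨hne, (Set.Finite.mem_toFinset _).2 hm⟩
    exact (notMem_primeAt_iff hV hy G).2 hyU
      (hle (Ideal.mem_of_dvd _ (Finset.dvd_prod_of_mem g hmM) (hgm m hmM)))
  exact ((specializes_iff hV hη hy).2 (hmeq ▸ hle)).mem_open U.isOpen hyG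

theorem ringKrullDim_eq_one [IsLocallyNoetherian X]
    (hΔ : ∀ V W : X.Opens, IsAffineOpen V → IsAffineOpen W → IsAffineOpen (V ⊓ W))
    {U : X.Opens} (hU : IsAffineOpen U) (hd : Dense (U : Set X)) {x : X}
    (hdom : IsDomain (X.presheaf.stalk x)) (hnorm : IsIntegrallyClosed (X.presheaf.stalk x))
    (hx : x ∉ U) (hmax : ∀ y : X, y ⤳ x → y ≠ x → y ∈ U) :
    ringKrullDim (X.presheaf.stalk x) = 1 := by
  obtain ⟨_, ⟨V, hV, rfl⟩, hxV, -⟩ :=
    X.isBasis_affineOpens.exists_subset_of_mem_open (Set.mem_univ x) isOpen_univ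
  haveI := isNoetherianRing_of_isAffineOpen hV
  letI := TopCat.Presheaf.algebra_section_stalk X.presheaf (⟨x, hxV⟩ : V)
  haveI := hV.isLocalization_stalk ⟨x, hxV⟩
  let A := Γ(X, V)
  let R := X.presheaf.stalk x
  let p := primeAt hV hxV
  haveI : p.IsPrime := (hV.primeIdealOf ⟨x, hxV⟩).2
  haveI : IsLocalization p.primeCompl R := hV.isLocalization_stalk ⟨x, hxV⟩
  haveI : IsLocalization.AtPrime R p := hV.isLocalization_stalk ⟨x, hxV⟩
  let γ : A →+* R := algebraMap A R
  have hpγ : ∀ a, a ∈ p ↔ γ a ∈ IsLocalRing.maximalIdeal R := fun a =>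
    (IsLocalization.AtPrime.to_map_mem_maximal_iff R p a).symm
  -- the generic point of the component through `x`
  let q : Ideal A := (⊥ : Ideal R).comap γ
  haveI : q.IsPrime := Ideal.comap_isPrime γ ⊥
  have hqp : q ≤ p := fun a ha => (hpγ a).2 (by
    rw [show γ a = 0 from ha]; exact zero_mem _)
  have hqmin : q ∈ minimalPrimes A := by
    refine ⟨⟨inferInstance, bot_le⟩, fun r hr hrq a ha => ?_⟩
    obtain ⟨t, ht⟩ := (IsLocalization.map_eq_zero_iff p.primeCompl R a).1 (show γ a = 0 from ha)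
    exact (hr.1.mem_or_mem (show (t : A) * a ∈ r by rw [ht]; exact zero_mem _)).resolve_left
      fun h' => t.2 (hqp (hrq h'))
  obtain ⟨η, hηV, hηq⟩ := exists_point hV q
  have hηx : η ⤳ x := (specializes_iff hV hηV hxV).2 (hηq ▸ hqp)
  have hηU : η ∈ U := mem_of_dense hd hV hηV (hηq ▸ hqmin)
  let σ : R →+* X.presheaf.stalk η := (X.presheaf.stalkSpecializes hηx).hom
  have hσ : ∀ a : A, σ (γ a) = X.presheaf.germ V η hηV a := fun a =>
    TopCat.Presheaf.germ_stalkSpecializes_apply X.presheaf hxV hηx a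
  letI := TopCat.Presheaf.algebra_section_stalk X.presheaf (⟨η, hηV⟩ : V)
  haveI : IsLocalization (primeAt hV hηV).primeCompl (X.presheaf.stalk η) := hV.isLocalization_stalk ⟨η, hηV⟩
  have hσinj : Function.Injective σ := by
    refine (injective_iff_map_eq_zero σ).2 fun r hr => ?_
    obtain ⟨⟨a, t⟩, hat⟩ := IsLocalization.surj p.primeCompl r
    have h0 : algebraMap A (X.presheaf.stalk η) a = 0 := by
      show X.presheaf.germ V η hηV a = 0
      rw [← hσ, show γ a = r * γ t from hat.symm, map_mul, hr, zero_mul]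
    obtain ⟨u, hu⟩ := (IsLocalization.map_eq_zero_iff (primeAt hV hηV).primeCompl _ a).1 h0
    have hu' : γ u ≠ 0 := fun h => u.2 (hηq.ge h)
    have := congrArg γ hu
    rw [map_mul, map_zero, show γ a = r * γ t from hat.symm] at this
    exact ((IsLocalization.map_units R t).mul_left_eq_zero).1 ((mul_eq_zero.1 this).resolve_left hu')
  rcases le_or_gt (ringKrullDim R) 0 with h0 | h0
  · -- `x` would be a generic point
    exfalso
    haveI : Ring.KrullDimLE 0 R := ⟨h0⟩
    have hfield : IsLocalRing.maximalIdeal R = ⊥ :=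
      IsLocalRing.isField_iff_maximalIdeal_eq.1 Ring.KrullDimLE.isField_of_isReduced
    refine hx ((eq_of_primeAt_eq hV hxV hηV ?_).symm ▸ hηU)
    rw [hηq]
    ext a
    rw [hpγ, hfield]
    rfl
  by_contra hne
  have h2 : (2 : WithBot ℕ∞) ≤ ringKrullDim R := by
    rcases le_or_gt (2 : WithBot ℕ∞) (ringKrullDim R) with h | h
    · exact h
    · exfalso
      refine hne (le_antisymm (Order.le_of_lt_succ h) ?_)
      exact Order.succ_le_of_lt h0
  let W := U ⊓ V
  have hW : IsAffineOpen W := hΔ U V hU hV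
  let φ : A →+* Γ(X, W) := res (inf_le_right : W ≤ V)
  have hpB : ∃ f ∈ p.map φ, ∃ s, s ∉ p ∧ φ s = f := by
    by_contra hcon
    push Not at hcon
    obtain ⟨Q, hQ, hle, hdis⟩ := Ideal.exists_le_prime_disjoint (p.map φ) (p.primeCompl.map φ)
      (Set.disjoint_left.2 fun f hf ⟨s, hs, hsf⟩ => hcon f hf s hs hsf)
    obtain ⟨w, hw, rfl⟩ := exists_point hW Q
    have hwp : primeAt hV hw.2 = p := by
      ext a
      have e : φ a ∈ primeAt hW hw ↔ a ∈ primeAt hV hw.2 := by
        rw [← not_iff_not, notMem_primeAt_iff, notMem_primeAt_iff]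
        show w ∈ X.basicOpen (X.presheaf.map _ a) ↔ _
        rw [Scheme.basicOpen_res]
        exact ⟨fun h => h.2, fun h => ⟨hw, h⟩⟩
      rw [← e]
      exact ⟨fun h => by_contra fun ha => Set.disjoint_left.1 hdis h ⟨a, ha, rfl⟩,
        fun h => hle (Ideal.mem_map_of_mem φ h)⟩
    exact hx (eq_of_primeAt_eq hV hw.2 hxV hwp ▸ hw.1)
  obtain ⟨f, hf, s, hs, rfl⟩ := hpB
  have hext : ∀ b : Γ(X, W), ∃ r : R, X.presheaf.germ W η ⟨hηU, hηV⟩ b = σ r := by
    intro b
    obtain ⟨⟨a₀, t₀⟩, h₀⟩ := IsLocalization.surj (primeAt hV hηV).primeCompl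
      (X.presheaf.germ W η ⟨hηU, hηV⟩ b)
    have ht₀ : γ t₀ ≠ 0 := fun h => t₀.2 (hηq.ge h)
    change _ * X.presheaf.germ V η hηV t₀ = X.presheaf.germ V η hηV a₀ at h₀
    rw [← hσ, ← hσ] at h₀
    haveI := hdom
    haveI := hnorm
    haveI : IsNoetherianRing R := inferInstance
    have hK : algebraMap R (FractionRing R) (γ t₀) ≠ 0 :=
      (map_ne_zero_iff _ (IsFractionRing.injective R _)).2 ht₀
    obtain ⟨r, hr⟩ := CAlgMisc2.mem_range_of_forall_height_one
      (algebraMap R (FractionRing R) (γ a₀) / algebraMap R (FractionRing R) (γ t₀)) fun P _ hP => by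
      let q₁ : Ideal A := P.comap γ
      haveI : q₁.IsPrime := Ideal.comap_isPrime γ P
      obtain ⟨y, hyV, hyq⟩ := exists_point hV q₁
      have hyx : y ⤳ x := (specializes_iff hV hyV hxV).2 (hyq ▸ fun a ha =>
        (hpγ a).2 (IsLocalRing.le_maximalIdeal (Ideal.IsPrime.ne_top ‹_›) ha))
      have hηy : η ⤳ y := (specializes_iff hV hηV hyV).2 (by
        rw [hηq, hyq]; exact Ideal.comap_mono bot_le)
      have hne' : y ≠ x := by
        rintro rfl
        have hPm : P = IsLocalRing.maximalIdeal R := by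
          rw [← IsLocalization.map_comap p.primeCompl R P,
            ← IsLocalization.map_comap p.primeCompl R (IsLocalRing.maximalIdeal R)]
          congr 1
          exact hyq.symm.trans (Ideal.ext hpγ)
        rw [← IsLocalRing.maximalIdeal_height_eq_ringKrullDim, ← hPm, hP] at h2
        exact absurd (WithBot.coe_le_coe.1 h2) (by decide)
      have hyW : y ∈ W := ⟨hmax y hyx hne', hyV⟩
      letI := TopCat.Presheaf.algebra_section_stalk X.presheaf (⟨y, hyV⟩ : V)
      haveI : IsLocalization (primeAt hV hyV).primeCompl (X.presheaf.stalk y) := hV.isLocalization_stalk ⟨y, hyV⟩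
      obtain ⟨⟨a, t⟩, hat⟩ := IsLocalization.surj (primeAt hV hyV).primeCompl (X.presheaf.germ W y hyW b)
      refine ⟨γ a, γ t, fun h => t.2 (hyq.ge h), ?_⟩
      change _ * X.presheaf.germ V y hyV t = X.presheaf.germ V y hyV a at hat
      have e := congrArg (X.presheaf.stalkSpecializes hηy) hat
      rw [map_mul, TopCat.Presheaf.germ_stalkSpecializes_apply, TopCat.Presheaf.germ_stalkSpecializes_apply,
        TopCat.Presheaf.germ_stalkSpecializes_apply, ← hσ, ← hσ] at e
      have key : γ a₀ * γ t = γ a * γ t₀ := hσinj (by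
        rw [map_mul, map_mul, ← e, ← h₀]; ring)
      rw [div_mul_eq_mul_div, div_eq_iff hK, ← map_mul (algebraMap R (FractionRing R)),
        ← map_mul (algebraMap R (FractionRing R)), key]
    refine ⟨r, ?_⟩
    have e : γ a₀ = r * γ t₀ := IsFractionRing.injective R (FractionRing R) (by
      rw [map_mul, hr, div_mul_cancel₀ _ hK])
    have hu : IsUnit (σ (γ t₀)) := by
      rw [hσ]; exact IsLocalization.map_units (X.presheaf.stalk η) t₀
    exact hu.mul_left_inj.1 (h₀.trans (by rw [e, map_mul]))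
  -- `s` would vanish at `x`
  have : ∃ m ∈ IsLocalRing.maximalIdeal R, X.presheaf.germ W η ⟨hηU, hηV⟩ (φ s) = σ m := by
    refine Submodule.span_induction (p := fun z _ => ∃ m ∈ IsLocalRing.maximalIdeal R,
      X.presheaf.germ W η ⟨hηU, hηV⟩ z = σ m) ?_ ⟨0, zero_mem _, by rw [map_zero, map_zero]⟩ ?_ ?_ hf
    · rintro _ ⟨a, ha, rfl⟩
      exact ⟨γ a, (hpγ a).1 ha, (TopCat.Presheaf.germ_res_apply _ _ _ _ _).trans (hσ a).symm⟩
    · rintro u v _ _ ⟨m, hm, hu⟩ ⟨n, hn, hv⟩
      exact ⟨m + n, add_mem hm hn, by rw [map_add, map_add, hu, hv]⟩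
    · rintro c u _ ⟨m, hm, hu⟩
      obtain ⟨r, hr⟩ := hext c
      exact ⟨r * m, Ideal.mul_mem_left _ r hm, by rw [smul_eq_mul, map_mul, map_mul, hr, hu]⟩
  obtain ⟨m, hm, he⟩ := this
  have : γ s = m := hσinj ((hσ s).trans ((TopCat.Presheaf.germ_res_apply _ _ _ _ _).symm.trans he))
  exact hs ((hpγ s).2 (this ▸ hm))

theorem exists_effCartier [IsLocallyNoetherian X]
    (hΔ : ∀ V W : X.Opens, IsAffineOpen V → IsAffineOpen W → IsAffineOpen (V ⊓ W))
    {U : X.Opens} (hU : IsAffineOpen U) (hd : Dense (U : Set X))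
    (hufd : ∀ x : X, x ∉ U → IsDomain (X.presheaf.stalk x) ∧ UniqueFactorizationMonoid (X.presheaf.stalk x)) :
    ∃ I : X.IdealSheafData, BlowUp.IsEffCartierIdeal I ∧ (I.support : Set X) = (U : Set X)ᶜ := by
  let Z : Closeds X := ⟨(U : Set X)ᶜ, U.isOpen.isClosed_compl⟩
  let I := Scheme.IdealSheafData.vanishingIdeal Z
  have hsupp : (I.support : Set X) = (U : Set X)ᶜ := by
    rfl
  have hrange : Set.range I.subschemeι = (U : Set X)ᶜ := I.range_subschemeι.trans hsupp
  have : AlgebraicGeometry.IsReduced I.subscheme := Props12.isReduced_subscheme_vanishingIdeal Z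
  refine ⟨I, Ufd.isEffCartierIdeal I (fun x hx => hufd x (hsupp.le hx)) fun z hz => ?_, hsupp⟩
  have hzU : I.subschemeι z ∉ U := hrange.le ⟨z, rfl⟩
  have hmax := (isWeakAssPoint_structureModule_iff_reduced z).1 ((isWeakAssPoint_structureModule_iff z).2 hz)
  obtain ⟨hd', hu'⟩ := hufd _ hzU
  haveI := hd'
  haveI := hu'
  refine ringKrullDim_eq_one hΔ hU hd hd' inferInstance hzU fun y hy hne => ?_
  by_contra hyU
  obtain ⟨y', rfl⟩ := hrange.ge hyU
  exact hne (congrArg _ (hmax y' (I.subschemeι.isEmbedding.isInducing.specializes_iff.1 hy)))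

end Groth.Agent.SDiv28.AffCompl
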