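import Groth.Agent.SDiv28.WeakAssPoints
import Groth.Agent.ModStalk.Exact
import Mathlib

/-!
# Weakly associated points: finite morphisms, qcqs direct images, exact sequences
-/

set_option autoImplicit false
set_option backward.isDefEq.respectTransparency.types false
universe u

open CategoryTheory AlgebraicGeometry Opposite TopologicalSpace
open Groth.Agent.QCohLoc Groth.Agent.AssSch12
open Groth.Agent.CAlgH3 (annEl mem_annEl)

namespace Groth.Agent.SDiv28

/-- For an integral extension with finitely many primes over each prime, contractions of weakly associated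
primes are weakly associated. -/
theorem weakAss_comap_of_finite {R A : Type u} [CommRing R] [CommRing A] [Algebra R A]
    [Module.Finite R A] {M : Type u} [AddCommGroup M] [Module A M] (m : M) {q : Ideal A}
    (hq : q ∈ (annEl A m).minimalPrimes) :
    ∃ s : A, q.comap (algebraMap R A) ∈ ((annEl A (s • m)).comap (algebraMap R A)).minimalPrimes := by
  classical
  haveI := hq.1.1
  set p := q.comap (algebraMap R A) with hp
  haveI : p.IsPrime := Ideal.comap_isPrime _ q
  have hfin : (p.primesOver A).Finite := Algebra.QuasiFinite.finite_primesOver p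
  have h1 : ∀ Q ∈ p.primesOver A, Q ≠ q → ∃ s t : A, s ∉ q ∧ t ∉ Q ∧ s * t ∈ annEl A m := by
    rintro Q ⟨hQ, hQl⟩ hne
    by_contra hcon
    push Not at hcon
    haveI := hQ
    have hdisj : Disjoint (annEl A m : Set A) ((q.primeCompl ⊔ Q.primeCompl : Submonoid A) : Set A) := by
      rw [Set.disjoint_left]
      intro z hz hzS
      obtain ⟨s, hs, t, ht, rfl⟩ := Submonoid.mem_sup.1 hzS
      exact hcon s t hs ht hz
    obtain ⟨w, hw, hJw, hwS⟩ := Ideal.exists_le_prime_disjoint _ _ hdisj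
    have hwq : w ≤ q := fun z hz => by_contra fun hzq =>
      Set.disjoint_left.1 hwS hz (Submonoid.mem_sup_left hzq)
    have hwQ : w ≤ Q := fun z hz => by_contra fun hzq =>
      Set.disjoint_left.1 hwS hz (Submonoid.mem_sup_right hzq)
    have hqw : q ≤ w := hq.2 ⟨hw, hJw⟩ hwq
    have hlt := Ideal.IsIntegral.comap_lt_comap (R := R) (lt_of_le_of_ne (hqw.trans hwQ) (Ne.symm hne))
    exact hlt.ne hQl.over
  choose! s t hs ht hst using h1
  let T := hfin.toFinset.erase q
  have hTmem : ∀ {Q}, Q ∈ T ↔ Q ≠ q ∧ Q ∈ p.primesOver A := by simp [T]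
  let s₀ := ∏ Q ∈ T, s Q
  have hs₀ : s₀ ∉ q := fun h => by
    obtain ⟨Q, hQ, hsQ⟩ := (Ideal.IsPrime.prod_mem_iff (p := q)).1 h
    exact hs Q (hTmem.1 hQ).2 (hTmem.1 hQ).1 hsQ
  have hle : annEl A (s₀ • m) ≤ q := fun r hr => by
    rw [mem_annEl, smul_smul] at hr
    exact ((Ideal.IsPrime.mem_or_mem inferInstance (hq.1.2 (mem_annEl.2 hr))).resolve_right hs₀)
  have hge : annEl A m ≤ annEl A (s₀ • m) := fun r hr => by
    rw [mem_annEl] at hr ⊢
    rw [smul_comm, hr, smul_zero]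
  refine ⟨s₀, ⟨inferInstance, Ideal.comap_mono hle⟩, fun p' hp' hle' => ?_⟩
  haveI := hp'.1
  obtain ⟨pm, hpm, hpm'⟩ := Ideal.exists_minimalPrimes_le hp'.2
  obtain ⟨w, hw, hwc⟩ := Ideal.exists_minimalPrimes_comap_eq _ _ hpm
  haveI := hw.1.1
  obtain ⟨Q, hwQ, hQ, hQc⟩ := Ideal.exists_ideal_over_prime_of_isIntegral p w
    (show w.comap (algebraMap R A) ≤ p by rw [hwc]; exact hpm'.trans hle')
  have hQq : Q = q := by
    by_contra hne
    have hQp : Q ∈ p.primesOver A := ⟨hQ, ⟨hQc.symm⟩⟩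
    apply ht Q hQp hne
    refine hwQ (hw.1.2 ?_)
    rw [mem_annEl, smul_smul]
    have hd : s Q ∣ s₀ := Finset.dvd_prod_of_mem _ (hTmem.2 ⟨hne, hQp⟩)
    obtain ⟨c, hc⟩ := hd
    rw [hc, show t Q * (s Q * c) = c * (s Q * t Q) by ring, mul_smul, mem_annEl.1 (hst Q hQp hne), smul_zero]
  subst hQq
  have hwq : Q ≤ w := hq.2 ⟨inferInstance, hge.trans hw.1.2⟩ hwQ
  exact (Ideal.comap_mono hwq).trans (hwc.le.trans hpm')

variable {X S : Scheme.{u}} (f : X ⟶ S) (F : X.Modules) [F.IsQuasicoherent]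

/-- Weakly associated points map to weakly associated points of the direct image under finite morphisms. -/
theorem weakAss_push_of_finite [IsFinite f] {x : X} (hx : Curv2.IsWeakAssPoint F x) :
    Curv2.IsWeakAssPoint ((Scheme.Modules.pushforward f).obj F) (f x) := by
  haveI : ((Coh.push f).obj F).IsQuasicoherent := Coherent.isQCoh_push f F
  obtain ⟨_, ⟨V, hV, rfl⟩, hxV, -⟩ :=
    S.isBasis_affineOpens.exists_subset_of_mem_open (Set.mem_univ (f x)) isOpen_univ
  have hW : IsAffineOpen (f ⁻¹ᵁ V) := hV.preimage f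
  algebraize [(f.app V).hom]
  haveI : Module.Finite Γ(S, V) Γ(X, f ⁻¹ᵁ V) := f.finite_app V hV
  obtain ⟨m, hm⟩ := CAlgH3.mem_weakAss.1 ((isWeakAssPoint_iff F hW hxV).1 hx)
  obtain ⟨s, hs⟩ := weakAss_comap_of_finite (R := Γ(S, V)) m hm
  refine (isWeakAssPoint_iff ((Coh.push f).obj F) hV hxV).2
    ⟨(show Γ((Coh.push f).obj F, V) from (s • m : Γ(F, f ⁻¹ᵁ V))),
      (congrArg Ideal.minimalPrimes (annEl_push f F (s • m))).ge ?_⟩
  rw [← comap_primeAt f hV hW hxV]
  exact hs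

/-- For qcqs `f`, weakly associated points of `f_* F` lie in the image. -/
theorem mem_range_of_weakAss_push [QuasiCompact f] [QuasiSeparated f] {s : S}
    (hs : Curv2.IsWeakAssPoint ((Scheme.Modules.pushforward f).obj F) s) : s ∈ Set.range f := by
  classical
  haveI : ((Coh.push f).obj F).IsQuasicoherent := Coherent.isQCoh_push f F
  obtain ⟨_, ⟨V, hV, rfl⟩, hsV, -⟩ :=
    S.isBasis_affineOpens.exists_subset_of_mem_open (Set.mem_univ s) isOpen_univ
  obtain ⟨m, hm⟩ := CAlgH3.mem_weakAss.1 ((isWeakAssPoint_iff ((Coh.push f).obj F) hV hsV).1 hs)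
  let m' : Γ(F, f ⁻¹ᵁ V) := m
  have hc : IsCompact ((f ⁻¹ᵁ V : X.Opens) : Set X) :=
    QuasiCompact.isCompact_preimage (f := f) (V : Set S) V.2 hV.isCompact
  obtain ⟨T, hT, hTV⟩ := isCompact_iff_finite_and_eq_biUnion_affineOpens.1 hc
  have hle : ∀ W : T, W.1.1 ≤ f ⁻¹ᵁ V := fun W => hTV.ge.trans' (le_iSup₂_of_le W.1 W.2 le_rfl)
  haveI : Fintype T := hT.fintype
  let J : T → Ideal Γ(S, V) := fun W =>
    (annEl Γ(X, W.1.1) (F.presheaf.map (homOfLE (hle W)).op m')).comap (f.appLE V W.1.1 (hle W)).hom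
  have hann : ∀ r : Γ(S, V), r ∈ annEl Γ(S, V) m ↔
      (show Γ(F, f ⁻¹ᵁ V) from (f.app V).hom r • m') = 0 := fun r => mem_annEl
  have hres : ∀ (W : T) (r : Γ(S, V)),
      F.presheaf.map (homOfLE (hle W)).op ((f.app V).hom r • m') =
        (f.appLE V W.1.1 (hle W)).hom r • F.presheaf.map (homOfLE (hle W)).op m' := fun W r =>
    (Scheme.Modules.map_smul F (homOfLE (hle W)) ((f.app V).hom r) m').trans rfl
  have hJm : Finset.univ.inf J ≤ annEl Γ(S, V) m := by
    intro r hr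
    rw [hann]
    apply TopCat.Presheaf.section_ext (F := (⟨F.presheaf, F.isSheaf⟩ : TopCat.Sheaf Ab X))
    intro z hz
    rw [map_zero]
    obtain ⟨W, hW, hzW⟩ : ∃ W ∈ T, z ∈ (W : X.affineOpens).1 := by
      rw [hTV] at hz
      simpa [TopologicalSpace.Opens.mem_iSup] using hz
    have h0 : r ∈ J ⟨W, hW⟩ := (Finset.inf_le (Finset.mem_univ _) : Finset.univ.inf J ≤ _) hr
    rw [Ideal.mem_comap, mem_annEl, ← hres] at h0
    have h1 := congr(F.presheaf.germ W.1 z hzW $h0)
    rw [map_zero, TopCat.Presheaf.germ_res_apply] at h1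
    exact h1
  haveI := hm.1.1
  obtain ⟨W, -, hWp⟩ := (Ideal.IsPrime.inf_le' hm.1.1).1 (hJm.trans hm.1.2)
  have hmW : primeAt hV hsV ∈ (J W).minimalPrimes := by
    refine CAlgH3.minimalPrimes_anti hm (fun r hr => ?_) hWp
    rw [Ideal.mem_comap, mem_annEl, ← hres, show (f.app V).hom r • m' = 0 from (hann r).1 hr, map_zero]
  obtain ⟨q, hq, hqc⟩ := Ideal.exists_minimalPrimes_comap_eq _ _ hmW
  haveI := hq.1.1
  obtain ⟨x, hx, rfl⟩ := exists_point W.1.2 q
  refine ⟨x, eq_of_primeAt_eq hV (show f x ∈ V from hle W hx) hsV ?_⟩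
  rw [← hqc]
  ext r
  rw [Ideal.mem_comap, mem_primeAt_iff, mem_primeAt_iff, Scheme.basicOpen_appLE]
  exact ⟨fun h h' => h h'.2, fun h h' => h ⟨hx, h'⟩⟩

omit f F in
theorem weakAss_shortExact {X : Scheme.{u}} (S : ShortComplex X.Modules) (hS : S.ShortExact) (x : X) :
    (Curv2.IsWeakAssPoint S.X₂ x → Curv2.IsWeakAssPoint S.X₁ x ∨ Curv2.IsWeakAssPoint S.X₃ x) ∧
      (Curv2.IsWeakAssPoint S.X₁ x → Curv2.IsWeakAssPoint S.X₂ x) := by
  have h := hS.map_of_exact (DerSch.stalkFunctor X x)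
  have hinj := (ModuleCat.mono_iff_injective _).1 h.mono_f
  have hex := (ShortComplex.ShortExact.moduleCat_exact_iff_function_exact _).1 h.exact
  simp only [isWeakAssPoint_iff_mem_weakAss]
  exact ⟨fun h2 => CAlgH3.weakAss_subset_union _ _ hinj hex h2,
    fun h1 => CAlgH3.weakAss_subset_of_injective _ hinj h1⟩

end Groth.Agent.SDiv28
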