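import Groth.Agent.SDiv28.WeakAssPoints
import Groth.Agent.ModStalk.Pullback
import Mathlib

/-!
# Weakly associated points of a flat pullback at generic points of fibres
-/

set_option autoImplicit false
set_option backward.isDefEq.respectTransparency false
set_option backward.isDefEq.respectTransparency.types false
universe u

open CategoryTheory AlgebraicGeometry IsLocalRing
open scoped TensorProduct
open Groth.Agent.CAlgH3 (annEl mem_annEl)

namespace Groth.Agent.SDiv28

/-- The annihilator of `1 ⊗ n` in a flat base change is extended from the annihilator of `n`. -/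
theorem annEl_one_tmul {A B : Type u} [CommRing A] [CommRing B] [Algebra A B] [Module.Flat A B]
    {N : Type u} [AddCommGroup N] [Module A N] (n : N) :
    annEl B ((1 : B) ⊗ₜ[A] n) = (annEl A n).map (algebraMap A B) := by
  apply le_antisymm
  · intro b hb
    rw [mem_annEl, TensorProduct.smul_tmul', smul_eq_mul, mul_one] at hb
    have hex : Function.Exact (Submodule.subtype (annEl A n)) (LinearMap.toSpanSingleton A N n) := fun r =>
      ⟨fun h => ⟨⟨r, mem_annEl.2 h⟩, rfl⟩, by rintro ⟨s, rfl⟩; exact mem_annEl.1 s.2⟩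
    obtain ⟨t, ht⟩ := (Module.Flat.lTensor_exact B hex (b ⊗ₜ[A] (1 : A))).1 (by simpa using hb)
    have key : ∀ t : B ⊗[A] (annEl A n),
        TensorProduct.rid A B ((Submodule.subtype (annEl A n)).lTensor B t) ∈
          (annEl A n).map (algebraMap A B) := fun t => by
      induction t using TensorProduct.induction_on with
      | zero => simp
      | tmul c s =>
        simp only [LinearMap.lTensor_tmul, TensorProduct.rid_tmul, Submodule.subtype_apply, Algebra.smul_def]
        exact Ideal.mul_mem_right _ _ (Ideal.mem_map_of_mem _ s.2)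
      | add x y hx hy => rw [map_add, map_add]; exact add_mem hx hy
    simpa [ht] using key t
  · rw [Ideal.map_le_iff_le_comap]
    intro r hr
    rw [Ideal.mem_comap, mem_annEl, algebraMap_smul, ← TensorProduct.tmul_smul, mem_annEl.1 hr,
      TensorProduct.tmul_zero]

/-- Extending a weakly associated maximal ideal along a flat local homomorphism whose closed fibre
has a unique prime. -/
theorem exists_radical_annEl_tmul {A B : Type u} [CommRing A] [CommRing B] [IsLocalRing A] [IsLocalRing B]
    [Algebra A B] [Module.Flat A B] {N : Type u} [AddCommGroup N] [Module A N] (n : N)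
    (hn : (annEl A n).radical = maximalIdeal A)
    (hgen : ∀ P : Ideal B, P.IsPrime → (maximalIdeal A).map (algebraMap A B) ≤ P → P = maximalIdeal B) :
    (annEl B ((1 : B) ⊗ₜ[A] n)).radical = maximalIdeal B ∨ (annEl A n).map (algebraMap A B) = ⊤ := by
  rw [annEl_one_tmul]
  by_cases htop : (annEl A n).map (algebraMap A B) = ⊤
  · exact Or.inr htop
  · refine Or.inl (le_antisymm ?_ ?_)
    · obtain ⟨P, hP, hle⟩ := Ideal.exists_le_maximal _ htop
      rw [← eq_maximalIdeal hP]
      exact hP.isPrime.radical_le_iff.2 hle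
    · rw [Ideal.radical_eq_sInf]
      refine le_sInf ?_
      rintro P ⟨hle, hP⟩
      refine (hgen P hP ?_).ge
      rw [Ideal.map_le_iff_le_comap, ← hn]
      exact (hP.comap (algebraMap A B)).radical_le_iff.2 (Ideal.map_le_iff_le_comap.1 hle)

variable {X S : Scheme.{u}} (f : X ⟶ S)

/-- At a generic point of a fibre the extended maximal ideal has only one prime over it. -/
theorem eq_maximalIdeal_of_fibre_generic (x : X) (hgen : ∀ y : X, f y = f x → y ⤳ x → y = x)
    (P : Ideal (X.presheaf.stalk x)) [hP : P.IsPrime]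
    (hle : (maximalIdeal (S.presheaf.stalk (f x))).map (f.stalkMap x).hom ≤ P) :
    P = maximalIdeal (X.presheaf.stalk x) := by
  let p : Spec (X.presheaf.stalk x) := (⟨P, hP⟩ : PrimeSpectrum _)
  have hy : X.fromSpecStalk x p ⤳ x := by
    have h : X.fromSpecStalk x p ∈ Set.range (X.fromSpecStalk x) := ⟨p, rfl⟩
    rw [Scheme.range_fromSpecStalk] at h
    exact h
  have hcl : Spec.map (f.stalkMap x) p = closedPoint (S.presheaf.stalk (f x)) :=
    PrimeSpectrum.ext (((maximalIdeal.isMaximal _).eq_of_le (hP.comap _).ne_top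
      (Ideal.map_le_iff_le_comap.1 hle)).symm)
  have hf : f (X.fromSpecStalk x p) = f x := by
    rw [← Scheme.Hom.comp_apply, ← Scheme.SpecMap_stalkMap_fromSpecStalk f (x := x), Scheme.Hom.comp_apply,
      hcl, Scheme.fromSpecStalk_closedPoint]
  have h1 := hgen _ hf hy
  have h2 : p = closedPoint (X.presheaf.stalk x) :=
    (X.fromSpecStalk x).isEmbedding.injective (h1.trans (Scheme.fromSpecStalk_closedPoint).symm)
  exact congrArg PrimeSpectrum.asIdeal h2

/-- Weakly associated points pull back to the generic points of flat fibres. -/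
theorem isWeakAssPoint_pullback_of_flat (G : S.Modules) (x : X) (hfl : (f.stalkMap x).hom.Flat)
    (hgen : ∀ y : X, f y = f x → y ⤳ x → y = x) (hs : Curv2.IsWeakAssPoint G (f x)) :
    Curv2.IsWeakAssPoint ((Scheme.Modules.pullback f).obj G) x := by
  obtain ⟨n, hn⟩ := hs
  rw [ker_toSpanSingleton_eq] at hn
  letI := (f.stalkMap x).hom.toAlgebra
  haveI : Module.Flat (S.presheaf.stalk (f x)) (X.presheaf.stalk x) := hfl
  let e : ((Scheme.Modules.pullback f).obj G).presheaf.stalk x ≃ₗ[X.presheaf.stalk x]
      (X.presheaf.stalk x) ⊗[S.presheaf.stalk (f x)] (G.presheaf.stalk (f x)) :=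
    ((ModStalk.pullbackStalkIso f x).app G).toLinearEquiv
  refine ⟨e.symm ((1 : X.presheaf.stalk x) ⊗ₜ n), ?_⟩
  rw [ker_toSpanSingleton_eq]
  have he : annEl (X.presheaf.stalk x) (e.symm ((1 : X.presheaf.stalk x) ⊗ₜ n)) =
      annEl (X.presheaf.stalk x) ((1 : X.presheaf.stalk x) ⊗ₜ[S.presheaf.stalk (f x)] n) :=
    CAlgH3.annEl_map_of_injective e.symm.toLinearMap e.symm.injective _
  rw [he]
  refine (exists_radical_annEl_tmul n hn fun P hP hle => ?_).resolve_right ?_
  · haveI := hP; exact eq_maximalIdeal_of_fibre_generic f x hgen P hle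
  · intro htop
    have hle : annEl (S.presheaf.stalk (f x)) n ≤ maximalIdeal _ := Ideal.le_radical.trans hn.le
    refine (maximalIdeal.isMaximal (X.presheaf.stalk x)).ne_top (top_le_iff.1 (htop.ge.trans ?_))
    refine (Ideal.map_mono hle).trans (Ideal.map_le_iff_le_comap.2 fun r hr => ?_)
    haveI : IsLocalHom (f.stalkMap x).hom := inferInstance
    exact fun hu => hr (IsLocalHom.map_nonunit (f := (f.stalkMap x).hom) r hu)

end Groth.Agent.SDiv28
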