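import Groth.Agent.SDiv28.KoszulH1
import Groth.Agent.CAlgH.KoszulImmersion
import Groth.Agent.QReg6.Regular
import Groth.Prelude.Def_RegImm
import Mathlib

/-!
# The four kinds of regular immersions: implications and flat base change
-/

set_option autoImplicit false
set_option backward.isDefEq.respectTransparency false

universe u

open CategoryTheory CategoryTheory.Limits AlgebraicGeometry

namespace Groth.Agent.SDiv28.RegImmKinds

variable {X Z X' Z' : Scheme.{u}}

theorem mono {k k' : RegImm.Kind}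
    (h : ∀ (R : Type u) [CommRing R] (rs : List R), k.Seq R rs → k'.Seq R rs) {i : Z ⟶ X}
    (hi : RegImm.IsRegularImmersion k i) : RegImm.IsRegularImmersion k' i :=
  ⟨hi.1, fun z => let ⟨U, hz, hc, rs, hrs, hker⟩ := hi.2 z; ⟨U, hz, hc, rs, h _ rs hrs, hker⟩⟩

theorem get_map {A B : Type u} (φ : A → B) (rs : List A) :
    (rs.map φ).get = (fun i => φ (rs.get i)) ∘ Fin.cast (List.length_map (f := φ) (as := rs)) := by
  funext i
  simp

theorem h1_cast {R : Type u} [CommRing R] {m n : ℕ} (e : m = n) (f : Fin n → R) :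
    CAlgX.IsH1Regular (f ∘ Fin.cast e) ↔ CAlgX.IsH1Regular f := by
  subst e; rfl

theorem quasi_cast {R : Type u} [CommRing R] {m n : ℕ} (e : m = n) (f : Fin n → R) :
    CAlgX.IsQuasiRegular (f ∘ Fin.cast e) ↔ CAlgX.IsQuasiRegular f := by
  subst e; rfl

/-- Sequences of each kind are preserved by flat ring maps, as long as the quotient stays nonzero. -/
theorem seq_map {A B : Type u} [CommRing A] [CommRing B] {φ : A →+* B} (hφ : φ.Flat) (k : RegImm.Kind)
    {rs : List A} (h : k.Seq A rs) (hne : Ideal.ofList (rs.map φ) ≠ ⊤) : k.Seq B (rs.map φ) := by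
  cases k with
  | regular =>
    algebraize [φ]
    refine ⟨RingTheory.Sequence.IsWeaklyRegular.of_flat h.toIsWeaklyRegular, ?_⟩
    rw [smul_eq_mul, Ideal.mul_top]
    exact fun he => hne he.symm
  | koszul => exact CAlgH.KoszulChart.isKoszulRegularSeq_map hφ h
  | h1 =>
    algebraize [φ]
    show CAlgX.IsH1Regular (rs.map φ).get
    rw [get_map, h1_cast]
    exact RegSeq.isH1Regular_map (S := B) h
  | quasi =>
    algebraize [φ]
    show CAlgX.IsQuasiRegular (rs.map φ).get
    rw [get_map, quasi_cast]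
    exact RegSeq.isQuasiRegular_map (S := B) h

theorem baseChange_flat (k : RegImm.Kind) (i : Z ⟶ X) (g : X' ⟶ X) [Flat g] (i' : Z' ⟶ X')
    (g' : Z' ⟶ Z) (hsq : IsPullback g' i' i g) (hi : RegImm.IsRegularImmersion k i) :
    RegImm.IsRegularImmersion k i' := by
  refine ⟨MorphismProperty.of_isPullback (P := @IsImmersion) hsq hi.1, fun z => ?_⟩
  obtain ⟨⟨U, hU⟩, hz, hc, rs, hrs, hker⟩ := hi.2 (g' z)
  have hgz : i' z ∈ g ⁻¹ᵁ U := by
    show g (i' z) ∈ U
    rwa [← Scheme.Hom.comp_apply, ← hsq.w, Scheme.Hom.comp_apply]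
  obtain ⟨_, ⟨U', hU', rfl⟩, hzU', hle⟩ :=
    X'.isBasis_affineOpens.exists_subset_of_mem_open hgz (g ⁻¹ᵁ U).2
  obtain ⟨h1, h2⟩ := CAlgH.KoszulChart.baseChange i g i' g' hsq hU hU' hle
  rw [hker, Ideal.map_ofList] at h2
  refine ⟨⟨U', hU'⟩, hzU', h1, _,
    seq_map (HasRingHomProperty.appLE @Flat g ‹_› ⟨U, hU⟩ ⟨U', hU'⟩ hle) k hrs ?_, h2⟩
  rw [← h2]
  intro htop
  have h10 : (i'.app U').hom 1 = 0 := RingHom.mem_ker.1 (htop ▸ Submodule.mem_top)
  rw [map_one] at h10
  have := congrArg (Z'.presheaf.germ (i' ⁻¹ᵁ U') z hzU').hom h10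
  rw [map_one, map_zero] at this
  exact one_ne_zero this

theorem implications (i : Z ⟶ X) :
    (RegImm.IsRegularImmersion RegImm.Kind.regular i → RegImm.IsRegularImmersion RegImm.Kind.koszul i) ∧
      (RegImm.IsRegularImmersion RegImm.Kind.koszul i → RegImm.IsRegularImmersion RegImm.Kind.h1 i) ∧
      (RegImm.IsRegularImmersion RegImm.Kind.h1 i → RegImm.IsRegularImmersion RegImm.Kind.quasi i) :=
  ⟨mono (k := .regular) (k' := .koszul) fun _ _ _ h => RegSeq.seq_koszul_of_regular h.toIsWeaklyRegular,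
    mono (k := .koszul) (k' := .h1) fun _ _ _ h => RegSeq.seq_of_koszul h,
    mono (k := .h1) (k' := .quasi) fun _ _ _ h => RegSeq.isQuasiRegular_of_isH1Regular _ h⟩

end Groth.Agent.SDiv28.RegImmKinds
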