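import Groth.Agent.BlowUpLib.Chart
import Groth.Agent.FlatMor12.BlowUpDisjoint
import Groth.Agent.ProjLib.BlowUpBasics
import Groth.Agent.NeronLib.FlatDense
import Groth.Prelude.Def_MeroSh
import Mathlib

/-!
# Elementary properties of blowing up
-/

set_option autoImplicit false
set_option backward.isDefEq.respectTransparency.types false

universe u

open CategoryTheory Limits AlgebraicGeometry TopologicalSpace
open Groth.Agent.ModPairLib (res res_res ideal_restrict exists_local IsDenseOpen)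

namespace Groth.Agent.SDiv28

variable {X Y X' : Scheme.{u}}

theorem mul_ideal (I J : X.IdealSheafData) (U : X.affineOpens) : (I * J).ideal U = I.ideal U * J.ideal U := by
  rw [Scheme.IdealSheafData.ideal_mul]; rfl

theorem mul_comm' (I J : X.IdealSheafData) : I * J = J * I :=
  ModPairLib.eq_of_local fun x => by
    obtain ⟨_, ⟨U, hU, rfl⟩, hxU, -⟩ :=
      X.isBasis_affineOpens.exists_subset_of_mem_open (Set.mem_univ x) isOpen_univ
    exact ⟨⟨U, hU⟩, hxU, by rw [mul_ideal, mul_ideal, mul_comm]⟩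

/-- A factor of an effective Cartier ideal is effective Cartier. -/
theorem isEffCartier_left_of_mul {I J : X.IdealSheafData} (hP : BlowUp.IsEffCartierIdeal (I * J)) :
    BlowUp.IsEffCartierIdeal I := by
  intro x
  obtain ⟨U, hxU, f, hf, hfP⟩ := hP x
  rw [mul_ideal] at hfP
  -- the elements `a` such that `I` is generated by `a` near `x`
  let p : Ideal Γ(X, U.1) :=
    (IsLocalRing.maximalIdeal (X.presheaf.stalk x)).comap (X.presheaf.germ U.1 x hxU).hom
  obtain ⟨a, ha, b, hb, c, hc, hcab⟩ : ∃ a ∈ I.ideal U, ∃ b ∈ J.ideal U, ∃ c, c ∉ p ∧ c * f = a * b := by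
    by_contra hcon
    push Not at hcon
    have : I.ideal U * J.ideal U ≤ p * Ideal.span {f} := by
      rw [Ideal.mul_le]
      intro a ha b hb
      obtain ⟨c, hc⟩ := Ideal.mem_span_singleton'.1 (hfP.le (Ideal.mul_mem_mul ha hb))
      exact Ideal.mem_mul_span_singleton.2 ⟨c, by_contra fun hcp => hcon a ha b hb c hcp hc, hc⟩
    obtain ⟨d, hd, hdf⟩ := Ideal.mem_mul_span_singleton.1 (this (hfP.ge (Ideal.mem_span_singleton_self f)))
    have : d = 1 := (mul_cancel_right_mem_nonZeroDivisors hf).1 (hdf.trans (one_mul f).symm)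
    subst this
    exact (Ideal.ne_top_iff_one p).1 (Ideal.comap_ne_top _ (IsLocalRing.maximalIdeal.isMaximal _).ne_top) hd
  have hmem : x ∈ X.basicOpen c := by
    rw [Scheme.mem_basicOpen X c x hxU]
    exact IsLocalRing.notMem_maximalIdeal.1 hc
  let V := X.affineBasicOpen c
  have hVU : V.1 ≤ U.1 := X.basicOpen_le c
  have hcu : IsUnit (res hVU c) := RingedSpace.isUnit_res_basicOpen X.toRingedSpace c
  have hfV := ModPairLib.res_mem_nonZeroDivisors hVU hf
  have hab : res hVU a * res hVU b ∈ nonZeroDivisors Γ(X, V.1) := by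
    rw [← map_mul, ← hcab, map_mul]
    exact mul_mem hcu.mem_nonZeroDivisors hfV
  refine ⟨V, hmem, res hVU a, (mul_mem_nonZeroDivisors.1 hab).1, le_antisymm (fun z hz => ?_) ?_⟩
  · -- `z * b` is a multiple of `f`, hence of `a * b`
    have hbV : res hVU b ∈ J.ideal V := by
      rw [← J.map_ideal (U := V) (V := U) hVU]; exact Ideal.mem_map_of_mem _ hb
    have hPV : (I * J).ideal V = Ideal.span {res hVU f} :=
      ideal_restrict (I * J) hVU (by rw [mul_ideal, hfP])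
    rw [mul_ideal] at hPV
    obtain ⟨d, hd⟩ := Ideal.mem_span_singleton'.1 (hPV.le (Ideal.mul_mem_mul hz hbV))
    obtain ⟨v, hv⟩ := hcu.exists_left_inv
    refine Ideal.mem_span_singleton'.2 ⟨d * v, ?_⟩
    refine (mul_cancel_right_mem_nonZeroDivisors (mul_mem_nonZeroDivisors.1 hab).2).1 ?_
    rw [← hd, mul_assoc (d * v), ← map_mul, ← hcab, map_mul]
    linear_combination (d * res hVU f) * hv
  · rw [Ideal.span_singleton_le_iff_mem, ← I.map_ideal (U := V) (V := U) hVU]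
    exact Ideal.mem_map_of_mem _ ha

theorem isEffCartier_right_of_mul {I J : X.IdealSheafData} (hP : BlowUp.IsEffCartierIdeal (I * J)) :
    BlowUp.IsEffCartierIdeal J :=
  isEffCartier_left_of_mul (mul_comm' I J ▸ hP)

/-- Flat pull-back preserves effective Cartier ideals. -/
theorem isEffCartier_comap_of_flat {I : Y.IdealSheafData} (hI : BlowUp.IsEffCartierIdeal I) (f : X ⟶ Y) [Flat f] :
    BlowUp.IsEffCartierIdeal (I.comap f) := by
  intro x
  obtain ⟨U, hxU, g, hgn, hg⟩ := hI (f x)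
  obtain ⟨_, ⟨V, hV, rfl⟩, hxV, hVU⟩ :=
    X.isBasis_affineOpens.exists_subset_of_mem_open (show x ∈ f ⁻¹ᵁ U.1 from hxU) (f ⁻¹ᵁ U.1).isOpen
  exact ⟨⟨V, hV⟩, hxV, _, NeronLib.map_mem_nonZeroDivisors_of_flat (Flat.flat_appLE f U.2 hV hVU) hgn,
    by rw [ProjLib.comap_ideal_eq I f U ⟨V, hV⟩ hVU, hg, Ideal.map_span, Set.image_singleton]⟩

theorem flat_regSub (f : X ⟶ Y) [Flat f] (U : Y.Opens) {s : Γ(Y, U)} (hs : s ∈ Mero.regSub Y U) :
    f.app U s ∈ Mero.regSub X (f ⁻¹ᵁ U) := by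
  rintro ⟨x, hx⟩
  have h : (X.presheaf.germ (f ⁻¹ᵁ U) x hx).hom ((f.app U).hom s) =
      (f.stalkMap x).hom ((Y.presheaf.germ U (f x) hx).hom s) :=
    (Scheme.Hom.germ_stalkMap_apply f U x hx s).symm
  show (X.presheaf.germ (f ⁻¹ᵁ U) x hx).hom ((f.app U).hom s) ∈ _
  rw [h]
  exact NeronLib.map_mem_nonZeroDivisors_of_flat (Flat.stalkMap f x) (hs ⟨f x, hx⟩)

section BlowUp

variable {𝓘 : X.IdealSheafData} {b : X' ⟶ X} (hb : BlowUp.IsBlowUp b 𝓘)

include hb in
theorem hom_ext {Z : Scheme.{u}} {p q : Z ⟶ X'} (hc : BlowUp.IsEffCartierIdeal (𝓘.comap (p ≫ b)))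
    (e : p ≫ b = q ≫ b) : p = q :=
  (hb.2 Z _ hc).unique rfl e.symm

/-- The complement of the exceptional divisor. -/
noncomputable def offCenter (b : X' ⟶ X) (𝓘 : X.IdealSheafData) : X'.Opens := b ⁻¹ᵁ 𝓘.support.compl

include hb in
theorem isDenseOpen_offCenter : IsDenseOpen (offCenter b 𝓘) := by
  have h := ModPairLib.isDenseOpen_interior hb.1
  rwa [ModPairLib.interior_comap] at h

include hb in
theorem isIso_off_center : IsIso (b ∣_ 𝓘.support.compl) :=
  ProjLib.isIso_morphismRestrict hb _ (Set.disjoint_left.mpr fun _ h h' => h' h)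

include hb in
theorem isOpenImmersion_offCenter : IsOpenImmersion ((offCenter b 𝓘).ι ≫ b) := by
  haveI := isIso_off_center hb
  have h : IsOpenImmersion ((b ∣_ (𝓘.support.compl : X.Opens)) ≫ Scheme.Opens.ι (𝓘.support.compl : X.Opens)) :=
    @IsOpenImmersion.comp _ _ _ _ _ (IsOpenImmersion.of_isIso _) inferInstance
  rw [morphismRestrict_ι] at h
  exact h

include hb in
theorem isEffCartier_comap {D : X.IdealSheafData} (hD : BlowUp.IsEffCartierIdeal D) :
    BlowUp.IsEffCartierIdeal (D.comap b) := by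
  rw [ModPairLib.isEffCartier_comap_iff hD]
  haveI := isOpenImmersion_offCenter hb
  have hQ : IsDenseOpen ((offCenter b 𝓘).ι ⁻¹ᵁ (b ⁻¹ᵁ ModPair.interior D)) := by
    rw [← Scheme.Hom.comp_preimage]
    exact (ModPairLib.isEffCartier_comap_iff hD _).1 (FlatMor12.BlowUpDisjoint.isEffCartierIdeal_comap D hD _)
  intro W s hs
  refine isDenseOpen_offCenter hb W s ?_
  set Q := offCenter b 𝓘
  set P := b ⁻¹ᵁ ModPair.interior D
  have hinj : Function.Injective (Q.ι.app (W ⊓ Q)).hom := by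
    haveI : IsIso (Q.ι.app (W ⊓ Q)) := Scheme.Hom.isIso_app _ _ (by rw [Scheme.Opens.opensRange_ι]; exact inf_le_right)
    exact (ConcreteCategory.bijective_of_isIso (Q.ι.app (W ⊓ Q))).1
  refine hinj ?_
  rw [map_zero]
  refine hQ _ _ ?_
  have hle : Q.ι ⁻¹ᵁ (W ⊓ Q) ⊓ Q.ι ⁻¹ᵁ P ≤ Q.ι ⁻¹ᵁ (W ⊓ P) := fun z hz => ⟨hz.1.1, hz.2⟩
  have hnat : ∀ (U U' : X'.Opens) (hU : U' ≤ U) (t : Γ(X', U)),
      (Q.ι.app U').hom (res hU t) = res (show Q.ι ⁻¹ᵁ U' ≤ Q.ι ⁻¹ᵁ U from fun _ h => hU h) ((Q.ι.app U).hom t) :=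
    fun U U' hU t => ConcreteCategory.congr_hom (Q.ι.naturality (homOfLE hU).op) t
  rw [hnat W (W ⊓ Q) inf_le_left, res_res]
  rw [← res_res (show Q.ι ⁻¹ᵁ (W ⊓ P) ≤ Q.ι ⁻¹ᵁ W from fun _ h => h.1) hle, ← hnat W (W ⊓ P) inf_le_left, hs,
    map_zero, map_zero]

include hb in
theorem blowUp_regSub {U : X.Opens} {s : Γ(X, U)} (hs : s ∈ Mero.regSub X U) :
    b.app U s ∈ Mero.regSub X' (b ⁻¹ᵁ U) := by
  haveI := isOpenImmersion_offCenter hb
  set Q := offCenter b 𝓘
  set s' : Γ(X', b ⁻¹ᵁ U) := (b.app U).hom s with hs'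
  rintro ⟨x, hx⟩
  show (X'.presheaf.germ (b ⁻¹ᵁ U) x hx).hom s' ∈ _
  rw [mem_nonZeroDivisors_iff_right]
  intro t ht
  obtain ⟨W, hxW, z, rfl⟩ := X'.presheaf.germ_exist t
  have hxW' : x ∈ W ⊓ b ⁻¹ᵁ U := ⟨hxW, hx⟩
  have ht' : (X'.presheaf.germ (W ⊓ b ⁻¹ᵁ U) x hxW').hom (res inf_le_left z * res inf_le_right s') = 0 := by
    rw [map_mul]
    erw [TopCat.Presheaf.germ_res_apply, TopCat.Presheaf.germ_res_apply]
    exact ht
  obtain ⟨W₁, hxW₁, i, i', heq⟩ := X'.presheaf.germ_eq x hxW' hxW' _ 0 (ht'.trans (map_zero _).symm)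
  rw [map_zero] at heq
  have hz0 : res (i.le.trans inf_le_left) z = 0 := by
    refine isDenseOpen_offCenter hb W₁ _ ?_
    refine X'.IsSheaf.section_ext fun y hy => ?_
    -- at a point off the centre the local ring is that of `X`
    have hyU : b y ∈ U := (i.le hy.1).2
    have hq : (X'.presheaf.germ (b ⁻¹ᵁ U) y hyU).hom s' ∈ nonZeroDivisors (X'.presheaf.stalk y) := by
      rw [hs', show (X'.presheaf.germ (b ⁻¹ᵁ U) y hyU).hom ((b.app U).hom s) =
        (b.stalkMap y).hom ((X.presheaf.germ U (b y) hyU).hom s) from (Scheme.Hom.germ_stalkMap_apply b U y hyU s).symm]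
      have hiso : IsIso (b.stalkMap y) := by
        have hbs : IsIso ((Q.ι ≫ b).stalkMap ⟨y, hy.2⟩) := inferInstance
        rw [Scheme.Hom.stalkMap_comp] at hbs
        haveI : IsIso (Q.ι.stalkMap (⟨y, hy.2⟩ : (Q : Scheme.{u}))) := inferInstance
        exact @IsIso.of_isIso_comp_right _ _ _ _ _ (b.stalkMap y) _ this hbs
      exact NeronLib.map_mem_nonZeroDivisors_of_flat
        (RingHom.Flat.of_bijective (ConcreteCategory.bijective_of_isIso (b.stalkMap y))) (hs ⟨b y, hyU⟩)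
    have hzero : (X'.presheaf.germ W y ((i.le hy.1).1)).hom z = 0 := by
      refine (mem_nonZeroDivisors_iff_right.1 hq) _ ?_
      have := congrArg (X'.presheaf.germ W₁ y hy.1).hom heq
      rw [map_zero, TopCat.Presheaf.germ_res_apply, map_mul] at this
      erw [TopCat.Presheaf.germ_res_apply, TopCat.Presheaf.germ_res_apply] at this
      exact this
    obtain ⟨W₂, hyW₂, j, j', heq₂⟩ := X'.presheaf.germ_eq y ((i.le hy.1).1) ((i.le hy.1).1) z 0
      (hzero.trans (map_zero _).symm)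
    refine ⟨W₂ ⊓ (W₁ ⊓ Q), inf_le_right, ⟨hyW₂, hy⟩, ?_⟩
    show res inf_le_right (res inf_le_left (res _ z)) = res _ 0
    rw [map_zero, res_res, res_res, ← res_res j.le (inf_le_left : W₂ ⊓ (W₁ ⊓ Q) ≤ W₂),
      show res j.le z = 0 from heq₂.trans (map_zero _), map_zero]
  have := congrArg (X'.presheaf.germ W₁ x hxW₁).hom hz0
  rw [map_zero] at this
  erw [TopCat.Presheaf.germ_res_apply] at this
  exact this

include hb in
theorem isBlowUp_mul_effCartier {D : X.IdealSheafData} (hD : BlowUp.IsEffCartierIdeal D) :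
    BlowUp.IsBlowUp b (𝓘 * D) := by
  refine ⟨?_, fun Z g hg => hb.2 Z g ?_⟩
  · rw [ModPairLib.comap_mul]; exact ModPairLib.isEffCartier_mul hb.1 (isEffCartier_comap hb hD)
  · rw [ModPairLib.comap_mul] at hg; exact isEffCartier_left_of_mul hg

include hb in
theorem isBlowUp_comp {𝓙 : X.IdealSheafData} {X'' : Scheme.{u}} {b' : X'' ⟶ X'}
    (hb' : BlowUp.IsBlowUp b' (𝓙.comap b)) : BlowUp.IsBlowUp (b' ≫ b) (𝓘 * 𝓙) := by
  refine ⟨?_, fun Z g hg => ?_⟩
  · rw [ModPairLib.comap_mul, Scheme.IdealSheafData.comap_comp, Scheme.IdealSheafData.comap_comp]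
    exact ModPairLib.isEffCartier_mul (isEffCartier_comap hb' hb.1) hb'.1
  · rw [ModPairLib.comap_mul] at hg
    obtain ⟨h, hh, hu⟩ := hb.2 Z g (isEffCartier_left_of_mul hg)
    have hJ : BlowUp.IsEffCartierIdeal ((𝓙.comap b).comap h) := by
      rw [← Scheme.IdealSheafData.comap_comp, hh]; exact isEffCartier_right_of_mul hg
    obtain ⟨h', hh', hu'⟩ := hb'.2 Z h hJ
    refine ⟨h', by dsimp only; rw [← Category.assoc, hh', hh], fun q hq => hu' q (hu _ ?_)⟩
    show (q ≫ b') ≫ b = g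
    rw [Category.assoc]; exact hq

include hb in
theorem isBlowUp_flat_baseChange {X₁ : Scheme.{u}} (g : X₁ ⟶ X) [Flat g] :
    BlowUp.IsBlowUp (pullback.fst g b) (𝓘.comap g) := by
  refine ⟨?_, fun Z k hk => ?_⟩
  · rw [← Scheme.IdealSheafData.comap_comp, pullback.condition, Scheme.IdealSheafData.comap_comp]
    exact isEffCartier_comap_of_flat hb.1 _
  · rw [← Scheme.IdealSheafData.comap_comp] at hk
    obtain ⟨h, hh, hu⟩ := hb.2 Z _ hk
    refine ⟨pullback.lift k h hh.symm, pullback.lift_fst _ _ _, fun q hq => pullback.hom_ext ?_ ?_⟩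
    · rw [pullback.lift_fst]; exact hq
    · rw [pullback.lift_snd]
      refine hu _ ?_
      show (q ≫ pullback.snd g b) ≫ b = k ≫ g
      rw [Category.assoc, ← pullback.condition, ← Category.assoc, hq]

include hb in
theorem maximalPoints_bijOn :
    Set.BijOn (fun x' => b x') {x' : ↥X' | ∀ y : ↥X', y ⤳ x' → y = x'}
      {x : ↥X | (∀ y : ↥X, y ⤳ x → y = x) ∧ x ∉ 𝓘.support} := by
  haveI := isOpenImmersion_offCenter hb
  set Q := offCenter b 𝓘
  have hemb : Topology.IsOpenEmbedding (fun q : (Q : Scheme.{u}) => b (Q.ι q)) :=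
    (Q.ι ≫ b).isOpenEmbedding
  have hmax : ∀ x' : ↥X', (∀ y, y ⤳ x' → y = x') → x' ∈ Q := by
    intro x' hx' hmem
    obtain ⟨V, hxV, f, hf, hfI⟩ := hb.1 x'
    have hsupp : x' ∈ (𝓘.comap b).support := by
      rw [← SetLike.mem_coe, Scheme.IdealSheafData.support_comap]
      exact hmem
    have h1 := ((𝓘.comap b).mem_support_iff_of_mem hxV).1 hsupp
    rw [hfI, Scheme.zeroLocus_span, Scheme.mem_zeroLocus_iff] at h1
    set P := V.2.primeIdealOf ⟨x', hxV⟩
    have hmin : P.asIdeal ∈ minimalPrimes Γ(X', V.1) := by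
      refine ⟨⟨P.2, bot_le⟩, fun q hq hle => ?_⟩
      let qq : Spec Γ(X', V.1) := ⟨q, hq.1⟩
      have hP : V.2.fromSpec P = x' := V.2.fromSpec_primeIdealOf ⟨x', hxV⟩
      have hs : V.2.fromSpec qq ⤳ x' := by
        have := ((PrimeSpectrum.le_iff_specializes qq P).1 hle).map V.2.fromSpec.continuous
        rwa [hP] at this
      have := V.2.fromSpec.isOpenEmbedding.injective
        ((hx' _ hs).trans (V.2.fromSpec_primeIdealOf ⟨x', hxV⟩).symm)
      exact (congrArg PrimeSpectrum.asIdeal this).ge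
    refine Set.disjoint_left.1 (Ideal.disjoint_nonZeroDivisors_of_mem_minimalPrimes hmin) ?_ hf
    have h2 : V.2.fromSpec P ∉ X'.basicOpen f := by
      rw [V.2.fromSpec_primeIdealOf]; exact h1 f rfl
    by_contra hfP
    exact h2 (by
      show P ∈ V.2.fromSpec ⁻¹ᵁ X'.basicOpen f
      rw [V.2.fromSpec_preimage_basicOpen]
      exact hfP)
  refine ⟨fun x' hx' => ⟨fun y hy => ?_, hmax x' hx'⟩, fun x' hx' y' hy' he => ?_, fun x hx => ?_⟩
  · have hyc : y ∉ 𝓘.support := fun h => hmax x' hx' (hy.mem_closed 𝓘.support.isClosed h)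
    haveI := isIso_off_center hb
    obtain ⟨q, hq⟩ := (b ∣_ 𝓘.support.compl).homeomorph.surjective ⟨y, hyc⟩
    have hq' : b (Q.ι q) = y := by
      refine Eq.trans ?_ (congrArg (Scheme.Opens.ι 𝓘.support.compl) hq)
      show (Q.ι ≫ b) q = ((b ∣_ 𝓘.support.compl) ≫ Scheme.Opens.ι 𝓘.support.compl) q
      rw [morphismRestrict_ι]
      rfl
    have hs : q ⤳ (⟨x', hmax x' hx'⟩ : (Q : Scheme.{u})) := hemb.toIsInducing.specializes_iff.1 (by
      show b (Q.ι q) ⤳ b x'
      rw [hq']; exact hy)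
    show y = b x'
    rw [← hq', hx' (Q.ι q) (hs.map Q.ι.continuous)]
  · exact congrArg Q.ι (hemb.injective (a₁ := ⟨x', hmax x' hx'⟩) (a₂ := ⟨y', hmax y' hy'⟩) he)
  · haveI := isIso_off_center hb
    obtain ⟨q, hq⟩ := (b ∣_ 𝓘.support.compl).homeomorph.surjective ⟨x, hx.2⟩
    have hq' : b (Q.ι q) = x := by
      refine Eq.trans ?_ (congrArg (Scheme.Opens.ι 𝓘.support.compl) hq)
      show (Q.ι ≫ b) q = ((b ∣_ 𝓘.support.compl) ≫ Scheme.Opens.ι 𝓘.support.compl) q
      rw [morphismRestrict_ι]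
      rfl
    refine ⟨Q.ι q, fun y hy => ?_, hq'⟩
    have hyQ : y ∈ Q := hy.mem_open Q.isOpen q.2
    have := hx.1 (b y) (hq' ▸ hy.map b.continuous)
    rw [← hq'] at this
    exact congrArg Q.ι (hemb.injective (a₁ := ⟨y, hyQ⟩) (a₂ := q) this)

end BlowUp

end Groth.Agent.SDiv28
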