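import Groth.Agent.CAlgH.RegImmStalk
import Groth.Agent.CAlgH3.RegularCore
import Groth.Agent.LCI15.Conormal
import Mathlib

/-!
# An immersion of regular schemes is a regular immersion
-/

set_option autoImplicit false
set_option backward.isDefEq.respectTransparency.types false
universe u

open CategoryTheory AlgebraicGeometry Opposite TopologicalSpace IsLocalRing RingTheory.Sequence

namespace Groth.Agent.SDiv28.RegImm

theorem isClosedImmersion_restrict {Z X : Scheme.{u}} (i : Z ⟶ X) [IsImmersion i] {U : X.Opens}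
    (hle : U ≤ i.coborderRange) : IsClosedImmersion (i ∣_ U) := by
  have h' : IsPullback i.liftCoborder (𝟙 Z) i.coborderRange.ι i :=
    IsPullback.of_vert_isIso_mono ⟨by simp⟩
  have h : IsPullback (i ∣_ U) (i ⁻¹ᵁ U).ι (X.homOfLE hle ≫ i.coborderRange.ι) i := by
    rw [Scheme.homOfLE_ι]
    exact isPullback_morphismRestrict i U
  exact MorphismProperty.of_isPullback (P := @IsClosedImmersion) (IsPullback.of_bot' h h').flip inferInstance

/-- An ideal of a regular local ring with regular quotient is generated by a regular sequence of elements of any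
generating set up to units. -/
theorem exists_numerators {A : Type u} [CommRing A] [IsNoetherianRing A] (p : Ideal A) [p.IsPrime]
    (I : Ideal A) [IsRegularLocalRing (Localization.AtPrime p)]
    [IsRegularLocalRing (Localization.AtPrime p ⧸ I.map (algebraMap A (Localization.AtPrime p)))] :
    ∃ L : List A, Ideal.ofList L ≤ I ∧
      IsWeaklyRegular (Localization.AtPrime p) (L.map (algebraMap A (Localization.AtPrime p))) ∧
      I.map (algebraMap A (Localization.AtPrime p)) ≤
        (Ideal.ofList L).map (algebraMap A (Localization.AtPrime p)) := by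
  classical
  let R := Localization.AtPrime p
  let γ := algebraMap A R
  obtain ⟨rs, hlen, hspan, c, hc, hI⟩ :=
    CAlgH3.exists_sop_of_regular_quotient _ R rfl (I.map γ)
  have hnum : ∀ r ∈ rs.take c, ∃ a ∈ I, Ideal.span {γ a} = Ideal.span {r} := by
    intro r hr
    obtain ⟨⟨⟨a, ha⟩, s⟩, hs⟩ := (IsLocalization.mem_map_algebraMap_iff p.primeCompl R).1
      (show r ∈ I.map γ from hI ▸ Ideal.subset_span hr)
    refine ⟨a, ha, ?_⟩
    rw [← hs]
    exact Ideal.span_singleton_mul_right_unit (IsLocalization.map_units R s) r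
  choose! num hnumI hnumspan using hnum
  have key : ∀ l : List R, (∀ r ∈ l, r ∈ rs.take c) → Ideal.ofList ((l.map num).map γ) = Ideal.ofList l := by
    intro l hl
    induction l with
    | nil => rfl
    | cons r l ih =>
      rw [List.map_cons, List.map_cons, Ideal.ofList_cons, Ideal.ofList_cons,
        hnumspan r (hl r (by simp)), ih fun x hx => hl x (List.mem_cons_of_mem _ hx)]
  let L := (rs.take c).map num
  refine ⟨L, Ideal.span_le.2 fun x hx => ?_, ?_, ?_⟩
  · obtain ⟨r, hr, rfl⟩ := List.mem_map.1 hx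
    exact hnumI r hr
  · have h1 : Ideal.ofList (L.map γ ++ rs.drop c) = maximalIdeal R := by
      rw [Ideal.ofList_append, key _ (fun r hr => hr), ← Ideal.ofList_append, List.take_append_drop, hspan]
    have h2 : (L.map γ ++ rs.drop c).length = (maximalIdeal R).spanFinrank := by
      simp [L, hlen]
      omega
    exact ((isWeaklyRegular_append_iff R _ _).1
      (CAlgH3.isRegular_of_ofList_eq_maximalIdeal _ h1 h2).toIsWeaklyRegular).1
  · rw [Ideal.map_ofList, key _ (fun r hr => hr), ← hI]

theorem ker_app_restrict {Z X : Scheme.{u}} (i : Z ⟶ X) [IsImmersion i] {U : X.Opens} (hU : IsAffineOpen U)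
    [IsClosedImmersion (i ∣_ U)] (g : Γ(X, U)) :
    RingHom.ker (i.app (X.basicOpen g)).hom =
      (RingHom.ker (i.app U).hom).map (X.presheaf.map (homOfLE (X.basicOpen_le g)).op).hom := by
  have hW : IsAffineOpen (i ⁻¹ᵁ U) := by
    have : IsAffine U.toScheme := hU
    exact isAffine_of_isAffineHom (i ∣_ U)
  have hsurj := CAlgH.RegImmStalk.app_surjective_of_restrict i hU
  haveI := hU.isLocalization_basicOpen g
  apply le_antisymm
  · intro z hz
    obtain ⟨b, ⟨_, n, rfl⟩, rfl⟩ := IsLocalization.exists_mk'_eq (Submonoid.powers g) z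
    refine (IsLocalization.mk'_mem_map_algebraMap_iff (Submonoid.powers g) Γ(X, X.basicOpen g) _ _ _).2 ?_
    have h1 : i.app (X.basicOpen g) (X.presheaf.map (homOfLE (X.basicOpen_le g)).op b) = 0 := by
      have := IsLocalization.mk'_spec Γ(X, X.basicOpen g) b (⟨g ^ n, n, rfl⟩ : Submonoid.powers g)
      change _ = X.presheaf.map (homOfLE (X.basicOpen_le g)).op b at this
      rw [← this, map_mul, RingHom.mem_ker.1 hz, zero_mul]
    have h2 : Z.presheaf.map (homOfLE (i.preimage_mono (X.basicOpen_le g))).op (i.app U b) = 0 := by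
      have := congrArg (fun φ => φ.hom b) (i.naturality (homOfLE (X.basicOpen_le g)).op)
      exact this.symm.trans h1
    haveI := hW.isLocalization_of_eq_basicOpen (i.app U g) (homOfLE (i.preimage_mono (X.basicOpen_le g)))
      (Scheme.preimage_basicOpen i g)
    letI := (Z.presheaf.map (homOfLE (i.preimage_mono (X.basicOpen_le g))).op).hom.toAlgebra
    obtain ⟨⟨_, m, rfl⟩, hm⟩ := (IsLocalization.map_eq_zero_iff (Submonoid.powers (i.app U g))
      Γ(Z, i ⁻¹ᵁ X.basicOpen g) (i.app U b)).1 h2
    refine ⟨g ^ m, ⟨m, rfl⟩, RingHom.mem_ker.2 ?_⟩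
    rw [map_mul, map_pow]
    exact hm
  · rw [Ideal.map_le_iff_le_comap]
    intro b hb
    rw [Ideal.mem_comap, RingHom.mem_ker]
    have := congrArg (fun φ => φ.hom b) (i.naturality (homOfLE (X.basicOpen_le g)).op)
    refine this.trans ?_
    show Z.presheaf.map _ (i.app U b) = 0
    rw [show i.app U b = 0 from RingHom.mem_ker.1 hb, map_zero]

theorem isRegularImmersion {Z X : Scheme.{u}} (i : Z ⟶ X) [IsImmersion i] [IsLocallyNoetherian X]
    (hX : ∀ x : X, IsRegularLocalRing (X.presheaf.stalk x))
    (hZ : ∀ z : Z, IsRegularLocalRing (Z.presheaf.stalk z)) :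
    _root_.RegImm.IsRegularImmersion _root_.RegImm.Kind.regular i := by
  refine ⟨inferInstance, fun z => ?_⟩
  obtain ⟨U, hU, hzU, hle⟩ := Opens.isBasis_iff_nbhd.mp X.isBasis_affineOpens
    (show i z ∈ i.coborderRange from subset_coborder ⟨z, rfl⟩)
  haveI := isClosedImmersion_restrict i hle
  haveI : IsNoetherianRing Γ(X, U) := IsLocallyNoetherian.component_noetherian ⟨U, hU⟩
  letI := X.presheaf.algebra_section_stalk (⟨i z, hzU⟩ : U)
  haveI := hU.isLocalization_stalk ⟨i z, hzU⟩
  let p := (hU.primeIdealOf ⟨i z, hzU⟩).asIdeal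
  haveI : IsLocalization p.primeCompl (X.presheaf.stalk (i z)) := hU.isLocalization_stalk ⟨i z, hzU⟩
  let I := RingHom.ker (i.app U).hom
  let e := IsLocalization.algEquiv p.primeCompl (Localization.AtPrime p) (X.presheaf.stalk (i z))
  haveI := hX (i z)
  haveI := hZ z
  haveI : IsRegularLocalRing (Localization.AtPrime p) := IsRegularLocalRing.of_ringEquiv e.toRingEquiv.symm
  let ψ : Localization.AtPrime p →+* Z.presheaf.stalk z := (i.stalkMap z).hom.comp e.toRingEquiv.toRingHom
  have hψ : Function.Surjective ψ := (i.stalkMap_surjective z).comp e.surjective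
  have hker : RingHom.ker ψ = I.map (algebraMap Γ(X, U) (Localization.AtPrime p)) := by
    rw [← RingHom.comap_ker, CAlgH.RegImmStalk.ker_stalkMap_eq i z hU hzU]
    refine Eq.trans ?_ (Ideal.comap_map_of_bijective e.toRingEquiv.toRingHom e.bijective)
    rw [Ideal.map_map]
    congr 2
    exact (e.toAlgHom.comp_algebraMap).symm
  haveI : IsRegularLocalRing (Localization.AtPrime p ⧸ I.map (algebraMap Γ(X, U) (Localization.AtPrime p))) :=
    IsRegularLocalRing.of_ringEquiv (R := Z.presheaf.stalk z)
      ((Ideal.quotEquivOfEq hker.symm).trans (RingHom.quotientKerEquivOfSurjective hψ)).symm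
  obtain ⟨L, hLI, hreg, hgen⟩ := exists_numerators p I
  have hIp : I ≤ p := by
    intro b hb
    by_contra hbp
    have hu : IsUnit (X.presheaf.germ U (i z) hzU b) := IsLocalization.map_units _ (⟨b, hbp⟩ : p.primeCompl)
    have h0 := hu.map (i.stalkMap z).hom
    rw [show (i.stalkMap z).hom (X.presheaf.germ U (i z) hzU b) = Z.presheaf.germ (i ⁻¹ᵁ U) z hzU (i.app U b)
      from Scheme.Hom.germ_stalkMap_apply i U z hzU b, show i.app U b = 0 from RingHom.mem_ker.1 hb, map_zero] at h0
    exact not_isUnit_zero h0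
  obtain ⟨g, hg, rs, hrs, hrsI⟩ := LCI15.exists_spread_out I p hIp L hLI hreg hgen
  have hzg : i z ∈ X.basicOpen g := by
    rw [Scheme.mem_basicOpen X g (i z) hzU]
    exact IsLocalization.map_units _ (⟨g, hg⟩ : p.primeCompl)
  haveI := hU.isLocalization_basicOpen g
  let ε := IsLocalization.algEquiv (Submonoid.powers g) (Localization.Away g) Γ(X, X.basicOpen g)
  refine ⟨⟨X.basicOpen g, hU.basicOpen g⟩, hzg, isClosedImmersion_restrict i ((X.basicOpen_le g).trans hle),
    rs.map ε, ⟨?_, ?_⟩, ?_⟩
  · have hl : IsWeaklyRegular (Localization.Away g) rs := hrs.toIsWeaklyRegular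
    exact (ε.toRingEquiv.toAddEquiv.isWeaklyRegular_congr (List.forall₂_map_right_iff.2
      (List.forall₂_same.2 fun x _ y => map_mul ε.toRingEquiv x y))).1 hl
  · intro h
    refine hrs.top_ne_smul ?_
    rw [smul_eq_mul, Ideal.mul_top] at h ⊢
    have h' : (Ideal.ofList rs).map ε.toRingEquiv.toRingHom = ⊤ :=
      (Ideal.map_ofList (f := ε.toRingEquiv.toRingHom) (rs := rs)).trans h.symm
    have h'' := congrArg (Ideal.comap ε.toRingEquiv.toRingHom) h'
    rw [Ideal.comap_top, Ideal.comap_map_of_bijective ε.toRingEquiv.toRingHom ε.bijective] at h''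
    exact h''.symm
  · show RingHom.ker (i.app (X.basicOpen g)).hom = Ideal.ofList (rs.map ε)
    rw [ker_app_restrict i hU g]
    refine Eq.trans ?_ (Ideal.map_ofList (f := ε.toRingEquiv.toRingHom) (rs := rs))
    rw [hrsI, Ideal.map_map]
    congr 1
    exact (ε.toAlgHom.comp_algebraMap).symm

end Groth.Agent.SDiv28.RegImm
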