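import Groth.Agent.SDiv28.RegularImm
import Groth.Prelude.Def_Mor2
import Mathlib

/-!
# Regular closed immersions near a point and regular sequences at the stalk
-/

set_option autoImplicit false
set_option backward.isDefEq.respectTransparency.types false
universe u

open CategoryTheory AlgebraicGeometry Opposite TopologicalSpace IsLocalRing RingTheory.Sequence

namespace Groth.Agent.SDiv28.RegSpread

theorem isWeaklyRegular_congr_span {R : Type u} [CommRing R] : ∀ {l l' : List R},
    List.Forall₂ (fun a b => Ideal.span {a} = Ideal.span {b}) l l' →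
    (IsWeaklyRegular R l → IsWeaklyRegular R l') := by
  intro l l' h hl
  rw [LCI15.isWeaklyRegular_iff_colon] at hl ⊢
  intro k hk z hz
  have hlen := h.length_eq
  have htake : Ideal.ofList (l'.take k) = Ideal.ofList (l.take k) := by
    have : ∀ {a b : List R}, List.Forall₂ (fun a b => Ideal.span {a} = Ideal.span {b}) a b →
        Ideal.ofList a = Ideal.ofList b := by
      intro a b hab
      induction hab with
      | nil => rfl
      | cons hd _ ih => rw [Ideal.ofList_cons, Ideal.ofList_cons, hd, ih]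
    exact (this (List.forall₂_take k h)).symm
  rw [htake] at hz ⊢
  obtain ⟨c, hc⟩ := Ideal.mem_span_singleton'.1
    ((List.forall₂_iff_get.1 h).2 k (hlen ▸ hk) hk ▸ Ideal.mem_span_singleton_self (l[k]'(hlen ▸ hk)))
  refine hl k (hlen ▸ hk) z ?_
  change c * l'[k] = l[k] at hc
  rw [← hc, mul_assoc]
  exact Ideal.mul_mem_left _ c hz

/-- Numerators of a regular sequence generating a localised ideal. -/
theorem exists_numerators {A : Type u} [CommRing A] (M : Submonoid A) (R : Type u) [CommRing R]
    [Algebra A R] [IsLocalization M R] (I : Ideal A) (rs : List R) (hrs : IsWeaklyRegular R rs)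
    (hI : I.map (algebraMap A R) = Ideal.ofList rs) :
    ∃ L : List A, Ideal.ofList L ≤ I ∧ IsWeaklyRegular R (L.map (algebraMap A R)) ∧
      I.map (algebraMap A R) ≤ (Ideal.ofList L).map (algebraMap A R) := by
  classical
  have hnum : ∀ r ∈ rs, ∃ a ∈ I, Ideal.span {algebraMap A R a} = Ideal.span {r} := by
    intro r hr
    obtain ⟨⟨⟨a, ha⟩, s⟩, hs⟩ := (IsLocalization.mem_map_algebraMap_iff M R).1
      (show r ∈ I.map (algebraMap A R) from hI ▸ Ideal.subset_span hr)
    refine ⟨a, ha, ?_⟩
    rw [← hs]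
    exact Ideal.span_singleton_mul_right_unit (IsLocalization.map_units R s) r
  choose! num hnumI hnumspan using hnum
  have hF : List.Forall₂ (fun a b => Ideal.span {a} = Ideal.span {b}) rs
      ((rs.map num).map (algebraMap A R)) := by
    rw [List.map_map, List.forall₂_map_right_iff, List.forall₂_same]
    exact fun r hr => (hnumspan r hr).symm
  have key : ∀ {a b : List R}, List.Forall₂ (fun a b => Ideal.span {a} = Ideal.span {b}) a b →
      Ideal.ofList a = Ideal.ofList b := by
    intro a b hab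
    induction hab with
    | nil => rfl
    | cons hd _ ih => rw [Ideal.ofList_cons, Ideal.ofList_cons, hd, ih]
  refine ⟨rs.map num, Ideal.span_le.2 fun x hx => ?_, isWeaklyRegular_congr_span hF hrs, ?_⟩
  · obtain ⟨r, hr, rfl⟩ := List.mem_map.1 hx
    exact hnumI r hr
  · rw [Ideal.map_ofList, hI, key hF]

theorem ker_restrict_app {Z X : Scheme.{u}} (i : Z ⟶ X) (V : X.Opens) (W : V.toScheme.Opens) :
    RingHom.ker ((i ∣_ V).app W).hom = RingHom.ker (i.app (V.ι ''ᵁ W)).hom := by
  rw [morphismRestrict_app]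
  exact RingHom.ker_comp_of_injective _ (ConcreteCategory.bijective_of_isIso (Z.presheaf.map _)).1

theorem iff_ker_stalk {X Z : Scheme.{u}} [IsLocallyNoetherian X] (i : Z ⟶ X) [IsClosedImmersion i]
    (z : ↥Z) :
    (∃ V : X.Opens, i z ∈ V ∧ Mor2.IsRegularClosedImmersion (i ∣_ V)) ↔
      ∃ rs : List ↑(X.presheaf.stalk (i z)), IsRegular ↑(X.presheaf.stalk (i z)) rs ∧
        RingHom.ker (i.stalkMap z).hom = Ideal.ofList rs := by
  constructor
  · rintro ⟨V, hzV, -, h⟩
    obtain ⟨W, hW, hzW, rs, hrs, hker⟩ := h ⟨z, hzV⟩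
    rw [Scheme.Hom.ker_apply (f := i ∣_ V), ker_restrict_app] at hker
    have hU : IsAffineOpen (V.ι ''ᵁ W) := hW.image_of_isOpenImmersion V.ι
    have hz : i z ∈ V.ι ''ᵁ W := ⟨(i ∣_ V) ⟨z, hzV⟩, hzW, congrArg (fun f => f ⟨z, hzV⟩) (morphismRestrict_ι i V)⟩
    let := X.presheaf.algebra_section_stalk ⟨i z, hz⟩
    have := hU.isLocalization_stalk ⟨i z, hz⟩
    have : Module.Flat Γ(X, V.ι ''ᵁ W) (X.presheaf.stalk (i z)) :=
      IsLocalization.flat _ (hU.primeIdealOf ⟨i z, hz⟩).asIdeal.primeCompl
    have hrs' : RingTheory.Sequence.IsRegular Γ(X, V.ι ''ᵁ W) (show List Γ(X, V.ι ''ᵁ W) from rs) := hrs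
    have hk : RingHom.ker (i.stalkMap z).hom =
        Ideal.ofList (rs.map (X.presheaf.germ (V.ι ''ᵁ W) (i z) hz).hom) := by
      rw [CAlgH.RegImmStalk.ker_stalkMap_eq i z hU hz]
      exact (congrArg (Ideal.map _) hker).trans (Ideal.map_ofList _ _)
    refine ⟨_, ⟨IsWeaklyRegular.of_flat (S := X.presheaf.stalk (i z)) hrs'.toIsWeaklyRegular, ?_⟩, hk⟩
    rw [smul_eq_mul, Ideal.mul_top]
    intro h0
    exact RingHom.ker_ne_top (i.stalkMap z).hom (hk.trans h0.symm)
  · rintro ⟨rs, hrs, hker⟩
    obtain ⟨_, ⟨U, hU, rfl⟩, hzU, -⟩ :=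
      X.isBasis_affineOpens.exists_subset_of_mem_open (Set.mem_univ (i z)) isOpen_univ
    haveI : IsNoetherianRing Γ(X, U) := IsLocallyNoetherian.component_noetherian ⟨U, hU⟩
    letI := X.presheaf.algebra_section_stalk (⟨i z, hzU⟩ : U)
    let p := (hU.primeIdealOf ⟨i z, hzU⟩).asIdeal
    haveI : IsLocalization p.primeCompl (X.presheaf.stalk (i z)) := hU.isLocalization_stalk ⟨i z, hzU⟩
    let I := RingHom.ker (i.app U).hom
    have hI : I.map (algebraMap Γ(X, U) (X.presheaf.stalk (i z))) = Ideal.ofList rs :=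
      (CAlgH.RegImmStalk.ker_stalkMap_eq i z hU hzU).symm.trans hker
    obtain ⟨L, hLI, hreg, hgen⟩ := exists_numerators p.primeCompl _ I rs hrs.toIsWeaklyRegular hI
    let e := IsLocalization.algEquiv p.primeCompl (X.presheaf.stalk (i z)) (Localization.AtPrime p)
    have hcomp : e.toRingEquiv.toRingHom.comp (algebraMap Γ(X, U) (X.presheaf.stalk (i z))) =
        algebraMap Γ(X, U) (Localization.AtPrime p) := e.toAlgHom.comp_algebraMap
    have hreg' : IsWeaklyRegular (Localization.AtPrime p)
        (L.map (algebraMap Γ(X, U) (Localization.AtPrime p))) :=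
      (e.toRingEquiv.toAddEquiv.isWeaklyRegular_congr (List.forall₂_map_left_iff.2
        (List.forall₂_map_right_iff.2 (List.forall₂_same.2 fun x _ y => by
          show e (_ * y) = algebraMap _ _ x * e y
          rw [map_mul, e.commutes])))).1 hreg
    have hgen' : I.map (algebraMap Γ(X, U) (Localization.AtPrime p)) ≤
        (Ideal.ofList L).map (algebraMap Γ(X, U) (Localization.AtPrime p)) := by
      rw [← hcomp, ← Ideal.map_map, ← Ideal.map_map]
      exact Ideal.map_mono hgen
    have hIp : I ≤ p := by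
      intro b hb
      by_contra hbp
      have hu : IsUnit (X.presheaf.germ U (i z) hzU b) :=
        IsLocalization.map_units _ (⟨b, hbp⟩ : p.primeCompl)
      have hm : X.presheaf.germ U (i z) hzU b ∈ RingHom.ker (i.stalkMap z).hom := by
        rw [CAlgH.RegImmStalk.ker_stalkMap_eq i z hU hzU]
        exact Ideal.mem_map_of_mem _ hb
      exact RingHom.ker_ne_top _ (Ideal.eq_top_of_isUnit_mem _ hm hu)
    obtain ⟨g, hg, rs', hrs', hrsI⟩ := LCI15.exists_spread_out I p hIp L hLI hreg' hgen'
    have hzg : i z ∈ X.basicOpen g := by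
      rw [Scheme.mem_basicOpen X g (i z) hzU]
      exact IsLocalization.map_units _ (⟨g, hg⟩ : p.primeCompl)
    haveI := hU.isLocalization_basicOpen g
    let ε := IsLocalization.algEquiv (Submonoid.powers g) (Localization.Away g) Γ(X, X.basicOpen g)
    have hreg1 : IsRegular Γ(X, X.basicOpen g) (rs'.map ε) ∧
        RingHom.ker (i.app (X.basicOpen g)).hom = Ideal.ofList (rs'.map ε) := by
      refine ⟨⟨(ε.toRingEquiv.toAddEquiv.isWeaklyRegular_congr (List.forall₂_map_right_iff.2
          (List.forall₂_same.2 fun x _ y => map_mul ε.toRingEquiv x y))).1 hrs'.toIsWeaklyRegular, ?_⟩, ?_⟩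
      · intro h
        refine hrs'.top_ne_smul ?_
        rw [smul_eq_mul, Ideal.mul_top] at h ⊢
        have h' : (Ideal.ofList rs').map ε.toRingEquiv.toRingHom = ⊤ :=
          (Ideal.map_ofList (f := ε.toRingEquiv.toRingHom) (rs := rs')).trans h.symm
        have h'' := congrArg (Ideal.comap ε.toRingEquiv.toRingHom) h'
        rw [Ideal.comap_top, Ideal.comap_map_of_bijective ε.toRingEquiv.toRingHom ε.bijective] at h''
        exact h''.symm
      · rw [RegImm.ker_app_restrict i hU g]
        refine Eq.trans ?_ (Ideal.map_ofList (f := ε.toRingEquiv.toRingHom) (rs := rs'))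
        rw [hrsI, Ideal.map_map]
        congr 1
        exact (ε.toAlgHom.comp_algebraMap).symm
    refine ⟨X.basicOpen g, hzg, inferInstance, fun w => ?_⟩
    haveI : IsAffine (X.basicOpen g).toScheme := hU.basicOpen g
    refine ⟨⊤, isAffineOpen_top _, Set.mem_univ _, ?_⟩
    have key : ∀ W : X.Opens, W = X.basicOpen g → ∃ l : List Γ(X, W), IsRegular Γ(X, W) l ∧
        RingHom.ker (i.app W).hom = Ideal.ofList l := by
      rintro W rfl
      exact ⟨_, hreg1⟩
    obtain ⟨l, hl, hlk⟩ := key _ (Scheme.Opens.ι_image_top _)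
    refine ⟨l, hl, ?_⟩
    rw [Scheme.Hom.ker_apply (f := i ∣_ X.basicOpen g), ker_restrict_app]
    exact hlk

end Groth.Agent.SDiv28.RegSpread
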