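import Groth.Agent.SDiv28.BlowUp
import Groth.Agent.BlowUpLib.Chart
import Groth.Agent.ProjLib.AffineBlowup
import Mathlib

/-!
# The charts of a blowing up
-/

set_option autoImplicit false
set_option backward.isDefEq.respectTransparency.types false

universe u

open CategoryTheory Limits AlgebraicGeometry TopologicalSpace
open Groth.Agent.BlowUpLib

namespace Groth.Agent.SDiv28

variable {X X' : Scheme.{u}}

/-- The locus where `a` generates is the chart. -/
theorem exists_locus_iso {I : X.IdealSheafData} {b : X' ⟶ X} (hb : BlowUp.IsBlowUp b I)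
    (U : X.affineOpens) {a : Γ(X, U.1)} (ha : a ∈ I.ideal U) :
    ∃ e : (locus I b U a : Scheme.{u}) ≅ chart I U a,
      e.hom ≫ chartMap I U a = (locus I b U a).ι ≫ b := by
  set V := locus I b U a
  have hVe : BlowUp.IsEffCartierIdeal (I.comap (V.ι ≫ b)) := by
    rw [Scheme.IdealSheafData.comap_comp]
    exact FlatMor12.BlowUpDisjoint.isEffCartierIdeal_comap _ hb.1 _
  have hlocV : locus I (V.ι ≫ b) U a = ⊤ := by
    rw [← preimage_locus ha b hb.1 V.ι hVe]
    exact Scheme.Opens.ι_preimage_self _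
  obtain ⟨p, hp, hpu⟩ := existsUnique_lift ha _ hVe hlocV
  have hc := (generates_chartMap (I := I) ha).2
  obtain ⟨q, hq, hqu⟩ := hb.2 _ (chartMap I U a) hc
  have hrange : Set.range q ⊆ Set.range V.ι := by
    rw [Scheme.Opens.range_ι]
    rintro _ ⟨z, rfl⟩
    have h := preimage_locus ha b hb.1 q (by rw [hq]; exact hc)
    rw [hq, locus_chartMap ha] at h
    exact h.ge (trivial : z ∈ (⊤ : (chart I U a).Opens))
  let q' := IsOpenImmersion.lift V.ι q hrange
  have hq' : q' ≫ V.ι = q := IsOpenImmersion.lift_fac _ _ _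
  refine ⟨⟨p, q', ?_, ?_⟩, hp⟩
  · rw [← cancel_mono V.ι, Category.assoc, hq', Category.id_comp]
    refine hom_ext hb ?_ ?_
    · rw [Category.assoc, hq, hp]; exact hVe
    · rw [Category.assoc, hq, hp]
  · refine (existsUnique_lift ha (chartMap I U a) hc (locus_chartMap ha)).unique ?_ (Category.id_comp _)
    show (q' ≫ p) ≫ chartMap I U a = chartMap I U a
    rw [Category.assoc, hp, ← Category.assoc, hq', hq]

/-- Blow-up algebras are functorial in isomorphisms. -/
theorem exists_affineAlgebra_equiv {A B : Type u} [CommRing A] [CommRing B] (e : A ≃+* B) (I : Ideal A) (a : A)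
    {J : Ideal B} (hJ : J = I.map e.toRingHom) :
    ∃ E : BlowUp.affineAlgebra A I a ≃+* BlowUp.affineAlgebra B J (e a),
      ∀ r, E (algebraMap A _ r) = algebraMap B _ (e r) := by
  subst hJ
  have hpow : (Submonoid.powers a).map e.toMonoidHom = Submonoid.powers (e a) := Submonoid.map_powers _ _
  let L : Localization.Away a ≃+* Localization.Away (e a) :=
    IsLocalization.ringEquivOfRingEquiv (M := Submonoid.powers a) (T := Submonoid.powers (e a)) _ _ e hpow
  have hL : ∀ r, L (algebraMap A _ r) = algebraMap B _ (e r) := fun r => IsLocalization.ringEquivOfRingEquiv_eq hpow r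
  have hmk : ∀ x, L (IsLocalization.mk' (Localization.Away a) x ⟨a, Submonoid.mem_powers a⟩) =
      IsLocalization.mk' (Localization.Away (e a)) (e x) ⟨e a, Submonoid.mem_powers (e a)⟩ :=
    fun x => IsLocalization.ringEquivOfRingEquiv_mk' hpow x _
  have hmap : (BlowUp.affineAlgebra A I a).toSubring.map L.toRingHom =
      (BlowUp.affineAlgebra B (I.map e.toRingHom) (e a)).toSubring := by
    ext z
    constructor
    · rintro ⟨y, hy, rfl⟩
      show L y ∈ BlowUp.affineAlgebra B (I.map e.toRingHom) (e a)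
      change y ∈ BlowUp.affineAlgebra A I a at hy
      induction hy using Algebra.adjoin_induction with
      | mem q hq =>
        obtain ⟨x, hx, rfl⟩ := hq
        rw [hmk]
        exact ProjLib.frac_mem_affineAlgebra (Ideal.mem_map_of_mem _ hx)
      | algebraMap r => rw [hL]; exact Subalgebra.algebraMap_mem _ _
      | add x y _ _ hx hy => rw [map_add]; exact add_mem hx hy
      | mul x y _ _ hx hy => rw [map_mul]; exact mul_mem hx hy
    · intro hz
      show ∃ y, y ∈ BlowUp.affineAlgebra A I a ∧ L y = z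
      change z ∈ BlowUp.affineAlgebra B (I.map e.toRingHom) (e a) at hz
      induction hz using Algebra.adjoin_induction with
      | mem q hq =>
        obtain ⟨x, hx, rfl⟩ := hq
        obtain ⟨x', hx', rfl⟩ := (Ideal.mem_map_iff_of_surjective e.toRingHom e.surjective).mp hx
        exact ⟨_, ProjLib.frac_mem_affineAlgebra hx', hmk x'⟩
      | algebraMap r =>
        obtain ⟨r', rfl⟩ := e.surjective r
        exact ⟨_, Subalgebra.algebraMap_mem _ r', hL r'⟩
      | add x y _ _ hx hy =>
        obtain ⟨x', hx, rfl⟩ := hx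
        obtain ⟨y', hy, rfl⟩ := hy
        exact ⟨x' + y', add_mem hx hy, map_add L x' y'⟩
      | mul x y _ _ hx hy =>
        obtain ⟨x', hx, rfl⟩ := hx
        obtain ⟨y', hy, rfl⟩ := hy
        exact ⟨x' * y', mul_mem hx hy, map_mul L x' y'⟩
  exact ⟨((BlowUp.affineAlgebra A I a).toSubring.equivMapOfInjective L.toRingHom L.injective).trans (RingEquiv.subringCongr hmap),
    fun r => Subtype.ext (hL r)⟩

theorem blowUp_affine_cover (A : Type u) [CommRing A] (I : Ideal A) {X' : Scheme.{u}}
    (b : X' ⟶ Spec (CommRingCat.of A))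
    (hb : BlowUp.IsBlowUp b (Scheme.IdealSheafData.ofIdealTop (I.map (Scheme.ΓSpecIso (CommRingCat.of A)).inv.hom)))
    (x' : ↥X') :
    ∃ (a : A) (_ : a ∈ I) (V : X'.Opens) (e : (V : Scheme.{u}) ≅ Spec (CommRingCat.of ↥(BlowUp.affineAlgebra A I a))),
      x' ∈ V ∧ e.hom ≫ Spec.map (CommRingCat.ofHom (algebraMap A ↥(BlowUp.affineAlgebra A I a))) = V.ι ≫ b := by
  let σ := Scheme.ΓSpecIso (CommRingCat.of A)
  let U : (Spec (CommRingCat.of A)).affineOpens := ⟨⊤, isAffineOpen_top _⟩
  let S := Scheme.IdealSheafData.ofIdealTop (I.map σ.inv.hom)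
  have hI : S.ideal U = I.map σ.symm.commRingCatIsoToRingEquiv.toRingHom := by
    show (I.map σ.inv.hom).map ((Spec (CommRingCat.of A)).presheaf.map (homOfLE le_top).op).hom = _
    rw [Ideal.map_map]
    congr 1
  obtain ⟨_, ⟨a, ha, rfl⟩, hmem⟩ := exists_mem_locus b hb.1 U (show x' ∈ b ⁻¹ᵁ U.1 from trivial)
    (σ.inv.hom '' (I : Set A)) (by
      rw [← Ideal.map_span, Ideal.span_eq]; exact hI.symm)
  have ha' : σ.symm.commRingCatIsoToRingEquiv a ∈ S.ideal U := hI.ge (Ideal.mem_map_of_mem _ ha)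
  obtain ⟨e, he⟩ := exists_locus_iso hb U ha'
  obtain ⟨E, hE⟩ := exists_affineAlgebra_equiv σ.symm.commRingCatIsoToRingEquiv I a hI
  let w : CommRingCat.of ↥(BlowUp.affineAlgebra A I a) ⟶ CommRingCat.of (ChartRing S U (σ.symm.commRingCatIsoToRingEquiv a)) :=
    CommRingCat.ofHom E.toRingHom
  haveI : IsIso w := (inferInstance : IsIso E.toCommRingCatIso.hom)
  refine ⟨a, ha, _, e ≪≫ asIso (Spec.map w), hmem, ?_⟩
  rw [Iso.trans_hom, asIso_hom, Category.assoc, ← Spec.map_comp]
  refine Eq.trans ?_ he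
  congr 1
  rw [chartMap]
  have h1 : CommRingCat.ofHom (algebraMap A ↥(BlowUp.affineAlgebra A I a)) ≫ w =
      σ.inv ≫ CommRingCat.ofHom (algebraMap Γ(Spec (CommRingCat.of A), U.1) (ChartRing S U (σ.symm.commRingCatIsoToRingEquiv a))) := by
    ext r
    exact congrArg Subtype.val (hE r)
  rw [h1, Spec.map_comp]
  congr 1
  simp only [U]
  rw [IsAffineOpen.fromSpec_top]
  simp [σ, Scheme.isoSpec_Spec_inv]

end Groth.Agent.SDiv28
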