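import Groth.Agent.SDiv28.FibreCartier
import Mathlib

/-!
# Flatness off a relative effective Cartier divisor spreads across it
-/

set_option autoImplicit false
set_option backward.isDefEq.respectTransparency.types false
universe u

open CategoryTheory CategoryTheory.Limits AlgebraicGeometry Opposite TopologicalSpace TensorProduct
open Groth.Agent.AssSch12
open Groth.Agent.ModPairLib (res res_res)

namespace Groth.Agent.SDiv28.FlatOffDivisor

theorem rTensor_injective_of_flat_coker {A N : Type u} [CommRing A] [AddCommGroup N] [Module A N]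
    (u : N →ₗ[A] N) (hu : Function.Injective u) [Module.Flat A (N ⧸ LinearMap.range u)]
    (M : Type u) [AddCommGroup M] [Module A M] : Function.Injective (u.rTensor M) := by
  rw [injective_iff_map_eq_zero]
  intro z hz
  let π := Finsupp.linearCombination A (id : M → M)
  have hπ : Function.Surjective π := Finsupp.linearCombination_id_surjective A M
  let q := (LinearMap.range u).mkQ
  have huq : Function.Exact u q := LinearMap.exact_map_mkQ_range u
  let K := LinearMap.ker π
  have hKF : Function.Exact K.subtype π := LinearMap.exact_subtype_ker_map π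
  obtain ⟨w, rfl⟩ := LinearMap.lTensor_surjective N hπ z
  rw [← LinearMap.comp_apply, LinearMap.rTensor_comp_lTensor, ← LinearMap.lTensor_comp_rTensor,
    LinearMap.comp_apply] at hz
  obtain ⟨k, hk⟩ := (_root_.lTensor_exact (R := A) (M := K) (N := M →₀ A) (P := M) N hKF hπ _).1 hz
  have hqk : q.rTensor K k = 0 := by
    apply Module.Flat.lTensor_preserves_injective_linearMap (M := N ⧸ LinearMap.range u) K.subtype
      Subtype.val_injective
    rw [map_zero, ← LinearMap.comp_apply, LinearMap.lTensor_comp_rTensor,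
      ← LinearMap.rTensor_comp_lTensor, LinearMap.comp_apply, hk, ← LinearMap.comp_apply,
      ← LinearMap.rTensor_comp, huq.linearMap_comp_eq_zero, LinearMap.rTensor_zero,
      LinearMap.zero_apply]
  obtain ⟨k', rfl⟩ := (rTensor_exact K huq (Submodule.mkQ_surjective _) k).1 hqk
  have hw : K.subtype.lTensor N k' = w := by
    refine Module.Flat.rTensor_preserves_injective_linearMap (M := M →₀ A) u hu ?_
    rw [← hk, ← LinearMap.comp_apply, ← LinearMap.comp_apply, LinearMap.rTensor_comp_lTensor,
      LinearMap.lTensor_comp_rTensor]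
  rw [← hw, ← LinearMap.comp_apply, ← LinearMap.lTensor_comp, hKF.linearMap_comp_eq_zero,
    LinearMap.lTensor_zero, LinearMap.zero_apply]

theorem flat_of_quotient_of_away {A B L : Type u} [CommRing A] [CommRing B] [CommRing L]
    [Algebra A B] [Algebra A L] [Algebra B L] [IsScalarTower A B L] (g : B) [IsLocalization.Away g L]
    (hg : g ∈ nonZeroDivisors B) [Module.Flat A (B ⧸ Ideal.span {g})] [Module.Flat A L] :
    Module.Flat A B := by
  rw [Module.Flat.iff_lTensor_preserves_injective_linearMap]
  intro N N' _ _ _ _ f hf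
  rw [injective_iff_map_eq_zero]
  intro z hz
  let j := AlgebraTensorModule.rTensor A N (Algebra.linearMap B L)
  have hj : IsLocalizedModule (Submonoid.powers g) j := inferInstance
  have h1 : j z = 0 := by
    apply Module.Flat.lTensor_preserves_injective_linearMap (M := L) f hf
    rw [map_zero]
    show f.lTensor L (((Algebra.linearMap B L).restrictScalars A).rTensor N z) = 0
    rw [← LinearMap.comp_apply, LinearMap.lTensor_comp_rTensor, ← LinearMap.rTensor_comp_lTensor,
      LinearMap.comp_apply, hz, map_zero]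
  obtain ⟨⟨_, n, rfl⟩, hn⟩ := (IsLocalizedModule.eq_zero_iff (Submonoid.powers g) j).1 h1
  change g ^ n • z = 0 at hn
  let u : B →ₗ[A] B := LinearMap.mulLeft A g
  have hu : Function.Injective u := fun a b h => by
    have h' : g * a = g * b := h
    rw [mul_comm g, mul_comm g] at h'
    exact (mul_cancel_right_mem_nonZeroDivisors hg).1 h'
  haveI : Module.Flat A (B ⧸ LinearMap.range u) := by
    have : LinearMap.range u = (Ideal.span {g}).restrictScalars A := by
      ext y
      simp only [LinearMap.mem_range, Submodule.restrictScalars_mem, Ideal.mem_span_singleton', u,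
        LinearMap.mulLeft_apply, mul_comm g]
    rw [this]
    exact Module.Flat.of_linearEquiv (Submodule.Quotient.restrictScalarsEquiv A (Ideal.span {g}))
  have hinj : Function.Injective (u.rTensor N) := rTensor_injective_of_flat_coker u hu N
  have hsm : ∀ y : B ⊗[A] N, u.rTensor N y = g • y := by
    intro y
    induction y using TensorProduct.induction_on with
    | zero => simp
    | tmul b m => simp [u, TensorProduct.smul_tmul']
    | add a b ha hb => simp [map_add, ha, hb, smul_add]
  clear h1
  induction n generalizing z with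
  | zero => simpa using hn
  | succ n ih =>
    refine ih z hz ?_
    apply hinj
    rw [map_zero, hsm, smul_smul, ← pow_succ']
    exact hn

theorem flat {X S : Scheme.{u}} (f : X ⟶ S) (I : X.IdealSheafData) (hI : BlowUp.IsEffCartierIdeal I)
    [Flat (I.subschemeι ≫ f)] (hflat : ∀ x : ↥X, x ∉ I.support → (f.stalkMap x).hom.Flat) : Flat f := by
  refine (HasRingHomProperty.iff_exists_appLE (P := @Flat)
    (RingHom.Flat.stableUnderComposition.stableUnderCompositionWithLocalizationAway
      RingHom.Flat.holdsForLocalizationAway).1).2 fun x => ?_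
  obtain ⟨U₀, hxU₀, g₀, hg₀, hg₀I⟩ := hI x
  obtain ⟨V, hV, hxV, -⟩ := Opens.isBasis_iff_nbhd.mp S.isBasis_affineOpens (Opens.mem_top (f x))
  obtain ⟨c, hc, hxc⟩ := U₀.2.exists_basicOpen_le (V := f ⁻¹ᵁ V) ⟨x, hxV⟩ hxU₀
  obtain ⟨U, hU⟩ : ∃ U : X.affineOpens, U = X.affineBasicOpen c := ⟨_, rfl⟩
  have hle : U.1 ≤ U₀.1 := hU ▸ X.basicOpen_le c
  have hxU : x ∈ U.1 := hU ▸ hxc
  have e : U.1 ≤ f ⁻¹ᵁ V := hU ▸ hc
  clear hU
  obtain ⟨U, hU⟩ := U
  refine ⟨⟨V, hV⟩, ⟨U, hU⟩, hxU, e, ?_⟩
  let A := Γ(S, V)
  let B := Γ(X, U)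
  let g : B := res hle g₀
  have hg : g ∈ nonZeroDivisors B := ModPairLib.res_mem_nonZeroDivisors (U := U₀) (V := ⟨U, hU⟩) hle hg₀
  have hgI : I.ideal ⟨U, hU⟩ = Ideal.span {g} :=
    ModPairLib.ideal_restrict I (U := U₀) (V := ⟨U, hU⟩) hle hg₀I
  letI : Algebra A B := (f.appLE V U e).hom.toAlgebra
  haveI := hU.isLocalization_basicOpen g
  let L := Γ(X, X.basicOpen g)
  letI : Algebra A L := (f.appLE V (X.basicOpen g) ((X.basicOpen_le g).trans e)).hom.toAlgebra
  haveI : IsScalarTower A B L := .of_algebraMap_eq' (by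
    show (f.appLE V (X.basicOpen g) _).hom = _
    rw [RingHom.algebraMap_toAlgebra (f.appLE V U e).hom]
    exact (congrArg CommRingCat.Hom.hom (f.appLE_map e (homOfLE (X.basicOpen_le g)).op)).symm)
  have hoff : ∀ y ∈ X.basicOpen g, y ∉ I.support := by
    intro y hy hys
    have hyU : y ∈ U := X.basicOpen_le g hy
    have h := (I.mem_support_iff_of_mem (U := ⟨U, hU⟩) hyU).1 hys
    rw [Scheme.mem_zeroLocus_iff] at h
    exact h g (hgI ▸ Ideal.mem_span_singleton_self g) hy
  haveI : Flat ((X.basicOpen g).ι ≫ f) := by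
    rw [Flat.iff_flat_stalkMap]
    intro y
    rw [Scheme.Hom.stalkMap_comp]
    exact RingHom.Flat.comp (hflat _ (hoff _ y.2)) (Flat.stalkMap (X.basicOpen g).ι y)
  haveI : Module.Flat A L := by
    have h := HasRingHomProperty.appLE @Flat ((X.basicOpen g).ι ≫ f) ‹_› ⟨V, hV⟩
      ⟨⊤, by haveI : IsAffine (X.basicOpen g).toScheme := hU.basicOpen g; exact isAffineOpen_top _⟩
      (fun y _ => e (X.basicOpen_le g y.2))
    have key : ∀ (W : X.Opens) (eW : W ≤ f ⁻¹ᵁ V), W = X.basicOpen g → (f.appLE V W eW).hom.Flat →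
        (f.appLE V (X.basicOpen g) ((X.basicOpen_le g).trans e)).hom.Flat := by
      rintro W eW rfl h; exact h
    have eW : (X.basicOpen g).ι ''ᵁ ⊤ ≤ f ⁻¹ᵁ V := by
      rw [Scheme.Opens.ι_image_top]; exact (X.basicOpen_le g).trans e
    refine key _ eW (Scheme.Opens.ι_image_top _) ?_
    have heq : ∀ e', ((X.basicOpen g).ι ≫ f).appLE V ⊤ e' = f.appLE V ((X.basicOpen g).ι ''ᵁ ⊤) eW := by
      intro e'
      rw [Scheme.Hom.comp_appLE]
      simp [Scheme.Hom.appLE, ← Functor.map_comp]
      congr 1
      exact (X.presheaf.map_comp _ _).symm.trans rfl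
    exact (congrArg (fun φ => (CommRingCat.Hom.hom φ).Flat) (heq _)).mp h
  haveI : Module.Flat A (B ⧸ Ideal.span {g}) := by
    let W := I.subschemeι ⁻¹ᵁ U
    have hW : IsAffineOpen W := hU.preimage _
    letI : Algebra A Γ(I.subscheme, W) :=
      ((I.subschemeι ≫ f).appLE V W (I.subschemeι.preimage_mono e)).hom.toAlgebra
    haveI : Module.Flat A Γ(I.subscheme, W) :=
      HasRingHomProperty.appLE @Flat (I.subschemeι ≫ f) ‹_› ⟨V, hV⟩ ⟨W, hW⟩ _
    have happ : (I.subschemeι.app U).hom.comp (f.appLE V U e).hom =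
        ((I.subschemeι ≫ f).appLE V W (I.subschemeι.preimage_mono e)).hom := by
      rw [← CommRingCat.hom_comp, Scheme.Hom.app_eq_appLE, Scheme.Hom.appLE_comp_appLE]
    let ι' : B →ₐ[A] Γ(I.subscheme, W) := ⟨(I.subschemeι.app U).hom, RingHom.congr_fun happ⟩
    exact Module.Flat.of_linearEquiv ((Ideal.quotientEquivAlgOfEq A
      (show Ideal.span {g} = RingHom.ker ι' from ((I.ker_subschemeι_app ⟨U, hU⟩).trans hgI).symm)).trans
      (Ideal.quotientKerAlgEquivOfSurjective (f := ι') (I.subschemeι.app_surjective U hU))).toLinearEquiv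
  exact flat_of_quotient_of_away (L := L) g hg

end Groth.Agent.SDiv28.FlatOffDivisor
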