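import Groth.Agent.SDiv28.BlowUp
import Groth.Agent.S6304
import Mathlib

/-!
# Flatness of closed subschemes over a base, and relative effective Cartier divisors
-/

set_option autoImplicit false
set_option backward.isDefEq.respectTransparency.types false

universe u

open CategoryTheory Limits AlgebraicGeometry TopologicalSpace
open Groth.Agent.ModPairLib (res res_res ideal_restrict exists_local)

namespace Groth.Agent.SDiv28

variable {X S : Scheme.{u}}

/-- Flatness of a closed subscheme over the base on affine charts. -/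
theorem flat_quot_of_flat (I : X.IdealSheafData) (f : X ⟶ S) [Flat (I.subschemeι ≫ f)]
    {U : S.affineOpens} {V : X.affineOpens} (e : V.1 ≤ f ⁻¹ᵁ U.1) :
    ((Ideal.Quotient.mk (I.ideal V)).comp (f.appLE U.1 V.1 e).hom).Flat := by
  have e' : I.subschemeι ⁻¹ᵁ V.1 ≤ (I.subschemeι ≫ f) ⁻¹ᵁ U.1 := I.subschemeι.preimage_mono e
  have h := Flat.flat_appLE (I.subschemeι ≫ f) U.2 (V.2.preimage I.subschemeι) e'
  have h' : (I.subschemeι ≫ f).appLE U.1 (I.subschemeι ⁻¹ᵁ V.1) e' =
      (f.appLE U.1 V.1 e ≫ CommRingCat.ofHom (Ideal.Quotient.mk (I.ideal V))) ≫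
        (I.subschemeObjIso V).inv := by
    rw [Category.assoc, ← I.subschemeι_app, Scheme.Hom.app_eq_appLE, Scheme.Hom.appLE_comp_appLE]
  rw [h', CommRingCat.hom_comp, RingHom.Flat.respectsIso.cancel_right_isIso] at h
  exact h

/-- Flatness of a closed subscheme over the base is local. -/
theorem flat_of_local (I : X.IdealSheafData) (f : X ⟶ S)
    (H : ∀ x : X, ∃ (U : S.affineOpens) (V : X.affineOpens) (_ : x ∈ V.1) (e : V.1 ≤ f ⁻¹ᵁ U.1),
      ((Ideal.Quotient.mk (I.ideal V)).comp (f.appLE U.1 V.1 e).hom).Flat) :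
    Flat (I.subschemeι ≫ f) := by
  refine (HasRingHomProperty.iff_exists_appLE (P := @Flat) (f := I.subschemeι ≫ f)
    (RingHom.Flat.stableUnderComposition.stableUnderCompositionWithLocalizationAway
      RingHom.Flat.holdsForLocalizationAway).left).2 fun x => ?_
  obtain ⟨U, V, hxV, e, h⟩ := H (I.subschemeι x)
  refine ⟨U, ⟨I.subschemeι ⁻¹ᵁ V.1, V.2.preimage I.subschemeι⟩, hxV, I.subschemeι.preimage_mono e, ?_⟩
  have h' : (I.subschemeι ≫ f).appLE U.1 (I.subschemeι ⁻¹ᵁ V.1) (I.subschemeι.preimage_mono e) =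
      (f.appLE U.1 V.1 e ≫ CommRingCat.ofHom (Ideal.Quotient.mk (I.ideal V))) ≫
        (I.subschemeObjIso V).inv := by
    rw [Category.assoc, ← I.subschemeι_app, Scheme.Hom.app_eq_appLE, Scheme.Hom.appLE_comp_appLE]
  rw [h', CommRingCat.hom_comp, RingHom.Flat.respectsIso.cancel_right_isIso]
  exact h

variable {A : Type u} [CommRing A]

/-- `0 → A/(g) → A/(fg) → A/(f) → 0`, flatness transfers. -/
theorem flat_quot_mul {R : Type u} [CommRing R] (φ : R →+* A) {a b : A} (ha : a ∈ nonZeroDivisors A) :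
    (((Ideal.Quotient.mk (Ideal.span {a})).comp φ).Flat →
      ((Ideal.Quotient.mk (Ideal.span {b})).comp φ).Flat →
      ((Ideal.Quotient.mk (Ideal.span {a * b})).comp φ).Flat) ∧
    (((Ideal.Quotient.mk (Ideal.span {a})).comp φ).Flat →
      ((Ideal.Quotient.mk (Ideal.span {a * b})).comp φ).Flat →
      ((Ideal.Quotient.mk (Ideal.span {b})).comp φ).Flat) := by
  algebraize [φ]
  let i₀ : (A ⧸ Ideal.span {b}) →ₗ[A] (A ⧸ Ideal.span {a * b}) :=
    Submodule.mapQ (Ideal.span {b}) (Ideal.span {a * b}) (LinearMap.mulLeft A a) (by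
      intro x hx
      obtain ⟨c, rfl⟩ := Ideal.mem_span_singleton'.1 hx
      exact Ideal.mem_span_singleton'.2 ⟨c, by simp only [LinearMap.mulLeft_apply]; ring⟩)
  let q₀ : (A ⧸ Ideal.span {a * b}) →ₗ[A] (A ⧸ Ideal.span {a}) :=
    Submodule.mapQ (Ideal.span {a * b}) (Ideal.span {a}) LinearMap.id (by
      intro x hx
      obtain ⟨c, rfl⟩ := Ideal.mem_span_singleton'.1 hx
      exact Ideal.mem_span_singleton'.2 ⟨c * b, (by ring : c * b * a = c * (a * b))⟩)
  let i : (A ⧸ Ideal.span {b}) →ₗ[R] (A ⧸ Ideal.span {a * b}) :=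
    { i₀.toAddMonoidHom with map_smul' := fun r x => i₀.map_smul_of_tower r x }
  let q : (A ⧸ Ideal.span {a * b}) →ₗ[R] (A ⧸ Ideal.span {a}) :=
    { q₀.toAddMonoidHom with map_smul' := fun r x => q₀.map_smul_of_tower r x }
  have hi : Function.Injective i₀ := by
    rw [injective_iff_map_eq_zero]
    intro x hx
    obtain ⟨x, rfl⟩ := Submodule.Quotient.mk_surjective _ x
    rw [Submodule.mapQ_apply, Submodule.Quotient.mk_eq_zero, Ideal.mem_span_singleton',
      LinearMap.mulLeft_apply] at hx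
    obtain ⟨c, hc⟩ := hx
    refine (Submodule.Quotient.mk_eq_zero _).2 (Ideal.mem_span_singleton'.2 ⟨c, ?_⟩)
    exact (mul_cancel_left_mem_nonZeroDivisors ha).1 (by rw [← hc]; ring)
  have hq : Function.Surjective q₀ := by
    intro y
    obtain ⟨y, rfl⟩ := Submodule.Quotient.mk_surjective _ y
    exact ⟨Submodule.Quotient.mk y, Submodule.mapQ_apply _ _ _ _⟩
  have hex : Function.Exact i₀ q₀ := by
    intro y
    obtain ⟨y, rfl⟩ := Submodule.Quotient.mk_surjective _ y
    rw [Submodule.mapQ_apply, Submodule.Quotient.mk_eq_zero, Ideal.mem_span_singleton',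
      LinearMap.id_apply]
    constructor
    · rintro ⟨c, rfl⟩
      exact ⟨Submodule.Quotient.mk c, by rw [Submodule.mapQ_apply, LinearMap.mulLeft_apply, mul_comm c a]⟩
    · rintro ⟨x, hx⟩
      obtain ⟨x, rfl⟩ := Submodule.Quotient.mk_surjective _ x
      rw [Submodule.mapQ_apply, LinearMap.mulLeft_apply, Submodule.Quotient.eq,
        Ideal.mem_span_singleton'] at hx
      obtain ⟨c, hc⟩ := hx
      exact ⟨x - c * b, by linear_combination (-1 : A) * hc⟩
  refine ⟨fun h1 h2 => ?_, fun h1 h2 => ?_⟩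
  all_goals
    have : Module.Flat R (A ⧸ Ideal.span {a}) := RingHom.flat_algebraMap_iff.1 h1
  · have : Module.Flat R (A ⧸ Ideal.span {b}) := RingHom.flat_algebraMap_iff.1 h2
    exact RingHom.flat_algebraMap_iff.2 ((S6304.result i q hi hex hq).1 this)
  · have : Module.Flat R (A ⧸ Ideal.span {a * b}) := RingHom.flat_algebraMap_iff.1 h2
    exact RingHom.flat_algebraMap_iff.2 ((S6304.result i q hi hex hq).2 this)

/-- Near each point: an affine chart over an affine of the base where two effective Cartier ideals are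
both principal. -/
theorem exists_chart {I J : X.IdealSheafData} (hI : BlowUp.IsEffCartierIdeal I)
    (hJ : BlowUp.IsEffCartierIdeal J) (f : X ⟶ S) (x : X) :
    ∃ (U : S.affineOpens) (V : X.affineOpens) (_ : x ∈ V.1) (_ : V.1 ≤ f ⁻¹ᵁ U.1) (a b : Γ(X, V.1)),
      a ∈ nonZeroDivisors Γ(X, V.1) ∧ I.ideal V = Ideal.span {a} ∧ J.ideal V = Ideal.span {b} := by
  obtain ⟨_, ⟨U, hU, rfl⟩, hxU, -⟩ :=
    S.isBasis_affineOpens.exists_subset_of_mem_open (Set.mem_univ (f x)) isOpen_univ
  obtain ⟨V₁, hx₁, hV₁, a, ha, haI⟩ := exists_local hI x (f ⁻¹ᵁ U) hxU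
  obtain ⟨V, hx, hV, b, hb, hbJ⟩ := exists_local hJ x V₁.1 hx₁
  exact ⟨⟨U, hU⟩, V, hx, hV.trans hV₁, res hV a, b, ModPairLib.res_mem_nonZeroDivisors hV ha,
    ideal_restrict I hV haI, hbJ⟩

theorem flat_mul {I J : X.IdealSheafData} (hI : BlowUp.IsEffCartierIdeal I)
    (hJ : BlowUp.IsEffCartierIdeal J) (f : X ⟶ S) [Flat (I.subschemeι ≫ f)]
    [Flat (J.subschemeι ≫ f)] : Flat ((I * J).subschemeι ≫ f) :=
  flat_of_local _ f fun x => by
    obtain ⟨U, V, hx, e, a, b, ha, haI, hbJ⟩ := exists_chart hI hJ f x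
    refine ⟨U, V, hx, e, ?_⟩
    have h1 := flat_quot_of_flat I f e
    have h2 := flat_quot_of_flat J f e
    rw [haI] at h1
    rw [hbJ] at h2
    rw [mul_ideal, haI, hbJ, Ideal.span_singleton_mul_span_singleton]
    exact (flat_quot_mul _ ha).1 h1 h2

theorem flat_right_of_mul {I J : X.IdealSheafData} (hI : BlowUp.IsEffCartierIdeal I)
    (hJ : BlowUp.IsEffCartierIdeal J) (f : X ⟶ S) [Flat (I.subschemeι ≫ f)]
    [Flat ((I * J).subschemeι ≫ f)] : Flat (J.subschemeι ≫ f) :=
  flat_of_local _ f fun x => by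
    obtain ⟨U, V, hx, e, a, b, ha, haI, hbJ⟩ := exists_chart hI hJ f x
    refine ⟨U, V, hx, e, ?_⟩
    have h1 := flat_quot_of_flat I f e
    have h2 := flat_quot_of_flat (I * J) f e
    rw [haI] at h1
    rw [mul_ideal, haI, hbJ, Ideal.span_singleton_mul_span_singleton] at h2
    rw [hbJ]
    exact (flat_quot_mul _ ha).2 h1 h2

end Groth.Agent.SDiv28
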