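import Groth.Agent.SDiv28.MeroReg
import Groth.Agent.SDiv28.WeakAssUnit
import Groth.Agent.PicLib.Invertible
import Groth.Agent.AmpleLib.Ample
import Groth.Prelude.Def_MeroDiv
import Mathlib

/-!
# Regular meromorphic sections of invertible modules without embedded points
-/

set_option autoImplicit false
set_option backward.isDefEq.respectTransparency.types false
universe u

open CategoryTheory AlgebraicGeometry Opposite TopologicalSpace
open Groth.Agent.AssSch12 Groth.Agent.Coherent Groth.Agent.PicLib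
open Groth.Agent.CAlgH3 (annEl mem_annEl)

namespace Groth.Agent.SDiv28

variable {X : Scheme.{u}}

/-- Maximal points are weakly associated to the structure sheaf. -/
theorem isWeakAssPoint_of_max {y : X} (hm : ∀ z : X, z ⤳ y → z = y) :
    Curv2.IsWeakAssPoint (Coh.structureModule X) y := by
  obtain ⟨_, ⟨W, hW, rfl⟩, hyW, -⟩ :=
    X.isBasis_affineOpens.exists_subset_of_mem_open (Set.mem_univ y) isOpen_univ
  refine (isWeakAssPoint_structureModule_iff_affine hW hyW).2 ⟨(1 : Γ(X, W)), ?_⟩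
  have h1 : annEl Γ(X, W) (1 : Γ(X, W)) = ⊥ := by
    ext r; rw [mem_annEl, smul_eq_mul, mul_one, Submodule.mem_bot]
  show primeAt hW hyW ∈ (annEl Γ(X, W) (1 : Γ(X, W))).minimalPrimes
  rw [h1]
  exact (mem_minimalPrimes_iff hW hyW).2 hm

/-- Germs of a generator are generators of the stalk. -/
theorem bijective_smul_germ_gen {L : X.Modules} {U : X.Opens} {g : Γ(L, U)} (hg : IsGen L U g) {x : X}
    (hx : x ∈ U) : Function.Bijective (fun r : X.presheaf.stalk x => r • L.presheaf.germ U x hx g) := by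
  constructor
  · intro r r' h
    rw [← sub_eq_zero] at h ⊢
    rw [show r • L.presheaf.germ U x hx g - r' • L.presheaf.germ U x hx g = (r - r') • L.presheaf.germ U x hx g
      from (sub_smul _ _ _).symm] at h
    generalize r - r' = t at h
    obtain ⟨V, hxV, a, rfl⟩ := X.presheaf.exists_germ_eq t
    have h2 : L.presheaf.germ (V ⊓ U) x ⟨hxV, hx⟩ (res (inf_le_left : V ⊓ U ≤ V) a • resM L (inf_le_right : V ⊓ U ≤ U) g) =
        L.presheaf.germ (V ⊓ U) x ⟨hxV, hx⟩ 0 := by
      rw [map_zero, QCohLoc.germ_smul', TopCat.Presheaf.germ_res_apply, TopCat.Presheaf.germ_res_apply]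
      exact h
    obtain ⟨W, hxW, i, j, hij⟩ := TopCat.Presheaf.germ_eq L.presheaf (U := V ⊓ U) (V := V ⊓ U) x ⟨hxV, hx⟩ ⟨hxV, hx⟩ _ _ h2
    have h3 : res (i.le) (res (inf_le_left : V ⊓ U ≤ V) a) • resM L (i.le.trans inf_le_right) g = 0 := by
      rw [map_zero] at hij
      rw [← resM_resM L inf_le_right i.le, ← resM_smul]
      exact hij
    have h4 : res (i.le) (res (inf_le_left : V ⊓ U ≤ V) a) = 0 :=
      (hg W (i.le.trans inf_le_right)).1 (h3.trans (zero_smul _ _).symm)
    have h5 := congr(X.presheaf.germ W x hxW $h4)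
    rw [map_zero, TopCat.Presheaf.germ_res_apply, TopCat.Presheaf.germ_res_apply] at h5
    exact h5
  · intro z
    obtain ⟨V, hxV, s, rfl⟩ := L.presheaf.exists_germ_eq z
    refine ⟨X.presheaf.germ (V ⊓ U) x ⟨hxV, hx⟩ (hg.coef (inf_le_right : V ⊓ U ≤ U) (resM L inf_le_left s)), ?_⟩
    show X.presheaf.germ (V ⊓ U) x ⟨hxV, hx⟩ (hg.coef (inf_le_right : V ⊓ U ≤ U) (resM L inf_le_left s)) •
      L.presheaf.germ U x hx g = _
    rw [← TopCat.Presheaf.germ_res_apply L.presheaf (homOfLE (inf_le_right : V ⊓ U ≤ U)) x ⟨hxV, hx⟩,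
      ← QCohLoc.germ_smul']
    exact (congrArg (L.presheaf.germ (V ⊓ U) x ⟨hxV, hx⟩) (hg.coef_spec _ _)).trans
      (TopCat.Presheaf.germ_res_apply L.presheaf _ x _ s)

/-- An invertible module has the same weakly associated points as the structure module. -/
theorem isWeakAssPoint_of_isInvertible {L : X.Modules} (hL : PicF.IsInvertible L) {x : X}
    (hx : Curv2.IsWeakAssPoint L x) : Curv2.IsWeakAssPoint (Coh.structureModule X) x := by
  obtain ⟨U, hxU, g, hg⟩ := exists_isGen hL x
  rw [isWeakAssPoint_structureModule_iff]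
  let e : X.presheaf.stalk x ≃ₗ[X.presheaf.stalk x] L.presheaf.stalk x :=
    LinearEquiv.ofBijective (LinearMap.toSpanSingleton _ _ (L.presheaf.germ U x hxU g))
      (bijective_smul_germ_gen hg hxU)
  exact (LinearEquiv.isAssociatedPrime_iff e).2 ((isWeakAssPoint_iff_isAssPoint L x).1 hx)

variable (hanti : ∀ x : X, Curv2.IsWeakAssPoint (Coh.structureModule X) x → ∀ y : X, Curv2.IsWeakAssPoint (Coh.structureModule X) y → y ⤳ x → y = x)
include hanti

theorem max_of_weak {x : X} (hx : Curv2.IsWeakAssPoint (Coh.structureModule X) x) (z : X) (hz : z ⤳ x) : z = x := by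
  obtain ⟨_, ⟨W, hW, rfl⟩, hxW, -⟩ :=
    X.isBasis_affineOpens.exists_subset_of_mem_open (Set.mem_univ x) isOpen_univ
  haveI : (primeAt hW hxW).IsPrime := (hW.primeIdealOf ⟨x, hxW⟩).2
  obtain ⟨q, hq, hle⟩ := Ideal.exists_minimalPrimes_le (bot_le : (⊥ : Ideal Γ(X, W)) ≤ primeAt hW hxW)
  haveI := hq.1.1
  obtain ⟨y, hy, rfl⟩ := exists_point hW q
  have hym : ∀ w : X, w ⤳ y → w = y := (mem_minimalPrimes_iff hW hy).1 hq
  obtain rfl : y = x := hanti x hx y (isWeakAssPoint_of_max hym) ((specializes_iff hW hy hxW).2 hle)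
  exact hym z hz

variable (hfin : ∀ W : X.Opens, IsAffineOpen W → {y : X | y ∈ W ∧ Curv2.IsWeakAssPoint (Coh.structureModule X) y}.Finite)
include hfin

/-- Separating the weakly associated points of an affine open. -/
theorem exists_separating {W : X.Opens} (hW : IsAffineOpen W) {η : X} (hη : η ∈ W) (hηw : Curv2.IsWeakAssPoint (Coh.structureModule X) η) :
    ∃ h : Γ(X, W), η ∈ X.basicOpen h ∧
      ∀ (y : X) (hy : y ∈ W), Curv2.IsWeakAssPoint (Coh.structureModule X) y → y ≠ η → X.presheaf.germ W y hy h = 0 := by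
  classical
  have key : ∀ y : X, ∃ r : Γ(X, W), η ∈ X.basicOpen r ∧
      ∀ (hy : y ∈ W), Curv2.IsWeakAssPoint (Coh.structureModule X) y → y ≠ η → X.presheaf.germ W y hy r = 0 := by
    intro y
    by_cases hy : y ∈ W ∧ Curv2.IsWeakAssPoint (Coh.structureModule X) y ∧ y ≠ η
    · obtain ⟨hyW, hyw, hne⟩ := hy
      have hns : ¬ y ⤳ η := fun h => hne (hanti η hηw y hyw h)
      obtain ⟨r, hr, hr'⟩ := SetLike.not_le_iff_exists.1 (mt (specializes_iff hW hyW hη).2 hns)
      -- every element of the maximal ideal of a maximal point is nilpotent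
      have hnil : IsNilpotent (X.presheaf.germ W y hyW r) := by
        rw [← mem_nilradical, nilradical_eq_sInf, Submodule.mem_sInf]
        rintro (P : Ideal (X.presheaf.stalk y)) hP
        haveI : P.IsPrime := hP
        letI := TopCat.Presheaf.algebra_section_stalk X.presheaf (⟨y, hyW⟩ : W)
        haveI := hW.isLocalization_stalk ⟨y, hyW⟩
        haveI : (primeAt hW hyW).IsPrime := (hW.primeIdealOf ⟨y, hyW⟩).2
        have hc : Ideal.comap (algebraMap Γ(X, W) (X.presheaf.stalk y)) P ≤ primeAt hW hyW := fun a ha =>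
          (germ_mem_maximalIdeal_iff hW hyW a).1 (IsLocalRing.le_maximalIdeal hP.ne_top ha)
        exact (((mem_minimalPrimes_iff hW hyW).2 (max_of_weak hanti hyw)).2 ⟨hP.comap _, bot_le⟩ hc) hr
      obtain ⟨n, hn⟩ := hnil
      refine ⟨r ^ n, ?_, fun _ _ _ => by rw [map_pow]; exact hn⟩
      rw [Scheme.mem_basicOpen _ _ _ hη, map_pow]
      exact ((Scheme.mem_basicOpen _ _ _ hη).1 ((notMem_primeAt_iff hW hη r).1 hr')).pow n
    · exact ⟨1, by rw [Scheme.basicOpen_of_isUnit _ isUnit_one]; exact hη,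
        fun h1 h2 h3 => absurd ⟨h1, h2, h3⟩ hy⟩
  choose r hr hr' using key
  refine ⟨∏ y ∈ (hfin W hW).toFinset, r y, ?_, fun y hy hyw hne => ?_⟩
  · rw [Scheme.mem_basicOpen _ _ _ hη, map_prod, IsUnit.prod_iff]
    exact fun y _ => (Scheme.mem_basicOpen _ _ _ hη).1 (hr y)
  · rw [map_prod]
    exact Finset.prod_eq_zero ((hfin W hW).mem_toFinset.2 ⟨hy, hyw⟩) (hr' y hy hyw hne)

variable {L : X.Modules} (hL : PicF.IsInvertible L)

/-- Prescribing a fraction at all weakly associated points of an affine open. -/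
theorem exists_fraction {W : X.Opens} (hW : IsAffineOpen W) {g : Γ(L, W)} (hg : IsGen L W g)
    (e : ∀ y : X, L.presheaf.stalk y)
    (he : ∀ y : X, Function.Bijective (fun r : X.presheaf.stalk y => r • e y)) :
    ∃ (a : Γ(X, W)) (b : Γ(X, W)), a ∈ Mero.regSub X W ∧ b ∈ Mero.regSub X W ∧
      ∀ (y : X) (hy : y ∈ W), Curv2.IsWeakAssPoint (Coh.structureModule X) y →
        L.presheaf.germ W y hy (a • g) = X.presheaf.germ W y hy b • e y := by
  classical
  have key : ∀ y : X, ∃ c u h : Γ(X, W), ∀ (hy : y ∈ W), Curv2.IsWeakAssPoint (Coh.structureModule X) y →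
      IsUnit (X.presheaf.germ W y hy c) ∧ IsUnit (X.presheaf.germ W y hy u) ∧
      IsUnit (X.presheaf.germ W y hy h) ∧
      L.presheaf.germ W y hy (c • g) = X.presheaf.germ W y hy u • e y ∧
      ∀ (z : X) (hz : z ∈ W), Curv2.IsWeakAssPoint (Coh.structureModule X) z → z ≠ y → X.presheaf.germ W z hz h = 0 := by
    intro y
    by_cases hy : y ∈ W ∧ Curv2.IsWeakAssPoint (Coh.structureModule X) y
    · obtain ⟨hyW, hyw⟩ := hy
      letI := TopCat.Presheaf.algebra_section_stalk X.presheaf (⟨y, hyW⟩ : W)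
      haveI := hW.isLocalization_stalk ⟨y, hyW⟩
      obtain ⟨t, ht⟩ := (bijective_smul_germ_gen hg hyW).2 (e y)
      obtain ⟨t', ht'⟩ := (he y).2 (L.presheaf.germ W y hyW g)
      dsimp only at ht ht'
      have htu : IsUnit t := IsUnit.of_mul_eq_one t' ((bijective_smul_germ_gen hg hyW).1
        (show (t * t') • L.presheaf.germ W y hyW g = (1 : X.presheaf.stalk y) • L.presheaf.germ W y hyW g by
          rw [mul_comm, mul_smul, ht, ht', one_smul]))
      obtain ⟨⟨c, u⟩, hcu⟩ := IsLocalization.surj (primeAt hW hyW).primeCompl t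
      have hu : IsUnit (X.presheaf.germ W y hyW u.1) := IsLocalization.map_units (X.presheaf.stalk y) u
      have hc : IsUnit (X.presheaf.germ W y hyW c) := by
        have : t * X.presheaf.germ W y hyW u.1 = X.presheaf.germ W y hyW c := hcu
        rw [← this]; exact htu.mul hu
      obtain ⟨h, hh, hh'⟩ := exists_separating hanti hfin hW hyW hyw
      refine ⟨c, u.1, h, fun _ _ => ⟨hc, hu, (Scheme.mem_basicOpen _ _ _ hyW).1 hh, ?_, hh'⟩⟩
      have : t * X.presheaf.germ W y hyW u.1 = X.presheaf.germ W y hyW c := hcu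
      rw [QCohLoc.germ_smul', ← this, mul_comm, mul_smul, ht]
    · exact ⟨1, 1, 1, fun h1 h2 => absurd ⟨h1, h2⟩ hy⟩
  choose c u h hkey using key
  set S := (hfin W hW).toFinset
  have hsum : ∀ (w : X → Γ(X, W)) (y : X) (hy : y ∈ W), Curv2.IsWeakAssPoint (Coh.structureModule X) y →
      X.presheaf.germ W y hy (∑ z ∈ S, h z * w z) =
        X.presheaf.germ W y hy (h y) * X.presheaf.germ W y hy (w y) := by
    intro w y hy hyw
    rw [map_sum, Finset.sum_eq_single y]
    · rw [map_mul]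
    · intro z hz hne
      obtain ⟨hzW, hzw⟩ := (hfin W hW).mem_toFinset.1 hz
      rw [map_mul, (hkey z hzW hzw).2.2.2.2 y hy hyw (Ne.symm hne), zero_mul]
    · exact fun hn => absurd ((hfin W hW).mem_toFinset.2 ⟨hy, hyw⟩) hn
  have hreg : ∀ w : X → Γ(X, W), (∀ (y : X) (hy : y ∈ W), Curv2.IsWeakAssPoint (Coh.structureModule X) y → IsUnit (X.presheaf.germ W y hy (w y))) →
      ∑ z ∈ S, h z * w z ∈ Mero.regSub X W := fun w hw =>
    mem_regSub_of_weak hW _ fun y hy hyw => by
      rw [Scheme.mem_basicOpen _ _ _ hy, hsum w y hy hyw]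
      exact (hkey y hy hyw).2.2.1.mul (hw y hy hyw)
  refine ⟨∑ z ∈ S, h z * c z, ∑ z ∈ S, h z * u z, hreg c fun y hy hyw => (hkey y hy hyw).1,
    hreg u fun y hy hyw => (hkey y hy hyw).2.1, fun y hy hyw => ?_⟩
  rw [QCohLoc.germ_smul', hsum c y hy hyw, hsum u y hy hyw, mul_smul, mul_smul, ← QCohLoc.germ_smul' L hy,
    (hkey y hy hyw).2.2.2.1]

include hL in
/-- Invertible modules have regular meromorphic sections when the weakly associated points of the
structure sheaf are locally finite and without specializations among them. -/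
theorem hasRegularMero_of_noEmbedded : Mero.HasRegularMero L := by
  haveI : L.IsQuasicoherent := AmpleLib.isQCoh_of_isInvertible hL
  choose U0 hU0 g0 hg0 using fun y : X => exists_isGen hL y
  let e : ∀ y : X, L.presheaf.stalk y := fun y => L.presheaf.germ (U0 y) y (hU0 y) (g0 y)
  have he : ∀ y : X, Function.Bijective (fun r : X.presheaf.stalk y => r • e y) :=
    fun y => bijective_smul_germ_gen (hg0 y) (hU0 y)
  have hloc : ∀ x : X, ∃ (W : X.Opens) (_ : x ∈ W) (m : Γ(L, W)) (b : Mero.regSub X W),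
      (∀ (y : X) (hy : y ∈ W), Curv2.IsWeakAssPoint (Coh.structureModule X) y → L.presheaf.germ W y hy m = X.presheaf.germ W y hy b.1 • e y) ∧
      ∀ (y : X) (hy : y ∈ W) (r : X.presheaf.stalk y), r • L.presheaf.germ W y hy m = 0 → r = 0 := by
    intro x
    obtain ⟨_, ⟨W, hW, rfl⟩, hxW, hWU⟩ :=
      X.isBasis_affineOpens.exists_subset_of_mem_open (hU0 x) (U0 x).isOpen
    have hg : IsGen L W (resM L (show W ≤ U0 x from hWU) (g0 x)) := (hg0 x).restrict _
    obtain ⟨a, b, ha, hb, hab⟩ := exists_fraction hanti hfin hW hg e he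
    refine ⟨W, hxW, a • resM L (show W ≤ U0 x from hWU) (g0 x), ⟨b, hb⟩, hab, fun y hy r hr => ?_⟩
    rw [QCohLoc.germ_smul', ← mul_smul] at hr
    exact mem_nonZeroDivisors_iff_right.1 (ha ⟨y, hy⟩) r
      ((bijective_smul_germ_gen hg hy).1 (hr.trans (zero_smul _ _).symm))
  choose W hxW m b hmb hreg using hloc
  have hcomp : ∀ (x x' : X) (y : X) (hy : y ∈ W x) (hy' : y ∈ W x'),
      (LocalizedModule.mk (L.presheaf.germ (W x) y hy (m x)) (Mero.regGerm ⟨y, hy⟩ (b x)) : Mero.MStalk L y) =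
        LocalizedModule.mk (L.presheaf.germ (W x') y hy' (m x')) (Mero.regGerm ⟨y, hy'⟩ (b x')) := by
    intro x x' y hy hy'
    have hz : res (inf_le_right : W x ⊓ W x' ≤ W x') (b x').1 • resM L (inf_le_left : W x ⊓ W x' ≤ W x) (m x) -
        res (inf_le_left : W x ⊓ W x' ≤ W x) (b x).1 • resM L (inf_le_right : W x ⊓ W x' ≤ W x') (m x') = 0 := by
      refine eq_zero_of_germ_weakAss L _ fun z hz hzw => ?_
      have hzw' := isWeakAssPoint_of_isInvertible hL hzw
      rw [map_sub, QCohLoc.germ_smul', QCohLoc.germ_smul', TopCat.Presheaf.germ_res_apply,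
        TopCat.Presheaf.germ_res_apply, TopCat.Presheaf.germ_res_apply, TopCat.Presheaf.germ_res_apply,
        hmb x z hz.1 hzw', hmb x' z hz.2 hzw', smul_comm, sub_self]
    have h2 := congr(L.presheaf.germ (W x ⊓ W x') y ⟨hy, hy'⟩ $hz)
    rw [map_sub, map_zero, QCohLoc.germ_smul', QCohLoc.germ_smul', TopCat.Presheaf.germ_res_apply,
      TopCat.Presheaf.germ_res_apply, TopCat.Presheaf.germ_res_apply, TopCat.Presheaf.germ_res_apply,
      sub_eq_zero] at h2
    refine LocalizedModule.mk_eq.2 ⟨1, ?_⟩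
    simp only [one_smul, Submonoid.smul_def]
    exact h2
  let s : ∀ x : (⊤ : X.Opens), Mero.MStalk L x.1 := fun x =>
    LocalizedModule.mk (L.presheaf.germ (W x.1) x.1 (hxW x.1) (m x.1)) (Mero.regGerm ⟨x.1, hxW x.1⟩ (b x.1))
  refine ⟨⟨s, fun x => ⟨W x.1, hxW x.1, homOfLE le_top, m x.1, b x.1, fun y => hcomp y.1 x.1 y.1 (hxW y.1) y.2⟩⟩,
    fun x q hq => ?_⟩
  induction q using LocalizedModule.induction_on with
  | h a c =>
    have h1 : (LocalizedModule.mk (a • L.presheaf.germ (W x) x (hxW x) (m x))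
        (c * Mero.regGerm ⟨x, hxW x⟩ (b x)) : Mero.MStalk L x) = 0 :=
      (LocalizedModule.mk_smul_mk a _ c _).symm.trans hq
    rw [← LocalizedModule.zero_mk 1, LocalizedModule.mk_eq] at h1
    obtain ⟨v, hv⟩ := h1
    simp only [smul_zero, one_smul, Submonoid.smul_def, ← mul_smul] at hv
    rw [mk_eq_zero_iff]
    exact mem_nonZeroDivisors_iff_right.1 (Mero.regStalk_le_nonZeroDivisors x v.2) a
      (by rw [mul_comm]; exact hreg x x (hxW x) _ hv)

end Groth.Agent.SDiv28
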