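import Groth.Agent.CAlgMisc2.FlatAdic
import Groth.Agent.Nrm16Lib.RegImm
import Groth.Agent.CAlgH.RegImmStalk
import Mathlib

/-!
# Flatness along a relative quasi-regular immersion
-/

set_option autoImplicit false
set_option backward.isDefEq.respectTransparency.types false
universe u

open CategoryTheory AlgebraicGeometry IsLocalRing RingTheory.Sequence

namespace Groth.Agent.SDiv28.FlatQuasi

theorem flat_of_isWeaklyRegular {A B : Type u} [CommRing A] [CommRing B] [IsNoetherianRing B] [IsLocalRing B]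
    [Algebra A B] : ∀ (rs : List B) (M : Type u) [AddCommGroup M] [Module B M]
    [Module A M] [IsScalarTower A B M] [Module.Finite B M],
    (∀ r ∈ rs, r ∈ maximalIdeal B) → IsWeaklyRegular M rs →
    Module.Flat A (M ⧸ (Ideal.ofList rs • (⊤ : Submodule B M))) → Module.Flat A M := by
  intro rs
  induction rs with
  | nil =>
    intro M _ _ _ _ _ _ _ h
    exact Module.Flat.of_linearEquiv
      ((Submodule.quotEquivOfEqBot (Ideal.ofList ([] : List B) • (⊤ : Submodule B M))
        (by rw [Ideal.ofList_nil, Submodule.bot_smul])).restrictScalars A).symm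
  | cons r rs ih =>
    intro M _ _ _ _ _ hm hreg h
    obtain ⟨hr, hrs⟩ := (isWeaklyRegular_cons_iff M r rs).1 hreg
    haveI := h
    haveI : Module.Flat A (QuotSMulTop r M) := ih (QuotSMulTop r M) (fun x hx => hm x (List.mem_cons_of_mem _ hx)) hrs
      (Module.Flat.of_linearEquiv ((Submodule.quotOfListConsSMulTopEquivQuotSMulTopInner M r rs).restrictScalars A).symm)
    refine CAlgMisc2.flat_of_flat_mod_regular r (hm r (List.mem_cons_self ..)) M hr ?_
    exact Module.Flat.of_linearEquiv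
      ((Submodule.quotEquivOfEq _ _ (Submodule.ideal_span_singleton_smul r ⊤)).restrictScalars A)

theorem flat_stalkMap {Z X S : Scheme.{u}} (f : X ⟶ S) (i : Z ⟶ X)
    (hi : _root_.RegImm.IsRelRegularImmersion _root_.RegImm.Kind.quasi f i) (z : Z)
    [IsNoetherianRing (X.presheaf.stalk (i z))] : (f.stalkMap (i z)).hom.Flat := by
  obtain ⟨⟨himm, hreg⟩, hflat⟩ := hi
  obtain ⟨⟨U, hU⟩, hzU, hc, rs, hrs, hker⟩ := hreg z
  haveI := hc
  let B := X.presheaf.stalk (i z)
  let C := Z.presheaf.stalk z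
  let A := S.presheaf.stalk (f (i z))
  letI : Algebra A B := (f.stalkMap (i z)).hom.toAlgebra
  letI : Algebra A C := ((i ≫ f).stalkMap z).hom.toAlgebra
  let φ := (i.stalkMap z).hom
  have hφ : Function.Surjective φ := i.stalkMap_surjective z
  letI := X.presheaf.algebra_section_stalk (⟨i z, hzU⟩ : U)
  haveI := hU.isLocalization_stalk ⟨i z, hzU⟩
  let gr := (X.presheaf.germ U (i z) hzU).hom
  have hq : CAlgX.IsQuasiRegular (gr ∘ rs.get) :=
    Nrm16Lib.isQuasiRegular_localization (hU.primeIdealOf ⟨i z, hzU⟩).asIdeal.primeCompl B hrs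
  have hφk : RingHom.ker φ = Ideal.ofList (List.ofFn (gr ∘ rs.get)) := by
    rw [← List.map_ofFn, List.ofFn_get, ← Ideal.map_ofList, ← hker]
    exact CAlgH.RegImmStalk.ker_stalkMap_eq i z hU hzU
  have hmem : ∀ r ∈ List.ofFn (gr ∘ rs.get), r ∈ maximalIdeal B := fun r hr =>
    IsLocalRing.le_maximalIdeal (RingHom.ker_ne_top φ) (hφk.ge (Ideal.subset_span hr))
  have hw : IsWeaklyRegular B (List.ofFn (gr ∘ rs.get)) :=
    EGA41Lib.isWeaklyRegular_of_isQuasiRegular rs.length B _ (fun k m hm => by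
      rw [IsLocalRing.eq_maximalIdeal hm]; exact hmem _ (List.mem_ofFn.2 ⟨k, rfl⟩)) hq
  let φa : B →ₐ[A] C := ⟨φ, fun c => RingHom.congr_fun
    (congrArg CommRingCat.Hom.hom (Scheme.Hom.stalkMap_comp i f z)).symm c⟩
  haveI : Module.Flat A C := Flat.stalkMap (i ≫ f) z
  haveI : Module.Flat A (B ⧸ RingHom.ker φa.toRingHom) :=
    Module.Flat.of_linearEquiv (Ideal.quotientKerAlgEquivOfSurjective (f := φa) hφ).toLinearEquiv
  refine flat_of_isWeaklyRegular (A := A) _ B hmem hw ?_
  exact Module.Flat.of_linearEquiv ((Submodule.quotEquivOfEq _ (RingHom.ker φa.toRingHom) (by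
    rw [smul_eq_mul, Ideal.mul_top]; exact hφk.symm)).restrictScalars A)

end Groth.Agent.SDiv28.FlatQuasi
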