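import Groth.Prelude.Def_BlowUp2
import Groth.Agent.SDiv28.StalkCartier
import Groth.Agent.Misc15.DivDescentInd
import Groth.Agent.SDiv28.LocalDim
import Mathlib

/-!
# The divisorial part of a closed subscheme supported on prime Cartier divisors
-/

set_option autoImplicit false
set_option backward.isDefEq.respectTransparency false
set_option backward.isDefEq.respectTransparency.types false
universe u

open CategoryTheory AlgebraicGeometry TopologicalSpace IsLocalRing
open Groth.Agent.Misc15.DivDescent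
open Groth.Agent.AssSch12 (isNoetherianRing_of_isAffineOpen)

namespace Groth.Agent.SDiv28.CartierPart

variable {X : Scheme.{u}}

theorem mem_support_iff_stk (J : X.IdealSheafData) (x : X) :
    x ∈ J.support ↔ stk J x ≤ maximalIdeal (X.presheaf.stalk x) := by
  obtain ⟨_, ⟨U, hU, rfl⟩, hxU, -⟩ :=
    X.isBasis_affineOpens.exists_subset_of_mem_open (Set.mem_univ x) isOpen_univ
  rw [Scheme.IdealSheafData.mem_support_iff_of_mem (U := ⟨U, hU⟩) hxU, stk_eq J ⟨U, hU⟩ hxU,
    Ideal.map_le_iff_le_comap, Scheme.mem_zeroLocus_iff]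
  refine forall₂_congr fun f _ => ?_
  rw [Scheme.mem_basicOpen _ _ _ hxU, Ideal.mem_comap, mem_maximalIdeal, mem_nonunits_iff]

theorem stk_eq_top {J : X.IdealSheafData} {x : X} (h : x ∉ J.support) : stk J x = ⊤ := by
  by_contra hne
  exact h ((mem_support_iff_stk J x).2 (le_maximalIdeal hne))

theorem stk_mul (I J : X.IdealSheafData) (x : X) : stk (I * J) x = stk I x * stk J x := by
  obtain ⟨_, ⟨U, hU, rfl⟩, hxU, -⟩ :=
    X.isBasis_affineOpens.exists_subset_of_mem_open (Set.mem_univ x) isOpen_univ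
  rw [stk_eq _ ⟨U, hU⟩ hxU, stk_eq _ ⟨U, hU⟩ hxU, stk_eq _ ⟨U, hU⟩ hxU,
    Scheme.IdealSheafData.ideal_mul, Pi.mul_apply, Ideal.map_mul]

theorem stk_pow (I : X.IdealSheafData) (n : ℕ) (x : X) : stk (I ^ n) x = stk I x ^ n := by
  obtain ⟨_, ⟨U, hU, rfl⟩, hxU, -⟩ :=
    X.isBasis_affineOpens.exists_subset_of_mem_open (Set.mem_univ x) isOpen_univ
  rw [stk_eq _ ⟨U, hU⟩ hxU, stk_eq _ ⟨U, hU⟩ hxU,
    Scheme.IdealSheafData.ideal_pow, Pi.pow_apply, Ideal.map_pow]

theorem stk_one (x : X) : stk (1 : X.IdealSheafData) x = ⊤ := by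
  rw [← pow_zero (1 : X.IdealSheafData), stk_pow, pow_zero, Ideal.one_eq_top]

theorem stk_prod {ι : Type*} (T : Finset ι) (D : ι → X.IdealSheafData) (x : X) :
    stk (∏ i ∈ T, D i) x = ∏ i ∈ T, stk (D i) x := by
  classical
  induction T using Finset.induction_on with
  | empty => rw [Finset.prod_empty, Finset.prod_empty, stk_one, Ideal.one_eq_top]
  | insert i s hi ih => rw [Finset.prod_insert hi, Finset.prod_insert hi, stk_mul, ih]

theorem dim_add_one_le {z x : X} (h : z ⤳ x) (hne : z ≠ x) :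
    Order.coheight z + 1 ≤ Order.coheight x := by
  refine Order.coheight_add_one_le (lt_iff_le_not_ge.2 ⟨h, fun h' => hne ?_⟩)
  exact (h.antisymm h').eq

theorem one_le_coheight [IsLocallyNoetherian X] {D : X.IdealSheafData} (hD : BlowUp.IsEffCartierIdeal D)
    {x : X} (hx : x ∈ D.support) : 1 ≤ Order.coheight x := by
  have h := StalkCartier.one_le_dim hD x hx
  rw [ringKrullDim_stalk_eq_coheight] at h
  exact_mod_cast h

theorem isPrime_stk {D : X.IdealSheafData} [IsIntegral D.subscheme] {x : X} (hx : x ∈ D.support) :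
    (stk D x).IsPrime := by
  obtain ⟨z, rfl⟩ := D.range_subschemeι.ge hx
  obtain ⟨_, ⟨U, hU, rfl⟩, hxU, -⟩ :=
    X.isBasis_affineOpens.exists_subset_of_mem_open (Set.mem_univ (D.subschemeι z)) isOpen_univ
  haveI : IsClosedImmersion (D.subschemeι ∣_ U) := inferInstance
  have h := CAlgH.RegImmStalk.ker_stalkMap_eq D.subschemeι z hU hxU
  rw [D.ker_subschemeι_app ⟨U, hU⟩, ← stk_eq D ⟨U, hU⟩ hxU] at h
  rw [← h]
  exact RingHom.ker_isPrime _

/-- The generic point of an integral closed subscheme. -/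
noncomputable def gen (D : X.IdealSheafData) [IsIntegral D.subscheme] : X :=
  D.subschemeι (genericPoint D.subscheme)

theorem isGenericPoint_gen (D : X.IdealSheafData) [IsIntegral D.subscheme] :
    IsGenericPoint (gen D) (D.support : Set X) := by
  have h := (genericPoint_spec D.subscheme).image D.subschemeι.continuous
  rwa [Set.image_univ, D.range_subschemeι, D.support.isClosed.closure_eq] at h

section Divisor

variable [IsLocallyNoetherian X] {D : X.IdealSheafData} [IsIntegral D.subscheme]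

theorem coheight_gen (hD : BlowUp.IsEffCartierIdeal D) : Order.coheight (gen D) = 1 := by
  obtain ⟨_, _⟩ := StalkCartier.exists_dvr hD _ (isGenericPoint_gen D)
  have h := IsDiscreteValuationRing.ringKrullDim_eq_one (X.presheaf.stalk (gen D))
  rw [ringKrullDim_stalk_eq_coheight] at h
  exact_mod_cast h

theorem eq_gen_of_coheight_le (hD : BlowUp.IsEffCartierIdeal D) {x : X} (hx : x ∈ D.support)
    (h : Order.coheight x ≤ 1) : x = gen D := by
  by_contra hne
  have := (dim_add_one_le ((isGenericPoint_gen D).specializes hx) (Ne.symm hne)).trans h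
  rw [coheight_gen hD] at this
  exact absurd this (by decide)

theorem stk_gen (hD : BlowUp.IsEffCartierIdeal D) :
    stk D (gen D) = maximalIdeal (X.presheaf.stalk (gen D)) := by
  obtain ⟨_, _⟩ := StalkCartier.exists_dvr hD _ (isGenericPoint_gen D)
  have hp := isPrime_stk (D := D) (x := gen D) (isGenericPoint_gen D).mem
  obtain ⟨g, hg, hgD⟩ := exists_gen hD (gen D)
  refine eq_maximalIdeal (hp.isMaximal ?_)
  rw [hgD, Ne, Ideal.span_singleton_eq_bot]
  exact nonZeroDivisors.ne_zero hg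

end Divisor

/-- If the image of `f` in the local ring at each generic point lies in the power of the divisor then `f`
lies in the product. -/
theorem mem_stk_prod [IsLocallyNoetherian X] {I : Type*} (D : I → X.IdealSheafData)
    (hD : ∀ i, BlowUp.IsEffCartierIdeal (D i)) [∀ i, IsIntegral (D i).subscheme] (n : I → ℕ)
    (T : Finset I) (hT : ∀ i ∈ T, ∀ j ∈ T, gen (D i) = gen (D j) → i = j) (x : X)
    (f : X.presheaf.stalk x)
    (hf : ∀ i ∈ T, ∀ h : gen (D i) ⤳ x,
      (X.presheaf.stalkSpecializes h).hom f ∈ stk (D i) (gen (D i)) ^ n i) :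
    f ∈ stk (∏ i ∈ T, D i ^ n i) x := by
  classical
  induction T using Finset.induction_on generalizing f with
  | empty => rw [Finset.prod_empty, stk_one]; trivial
  | insert i s his ih =>
    have hT' : ∀ a ∈ s, ∀ b ∈ s, gen (D a) = gen (D b) → a = b := fun a ha b hb =>
      hT a (Finset.mem_insert_of_mem ha) b (Finset.mem_insert_of_mem hb)
    rw [Finset.prod_insert his, stk_mul, stk_pow]
    by_cases hx : x ∈ (D i).support
    swap
    · rw [stk_eq_top hx, Ideal.top_pow, Ideal.top_mul]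
      exact ih hT' f fun j hj => hf j (Finset.mem_insert_of_mem hj)
    have h : gen (D i) ⤳ x := (isGenericPoint_gen (D i)).specializes hx
    obtain ⟨t, ht, htD⟩ := exists_gen (hD i) x
    have hp : (Ideal.span {t}).IsPrime := htD ▸ isPrime_stk hx
    have hspec : ∀ {z : X} (hz : z ⤳ x),
        stk (D i) z = Ideal.span {(X.presheaf.stalkSpecializes hz).hom t} := fun hz => by
      rw [stk_specializes _ hz, htD, Ideal.map_span, Set.image_singleton]
    have h1 := hf i (Finset.mem_insert_self i s) h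
    rw [hspec h, Ideal.span_singleton_pow, ← map_pow, Ideal.mem_span_singleton, specializes_dvd] at h1
    obtain ⟨u, hu, hdvd⟩ := h1
    have htu : ¬ t ∣ u := fun ⟨c, hc⟩ => by
      have h2 := (notMem_primeOf h u).1 hu
      rw [hc, map_mul] at h2
      have h3 : Ideal.span {(X.presheaf.stalkSpecializes h).hom t} = ⊤ :=
        Ideal.span_singleton_eq_top.2 (isUnit_of_mul_isUnit_left h2)
      rw [← hspec h, stk_gen (hD i)] at h3
      exact (maximalIdeal.isMaximal _).ne_top h3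
    have hdiv : ∀ (k : ℕ) (a : X.presheaf.stalk x), t ^ k ∣ u * a → t ^ k ∣ a := by
      intro k
      induction k with
      | zero => intro a _; simp
      | succ k ihk =>
        intro a ha
        obtain ⟨g, rfl⟩ := ihk a ((pow_dvd_pow t k.le_succ).trans ha)
        rw [pow_succ, mul_left_comm] at ha
        obtain ⟨w, hw⟩ := ha
        have h4 : t ^ k * (u * g - t * w) = 0 := by rw [mul_sub, hw]; ring
        have h5 : u * g = t * w :=
          sub_eq_zero.1 (((pow_mem ht k : t ^ k ∈ nonZeroDivisors _)).1 _ h4)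
        rw [pow_succ]
        refine mul_dvd_mul_left _ (Ideal.mem_span_singleton.1 ?_)
        refine (hp.mem_or_mem (x := u) ?_).resolve_left fun h => htu (Ideal.mem_span_singleton.1 h)
        rw [h5]
        exact Ideal.mul_mem_right _ _ (Ideal.mem_span_singleton_self t)
    obtain ⟨g, rfl⟩ := hdiv _ f hdvd
    rw [htD, Ideal.span_singleton_pow]
    refine Ideal.mul_mem_mul (Ideal.mem_span_singleton_self _) (ih hT' g fun j hj hjx => ?_)
    have h6 := hf j (Finset.mem_insert_of_mem hj) hjx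
    have hji : gen (D j) ∉ (D i).support := fun hm => by
      have e := eq_gen_of_coheight_le (hD i) hm (coheight_gen (hD j)).le
      exact his (hT i (Finset.mem_insert_self i s) j (Finset.mem_insert_of_mem hj) e.symm ▸ hj)
    have hunit : IsUnit ((X.presheaf.stalkSpecializes hjx).hom t) := by
      rw [← Ideal.span_singleton_eq_top, ← hspec hjx]
      exact stk_eq_top hji
    rw [map_mul, map_pow] at h6
    exact (Ideal.unit_mul_mem_iff_mem _ (hunit.pow _)).1 h6

/-- The locus where a section lies in the stalk of an ideal sheaf is open. -/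
theorem exists_nhd_mem (J : X.IdealSheafData) (U : X.affineOpens) {x : X} (hx : x ∈ U.1) (c : Γ(X, U.1))
    (hc : X.presheaf.germ U.1 x hx c ∈ stk J x) :
    ∃ O : X.Opens, x ∈ O ∧ ∀ z, ∀ hz : z ∈ U.1, z ∈ O → X.presheaf.germ U.1 z hz c ∈ stk J z := by
  letI := X.presheaf.algebra_section_stalk (⟨x, hx⟩ : U.1)
  haveI := U.2.isLocalization_stalk ⟨x, hx⟩
  rw [stk_eq J U hx] at hc
  obtain ⟨⟨⟨a, ha⟩, s⟩, has⟩ := (IsLocalization.mem_map_algebraMap_iff
    (U.2.primeIdealOf ⟨x, hx⟩).asIdeal.primeCompl _).1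
    (show algebraMap Γ(X, U.1) (X.presheaf.stalk x) c ∈ (J.ideal U).map (algebraMap _ _) from hc)
  rw [← map_mul] at has
  obtain ⟨t, ht⟩ := (IsLocalization.eq_iff_exists (U.2.primeIdealOf ⟨x, hx⟩).asIdeal.primeCompl _).1 has
  have hunit : IsUnit (X.presheaf.germ U.1 x hx (t.1 * s.1)) :=
    IsLocalization.map_units (X.presheaf.stalk x) (t * s : (U.2.primeIdealOf ⟨x, hx⟩).asIdeal.primeCompl)
  refine ⟨X.basicOpen (t.1 * s.1), (X.mem_basicOpen _ _ hx).2 hunit, fun z hz hzO => ?_⟩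
  have hu := (X.mem_basicOpen _ _ hz).1 hzO
  refine (Ideal.unit_mul_mem_iff_mem _ hu).1 ?_
  rw [← map_mul, stk_eq J U hz]
  refine Ideal.mem_map_of_mem _ ?_
  have : t.1 * s.1 * c = t.1 * a := by rw [← ht]; ring
  rw [this]
  exact Ideal.mul_mem_left _ _ ha

theorem isOpen_stk_le [IsLocallyNoetherian X] (I J : X.IdealSheafData) :
    IsOpen {x | stk I x ≤ stk J x} := by
  classical
  rw [isOpen_iff_forall_mem_open]
  intro x hx
  obtain ⟨_, ⟨U, hU, rfl⟩, hxU, -⟩ :=
    X.isBasis_affineOpens.exists_subset_of_mem_open (Set.mem_univ x) isOpen_univ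
  haveI := isNoetherianRing_of_isAffineOpen hU
  obtain ⟨T, hT⟩ := IsNoetherian.noetherian (I.ideal ⟨U, hU⟩)
  have hmem : ∀ c ∈ T, c ∈ I.ideal ⟨U, hU⟩ := fun c hc => hT ▸ Submodule.subset_span hc
  have h1 : ∀ c : T, ∃ O : X.Opens, x ∈ O ∧
      ∀ z, ∀ hz : z ∈ U, z ∈ O → X.presheaf.germ U z hz c.1 ∈ stk J z := fun c =>
    exists_nhd_mem J ⟨U, hU⟩ hxU c.1 (hx (by
      rw [stk_eq I ⟨U, hU⟩ hxU]; exact Ideal.mem_map_of_mem _ (hmem _ c.2)))
  choose O hO hO' using h1
  refine ⟨(U : Set X) ∩ ⋂ c : T, (O c : Set X), fun z hz => ?_,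
    U.isOpen.inter (isOpen_iInter_of_finite fun c => (O c).isOpen), hxU, Set.mem_iInter.2 hO⟩
  show stk I z ≤ stk J z
  rw [stk_eq I ⟨U, hU⟩ hz.1, ← hT, ← Ideal.span, Ideal.map_span, Ideal.span_le]
  rintro _ ⟨c, hc, rfl⟩
  exact hO' ⟨c, hc⟩ z hz.1 (Set.mem_iInter.1 hz.2 ⟨c, hc⟩)

/-- Points maximal under generization in a closed subset of a Noetherian space form a finite set. -/
theorem finite_maximal [IsNoetherian X] {Z : Set X} (hZ : IsClosed Z) :
    {x | x ∈ Z ∧ ∀ y ∈ Z, y ⤳ x → y = x}.Finite := by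
  classical
  obtain ⟨S, hS, hScl, hSirr, hSU⟩ := NoetherianSpace.exists_finite_set_isClosed_irreducible hZ
  haveI : Finite S := hS
  refine (Set.finite_range fun C : S => (hSirr C.1 C.2).genericPoint).subset ?_
  rintro x ⟨hxZ, hmax⟩
  rw [hSU] at hxZ
  obtain ⟨C, hC, hxC⟩ := hxZ
  have hg := (hSirr C hC).isGenericPoint_genericPoint (hScl C hC)
  exact ⟨⟨C, hC⟩, hmax _ (hSU ▸ Set.mem_sUnion_of_mem hg.mem hC) (hg.specializes hxC)⟩

theorem main [IsNoetherian X] (𝓩 : X.IdealSheafData)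
    {I : Type u} (D : I → X.IdealSheafData) (hD : ∀ i, BlowUp.IsEffCartierIdeal (D i))
    [∀ i, IsIntegral (D i).subscheme]
    (Z' : Set X)
    (hcodim : ∀ z ∈ Z', (∀ y ∈ Z', y ⤳ z → y = z) → (2 : WithBot ℕ∞) ≤ ringKrullDim (X.presheaf.stalk z))
    (hcover : (𝓩.support : Set X) ⊆ Z' ∪ ⋃ i, ((D i).support : Set X)) :
    ∃ (T : Finset I) (n : I → ℕ), 𝓩 ≤ (∏ i ∈ T, D i ^ n i) ∧
      ∃ U : X.Opens, (∏ i ∈ T, D i ^ n i).comap U.ι = 𝓩.comap U.ι ∧
        ∀ z ∈ (𝓩.support : Set X) \ (U : Set X),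
          (2 : WithBot ℕ∞) ≤ ringKrullDim (X.presheaf.stalk z) := by
  classical
  have hdim : ∀ z : X, 2 ≤ Order.coheight z → (2 : WithBot ℕ∞) ≤ ringKrullDim (X.presheaf.stalk z) :=
    fun z hz => by rw [ringKrullDim_stalk_eq_coheight]; exact WithBot.coe_le_coe.2 hz
  have hcodim' : ∀ z ∈ Z', (∀ y ∈ Z', y ⤳ z → y = z) → 2 ≤ Order.coheight z := fun z hz hm => by
    have h := hcodim z hz hm
    rw [ringKrullDim_stalk_eq_coheight] at h
    exact WithBot.coe_le_coe.1 h
  have hZ0 : ∀ z ∈ Z', Order.coheight z ≠ 0 := fun z hz h0 => by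
    have h := hcodim' z hz fun y _ hy => by
      by_contra hne
      simpa [h0] using dim_add_one_le hy hne
    simp [h0] at h
  have hZ2 : ∀ z ∈ Z', 2 ≤ Order.coheight z := fun z hz => by
    by_cases hm : ∀ y ∈ Z', y ⤳ z → y = z
    · exact hcodim' z hz hm
    push Not at hm
    obtain ⟨y, hy, hyz, hne⟩ := hm
    calc (2 : ℕ∞) = 1 + 1 := one_add_one_eq_two.symm
      _ ≤ Order.coheight y + 1 := by gcongr; exact Order.one_le_iff_pos.2 (pos_iff_ne_zero.2 (hZ0 y hy))
      _ ≤ _ := dim_add_one_le hyz hne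
  have hlow : ∀ z ∈ 𝓩.support, 1 ≤ Order.coheight z := fun z hz => by
    rcases hcover hz with h | h
    · exact le_trans (by decide) (hZ2 z h)
    · obtain ⟨i, hi⟩ := Set.mem_iUnion.1 h
      exact one_le_coheight (hD i) hi
  let S : Set X := {ξ | (∃ i, gen (D i) = ξ) ∧ ξ ∈ 𝓩.support}
  have hS : S.Finite := (finite_maximal 𝓩.support.isClosed).subset fun ξ hξ => by
    obtain ⟨⟨i, rfl⟩, hm⟩ := hξ
    refine ⟨hm, fun y hy hyξ => by_contra fun hne => ?_⟩
    have h := (add_le_add (hlow y hy) (le_refl (1 : ℕ∞))).trans (dim_add_one_le hyξ hne)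
    rw [coheight_gen (hD i)] at h
    exact absurd h (by decide)
  haveI : Finite S := hS
  have hex : ∀ ξ : S, ∃ i, gen (D i) = ξ.1 := fun ξ => ξ.2.1
  choose rep hrep using hex
  let T : Finset I := (Set.finite_range rep).toFinset
  have hTmem : ∀ i ∈ T, gen (D i) ∈ 𝓩.support := fun i hi => by
    obtain ⟨ξ, rfl⟩ := (Set.finite_range rep).mem_toFinset.1 hi
    rw [hrep]; exact ξ.2.2
  have hTinj : ∀ i ∈ T, ∀ j ∈ T, gen (D i) = gen (D j) → i = j := fun i hi j hj e => by
    obtain ⟨ξ, rfl⟩ := (Set.finite_range rep).mem_toFinset.1 hi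
    obtain ⟨η, rfl⟩ := (Set.finite_range rep).mem_toFinset.1 hj
    rw [hrep, hrep] at e
    rw [Subtype.ext e]
  have hmult : ∀ i, ∃ n : ℕ, stk 𝓩 (gen (D i)) = stk (D i) (gen (D i)) ^ n := fun i => by
    obtain ⟨_, _⟩ := StalkCartier.exists_dvr (hD i) _ (isGenericPoint_gen (D i))
    have hne : stk 𝓩 (gen (D i)) ≠ ⊥ := fun h0 => by
      obtain ⟨y, hy, hne⟩ := SDiv28.exists_specializes_ne (hD i) (isGenericPoint_gen (D i)).mem
      have hyZ : y ∈ 𝓩.support := by
        rw [mem_support_iff_stk, stk_specializes 𝓩 hy, h0, Ideal.map_bot]; exact bot_le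
      have h := (add_le_add (hlow y hyZ) (le_refl (1 : ℕ∞))).trans (dim_add_one_le hy hne)
      rw [coheight_gen (hD i)] at h
      exact absurd h (by decide)
    obtain ⟨ϖ, hϖ⟩ := IsDiscreteValuationRing.exists_irreducible (X.presheaf.stalk (gen (D i)))
    obtain ⟨n, hn⟩ := IsDiscreteValuationRing.ideal_eq_span_pow_irreducible hne hϖ
    exact ⟨n, by rw [hn, stk_gen (hD i), hϖ.maximalIdeal_eq, Ideal.span_singleton_pow]⟩
  choose n hn using hmult
  have hle : 𝓩 ≤ ∏ i ∈ T, D i ^ n i := by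
    refine Scheme.IdealSheafData.le_def.2 fun U c hc => (mem_ideal_iff _ U).2 fun x hx => ?_
    refine mem_stk_prod D hD n T hTinj x _ fun i _ h => ?_
    rw [← hn i, stk_specializes 𝓩 h]
    exact Ideal.mem_map_of_mem _ ((mem_ideal_iff _ U).1 hc x hx)
  have hlex : ∀ x, stk 𝓩 x ≤ stk (∏ i ∈ T, D i ^ n i) x := fun x => by
    obtain ⟨_, ⟨U, hU, rfl⟩, hxU, -⟩ :=
      X.isBasis_affineOpens.exists_subset_of_mem_open (Set.mem_univ x) isOpen_univ
    rw [stk_eq _ ⟨U, hU⟩ hxU, stk_eq _ ⟨U, hU⟩ hxU]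
    exact Ideal.map_mono (Scheme.IdealSheafData.le_def.1 hle ⟨U, hU⟩)
  refine ⟨T, n, hle, ⟨_, isOpen_stk_le (∏ i ∈ T, D i ^ n i) 𝓩⟩, ext_stk fun x => ?_, fun z hz => ?_⟩
  · rw [stk_comap, stk_comap]
    exact congrArg _ (le_antisymm x.2 (hlex _))
  obtain ⟨hzZ, hzU⟩ := hz
  refine hdim z (not_lt.1 fun hlt => hzU ?_)
  rcases hcover hzZ with h | h
  · exact absurd (hZ2 z h) (not_le.2 hlt)
  obtain ⟨i, hi⟩ := Set.mem_iUnion.1 h
  have hz1 : Order.coheight z ≤ 1 := Order.le_of_lt_add_one (by rwa [one_add_one_eq_two])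
  have hzi := eq_gen_of_coheight_le (hD i) hi hz1
  have hzS : z ∈ S := ⟨⟨i, hzi.symm⟩, hzZ⟩
  let j := rep ⟨z, hzS⟩
  have hj : gen (D j) = z := hrep ⟨z, hzS⟩
  have hjT : j ∈ T := (Set.finite_range rep).mem_toFinset.2 ⟨_, rfl⟩
  show stk _ z ≤ stk 𝓩 z
  rw [← hj, stk_prod, ← Finset.mul_prod_erase T _ hjT, stk_pow, ← hn j]
  exact Ideal.mul_le_left

end Groth.Agent.SDiv28.CartierPart
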