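import Groth.Agent.SDiv28.WeakAssUnit
import Groth.Prelude.Def_MeroSh
import Mathlib

/-!
# Regular sections and meromorphic functions under conditions on weakly associated points
-/

set_option autoImplicit false
set_option backward.isDefEq.respectTransparency.types false
universe u

open CategoryTheory AlgebraicGeometry Opposite TopologicalSpace
open Groth.Agent.AssSch12
open Groth.Agent.CAlgH3 (annEl mem_annEl)

namespace Groth.Agent.SDiv28

variable {X : Scheme.{u}}

local notation "weak" => Curv2.IsWeakAssPoint (Coh.structureModule _)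

/-- A function on an affine open vanishing at all weakly associated points vanishes. -/
theorem germ_eq_zero_of_weak {W : X.Opens} (hW : IsAffineOpen W) (w : Γ(X, W))
    (h : ∀ (y : X) (hy : y ∈ W), Curv2.IsWeakAssPoint (Coh.structureModule X) y → X.presheaf.germ W y hy w = 0)
    {x : X} (hx : x ∈ W) : X.presheaf.germ W x hx w = 0 := by
  by_contra hne
  rw [germ_eq_zero_iff hW hx, not_not] at hne
  haveI : (primeAt hW hx).IsPrime := (hW.primeIdealOf ⟨x, hx⟩).2
  obtain ⟨q, hq, -⟩ := Ideal.exists_minimalPrimes_le hne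
  haveI := hq.1.1
  obtain ⟨y, hy, rfl⟩ := exists_point hW q
  exact (germ_eq_zero_iff hW hy w).1 (h y hy ((isWeakAssPoint_structureModule_iff_affine hW hy).2 ⟨w, hq⟩)) hq.1.2

theorem mem_regSub_of_weak {W : X.Opens} (hW : IsAffineOpen W) (a : Γ(X, W))
    (h : ∀ y : X, y ∈ W → Curv2.IsWeakAssPoint (Coh.structureModule X) y → y ∈ X.basicOpen a) :
    a ∈ Mero.regSub X W := by
  intro x
  rw [mem_nonZeroDivisors_iff_right]
  intro z hz
  letI := TopCat.Presheaf.algebra_section_stalk X.presheaf x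
  haveI := hW.isLocalization_stalk x
  obtain ⟨⟨w, t⟩, hw⟩ := IsLocalization.surj (hW.primeIdealOf x).asIdeal.primeCompl z
  have hwa : X.presheaf.germ W x.1 x.2 (w * a) = 0 := by
    rw [map_mul]
    show algebraMap Γ(X, W) _ w * _ = 0
    rw [← hw, mul_right_comm, hz, zero_mul]
  have hw0 : X.presheaf.germ W x.1 x.2 w = 0 := by
    -- kill `w * a` by a function invertible at `x`
    obtain ⟨s, hs, hsp⟩ := SetLike.not_le_iff_exists.1 ((germ_eq_zero_iff hW x.2 (w * a)).1 hwa)
    have h1 : X.presheaf.germ W x.1 x.2 (s * w) = 0 := by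
      refine germ_eq_zero_of_weak hW (s * w) (fun y hy hyw => ?_) x.2
      have hu : IsUnit (X.presheaf.germ W y hy a) := (X.mem_basicOpen a y hy).1 (h y hy hyw)
      refine hu.mul_left_eq_zero.1 ?_
      rw [← map_mul, mul_assoc, show s * (w * a) = 0 from mem_annEl.1 hs, map_zero]
    rw [map_mul] at h1
    exact (((X.mem_basicOpen s x.1 x.2).1 ((notMem_primeAt_iff hW x.2 s).1 hsp)).mul_right_eq_zero).1 h1
  have h2 : z * algebraMap Γ(X, W) (X.presheaf.stalk x.1) t = 0 := hw.trans hw0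
  exact (IsLocalization.map_units _ t).mul_left_eq_zero.1 h2

theorem mem_nonZeroDivisors_of_regSub {U : X.Opens} {a : Γ(X, U)} (ha : a ∈ Mero.regSub X U) :
    a ∈ nonZeroDivisors Γ(X, U) := by
  rw [mem_nonZeroDivisors_iff_right]
  intro z hz
  apply TopCat.Presheaf.section_ext X.sheaf
  intro x hx
  show X.presheaf.germ U x hx z = X.presheaf.germ U x hx 0
  rw [map_zero]
  refine mem_nonZeroDivisors_iff_right.1 (ha ⟨x, hx⟩) _ ?_
  rw [← map_mul, hz, map_zero]

theorem mem_basicOpen_of_nzd {W : X.Opens} (hW : IsAffineOpen W) {a : Γ(X, W)}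
    (ha : a ∈ nonZeroDivisors Γ(X, W)) {y : X} (hy : y ∈ W) (hmax : ∀ z : X, z ⤳ y → z = y) :
    y ∈ X.basicOpen a := by
  rw [← notMem_primeAt_iff hW hy]
  exact fun h => Set.disjoint_left.1
    (Ideal.disjoint_nonZeroDivisors_of_mem_minimalPrimes ((mem_minimalPrimes_iff hW hy).2 hmax)) h ha

theorem regSub_app {Y : Scheme.{u}} (f : X ⟶ Y)
    (h : ∀ x : X, Curv2.IsWeakAssPoint (Coh.structureModule X) x → ∀ y : Y, y ⤳ f x → y = f x)
    (U : Y.Opens) (s : Γ(Y, U)) (hs : s ∈ Mero.regSub Y U) : f.app U s ∈ Mero.regSub X (f ⁻¹ᵁ U) := by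
  rintro ⟨x, hx⟩
  obtain ⟨_, ⟨V, hV, rfl⟩, hxV, hVU⟩ :=
    Y.isBasis_affineOpens.exists_subset_of_mem_open (show f x ∈ U from hx) U.isOpen
  replace hVU : V ≤ U := hVU
  obtain ⟨_, ⟨W, hW, rfl⟩, hxW, hWV⟩ :=
    X.isBasis_affineOpens.exists_subset_of_mem_open (show x ∈ f ⁻¹ᵁ V from hxV) (f ⁻¹ᵁ V).isOpen
  replace hWV : W ≤ f ⁻¹ᵁ V := hWV
  have hWU : W ≤ f ⁻¹ᵁ U := hWV.trans (f.preimage_mono hVU)
  have hres : X.presheaf.map (homOfLE hWU).op (f.app U s) ∈ Mero.regSub X W := by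
    refine mem_regSub_of_weak hW _ fun y hy hyw => ?_
    rw [Scheme.basicOpen_res, ← Scheme.preimage_basicOpen]
    refine ⟨hy, ?_⟩
    have hsV := Mero.regSub_res (homOfLE hVU) hs
    have := mem_basicOpen_of_nzd hV (mem_nonZeroDivisors_of_regSub hsV) (hWV hy) (h y hyw)
    rw [Scheme.basicOpen_res] at this
    exact this.2
  have := hres ⟨x, hxW⟩
  rwa [TopCat.Presheaf.germ_res_apply] at this

section conditions

variable (ha : ∀ x : X, Curv2.IsWeakAssPoint (Coh.structureModule X) x → ∀ y : X, y ⤳ x → y = x)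
include ha

theorem mem_regSub_of_maxPts {W : X.Opens} (hW : IsAffineOpen W) (a : Γ(X, W))
    (h : ∀ y : X, y ∈ W → (∀ z : X, z ⤳ y → z = y) → y ∈ X.basicOpen a) : a ∈ Mero.regSub X W :=
  mem_regSub_of_weak hW a fun y hy hyw => h y hy (ha y hyw)

theorem mem_regSub_of_nzd {W : X.Opens} (hW : IsAffineOpen W) {a : Γ(X, W)}
    (h : a ∈ nonZeroDivisors Γ(X, W)) : a ∈ Mero.regSub X W :=
  mem_regSub_of_maxPts ha hW a fun _ hy hm => mem_basicOpen_of_nzd hW h hy hm

variable (hb : ∀ U : X.Opens, IsCompact (U : Set X) → (irreducibleComponents ↥(U : Scheme.{u})).Finite)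
include hb

omit ha in
theorem finite_maxPts {W : X.Opens} (hW : IsAffineOpen W) :
    {y : X | y ∈ W ∧ ∀ z : X, z ⤳ y → z = y}.Finite := by
  have hS : {w : ↥(W : Scheme.{u}) | ∀ z : X, z ⤳ W.ι w → z = W.ι w}.Finite := by
    refine Set.Finite.of_finite_image ((hb W hW.isCompact).subset ?_) (f := fun w => closure {w}) ?_
    · rintro _ ⟨w, hw, rfl⟩
      refine ⟨isIrreducible_singleton.closure, fun Z hZ hle => ?_⟩
      obtain ⟨g, hg⟩ := QuasiSober.sober hZ.closure isClosed_closure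
      have hgw : g ⤳ w := hg.specializes (subset_closure (hle (subset_closure rfl)))
      have hgeq : g = w := W.ι.isOpenEmbedding.injective (hw _ (hgw.map W.ι.continuous))
      show Z ⊆ closure {w}
      rw [← hgeq, hg.def]
      exact subset_closure
    · intro a _ b _ hab
      exact (inseparable_iff_closure_eq.2 hab).eq
  refine (hS.image W.ι).subset ?_
  rintro y ⟨hy, hm⟩
  exact ⟨⟨y, hy⟩, hm, rfl⟩

theorem regStalk_eq (x : X) : Mero.regStalk X x = nonZeroDivisors (X.presheaf.stalk x) := by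
  refine le_antisymm (Mero.regStalk_le_nonZeroDivisors x) fun g hg => ?_
  obtain ⟨V, hxV, a₀, rfl⟩ := X.presheaf.exists_germ_eq g
  obtain ⟨_, ⟨W, hW, rfl⟩, hxW, hWV⟩ := X.isBasis_affineOpens.exists_subset_of_mem_open hxV V.isOpen
  rw [← TopCat.Presheaf.germ_res_apply X.presheaf (homOfLE (show W ≤ V from hWV)) x hxW] at hg ⊢
  generalize X.presheaf.map (homOfLE (show W ≤ V from hWV)).op a₀ = a at hg ⊢
  classical
  let G := (finite_maxPts hb hW).toFinset.filter fun y => ¬ y ⤳ x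
  have hG : ∀ y ∈ G, ∃ r : Γ(X, W), r ∉ primeAt hW hxW ∧ y ∉ X.basicOpen r := by
    intro y hy
    simp only [G, Finset.mem_filter, Set.Finite.mem_toFinset] at hy
    obtain ⟨r, hr, hr'⟩ := SetLike.not_le_iff_exists.1 (mt (specializes_iff hW hy.1.1 hxW).2 hy.2)
    exact ⟨r, hr', (mem_primeAt_iff hW hy.1.1 r).1 hr⟩
  choose! r hr hr' using hG
  let h := ∏ y ∈ G, r y
  have hxh : x ∈ X.basicOpen h := by
    rw [← notMem_primeAt_iff hW hxW]
    intro hm
    haveI : (primeAt hW hxW).IsPrime := (hW.primeIdealOf ⟨x, hxW⟩).2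
    obtain ⟨y, hy, hyr⟩ := (Ideal.IsPrime.prod_mem_iff (p := primeAt hW hxW)).1 hm
    exact hr y hy hyr
  refine ⟨X.basicOpen h, hxh, X.presheaf.map (homOfLE (X.basicOpen_le h)).op a,
    mem_regSub_of_maxPts ha (hW.basicOpen h) _ fun y hy hm => ?_, TopCat.Presheaf.germ_res_apply ..⟩
  rw [Scheme.basicOpen_res]
  refine ⟨hy, ?_⟩
  have hyW : y ∈ W := X.basicOpen_le h hy
  have hyx : y ⤳ x := by
    by_contra hn
    have hyG : y ∈ G := Finset.mem_filter.2 ⟨(finite_maxPts hb hW).mem_toFinset.2 ⟨hyW, hm⟩, hn⟩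
    obtain ⟨c, hc⟩ : r y ∣ h := Finset.dvd_prod_of_mem _ hyG
    rw [hc, Scheme.basicOpen_mul] at hy
    exact hr' y hyG hy.1
  rw [SetLike.mem_coe, ← notMem_primeAt_iff hW hyW]
  intro hay
  letI := TopCat.Presheaf.algebra_section_stalk X.presheaf (⟨x, hxW⟩ : W)
  haveI := hW.isLocalization_stalk ⟨x, hxW⟩
  haveI : (primeAt hW hyW).IsPrime := (hW.primeIdealOf ⟨y, hyW⟩).2
  have hle := (specializes_iff hW hyW hxW).1 hyx
  have hd : Disjoint ((primeAt hW hxW).primeCompl : Set Γ(X, W)) (primeAt hW hyW : Set Γ(X, W)) :=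
    Set.disjoint_left.2 fun z hz hzy => hz (hle hzy)
  have hmin : (primeAt hW hyW).map (algebraMap Γ(X, W) (X.presheaf.stalk x)) ∈
      minimalPrimes (X.presheaf.stalk x) := by
    show _ ∈ (⊥ : Ideal (X.presheaf.stalk x)).minimalPrimes
    rw [← Ideal.map_bot (f := algebraMap Γ(X, W) (X.presheaf.stalk x)),
      IsLocalization.minimalPrimes_map (primeAt hW hxW).primeCompl, Set.mem_preimage,
      IsLocalization.comap_map_of_isPrime_disjoint _ _ inferInstance hd]
    exact (mem_minimalPrimes_iff hW hyW).2 hm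
  exact Set.disjoint_left.1 (Ideal.disjoint_nonZeroDivisors_of_mem_minimalPrimes hmin)
    (Ideal.mem_map_of_mem _ hay) hg

omit ha hb in
theorem mk_eq_zero_iff {y : X} (a : X.presheaf.stalk y) (b : Mero.regStalk X y) :
    (LocalizedModule.mk a b : Mero.KStalk X y) = 0 ↔ a = 0 := by
  rw [← LocalizedModule.zero_mk b, LocalizedModule.mk_eq]
  constructor
  · rintro ⟨u, hu⟩
    simp only [Submonoid.smul_def, smul_eq_mul, smul_zero, ← mul_assoc] at hu
    exact mem_nonZeroDivisors_iff_right.1 (Mero.regStalk_le_nonZeroDivisors y (u * b).2) a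
      (by rw [mul_comm]; exact hu)
  · rintro rfl; exact ⟨1, rfl⟩

omit hb in
theorem kmod_ext {U : X.Opens} (d : Γ(Mero.kmod X, U))
    (h : ∀ y : U, (∀ z : X, z ⤳ y.1 → z = y.1) → d.1 y = 0) : d = 0 := by
  refine Subtype.ext (funext fun x => ?_)
  obtain ⟨V, hxV, i, a, b, w⟩ := d.2 x
  obtain ⟨_, ⟨W, hW, rfl⟩, hxW, hWV⟩ := X.isBasis_affineOpens.exists_subset_of_mem_open hxV V.isOpen
  replace hWV : W ≤ V := hWV
  have h0 : X.presheaf.germ W x.1 hxW (X.presheaf.map (homOfLE hWV).op a) = 0 := by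
    refine germ_eq_zero_of_weak hW _ (fun y hy hyw => ?_) hxW
    rw [TopCat.Presheaf.germ_res_apply, ← mk_eq_zero_iff _ (Mero.regGerm ⟨y, hWV hy⟩ b)]
    exact (w ⟨y, hWV hy⟩).symm.trans (h ⟨y, i.le (hWV hy)⟩ (ha y hyw))
  rw [TopCat.Presheaf.germ_res_apply] at h0
  exact (w ⟨x.1, hxV⟩).trans ((mk_eq_zero_iff _ _).2 h0)

theorem isLocalization_kmod (U : X.affineOpens) :
    @IsLocalization Γ(X, U.1) _ (nonZeroDivisors Γ(X, U.1)) Γ(Mero.kmod X, U.1) _ (Mero.toK X U.1).toAlgebra := by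
  letI := (Mero.toK X U.1).toAlgebra
  obtain ⟨U, hU⟩ := U
  refine (isLocalization_iff _ _).2 ⟨?_, ?_, ?_⟩
  · rintro ⟨a, ha'⟩
    have har := mem_regSub_of_nzd ha hU ha'
    refine IsUnit.of_mul_eq_one (⟨fun x => LocalizedModule.mk 1 (Mero.regGerm x ⟨a, har⟩),
      fun x => ⟨U, x.2, 𝟙 _, 1, ⟨a, har⟩, fun y => by rw [map_one]; rfl⟩⟩ : Γ(Mero.kmod X, U)) ?_
    refine Subtype.ext (funext fun x => ?_)
    show (LocalizedModule.mk (X.presheaf.germ U x.1 x.2 a) 1 : Mero.KStalk X x.1) *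
      LocalizedModule.mk 1 (Mero.regGerm x ⟨a, har⟩) = 1
    exact LocalizedModule.mk_mul_mk.trans ((Mero.mk_congr (by rw [mul_one]) (by rw [one_mul])).trans
      (Mero.mk_self_eq_one (Mero.regGerm x ⟨a, har⟩)))
  · intro f
    classical
    let G := (finite_maxPts hb hU).toFinset
    have hGU : ∀ {y}, y ∈ G → y ∈ U ∧ ∀ z : X, z ⤳ y → z = y := fun hy =>
      (finite_maxPts hb hU).mem_toFinset.1 hy
    -- a fraction at each maximal point, with denominator vanishing at the other maximal points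
    have hloc : ∀ y ∈ G, ∃ (e a : Γ(X, U)), y ∈ X.basicOpen e ∧ (∀ z ∈ G, z ≠ y → z ∉ X.basicOpen e) ∧
        ∀ hy : y ∈ U, (LocalizedModule.mk (X.presheaf.germ U y hy e) 1 : Mero.KStalk X y) * f.1 ⟨y, hy⟩ =
          LocalizedModule.mk (X.presheaf.germ U y hy a) 1 := by
      intro y hyG
      obtain ⟨hy, hm⟩ := hGU hyG
      obtain ⟨V, hyV, i, a, b, w⟩ := f.2 ⟨y, hy⟩
      obtain ⟨_, ⟨W, hW, rfl⟩, hyW, hWV⟩ := X.isBasis_affineOpens.exists_subset_of_mem_open hyV V.isOpen
      replace hWV : W ≤ V := hWV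
      have hbu : IsUnit (X.presheaf.germ V y hyV b.1) := by
        have := (X.mem_basicOpen _ y hyW).1 (mem_basicOpen_of_nzd hW
          (mem_nonZeroDivisors_of_regSub (Mero.regSub_res (homOfLE hWV) b.2)) hyW hm)
        rwa [TopCat.Presheaf.germ_res_apply] at this
      letI := TopCat.Presheaf.algebra_section_stalk X.presheaf (⟨y, hy⟩ : U)
      haveI := hU.isLocalization_stalk ⟨y, hy⟩
      obtain ⟨⟨a', e'⟩, he'⟩ := IsLocalization.surj (primeAt hU hy).primeCompl
        (X.presheaf.germ V y hyV a * hbu.unit⁻¹.1)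
      have hother : ∀ z ∈ G.erase y, ∃ r : Γ(X, U), y ∈ X.basicOpen r ∧ z ∉ X.basicOpen r := by
        intro z hz
        obtain ⟨hzne, hzG⟩ := Finset.mem_erase.1 hz
        obtain ⟨hzU, -⟩ := hGU hzG
        obtain ⟨r, hr, hr'⟩ := SetLike.not_le_iff_exists.1
          (mt (specializes_iff hU hzU hy).2 (fun hs => hzne (hm z hs)))
        exact ⟨r, (notMem_primeAt_iff hU hy r).1 hr', (mem_primeAt_iff hU hzU r).1 hr⟩
      choose! r hr hr' using hother
      refine ⟨e'.1 * ∏ z ∈ G.erase y, r z, a' * ∏ z ∈ G.erase y, r z, ?_, fun z hz hne hmem => ?_, fun _ => ?_⟩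
      · rw [← notMem_primeAt_iff hU hy]
        intro hmem
        haveI : (primeAt hU hy).IsPrime := (hU.primeIdealOf ⟨y, hy⟩).2
        rcases Ideal.IsPrime.mem_or_mem inferInstance hmem with h' | h'
        · exact e'.2 h'
        · obtain ⟨z, hz, hzr⟩ := (Ideal.IsPrime.prod_mem_iff (p := primeAt hU hy)).1 h'
          exact (mem_primeAt_iff hU hy _).1 hzr (hr z hz)
      · obtain ⟨c, hc⟩ : r z ∣ ∏ z ∈ G.erase y, r z := Finset.dvd_prod_of_mem _ (Finset.mem_erase.2 ⟨hne, hz⟩)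
        rw [hc, Scheme.basicOpen_mul, Scheme.basicOpen_mul] at hmem
        exact hr' z (Finset.mem_erase.2 ⟨hne, hz⟩) hmem.2.1
      · have w' : f.1 ⟨y, hy⟩ = LocalizedModule.mk (X.presheaf.germ V y hyV a) (Mero.regGerm ⟨y, hyV⟩ b) :=
          w ⟨y, hyV⟩
        rw [w']
        refine LocalizedModule.mk_mul_mk.trans (LocalizedModule.mk_eq.2 ⟨1, ?_⟩)
        simp only [one_smul, Submonoid.smul_def, smul_eq_mul, one_mul, map_mul]
        change X.presheaf.germ U y hy e'.1 * _ * _ = X.presheaf.germ V y hyV b.1 * _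
        have he : X.presheaf.germ V y hyV a * X.presheaf.germ U y hy e'.1 =
            X.presheaf.germ V y hyV b.1 * X.presheaf.germ U y hy a' := by
          have h1 : X.presheaf.germ U y hy a' =
              X.presheaf.germ V y hyV a * hbu.unit⁻¹.1 * X.presheaf.germ U y hy e'.1 := he'.symm
          rw [h1, show X.presheaf.germ V y hyV b.1 *
              (X.presheaf.germ V y hyV a * hbu.unit⁻¹.1 * X.presheaf.germ U y hy e'.1) =
              (X.presheaf.germ V y hyV b.1 * hbu.unit⁻¹.1) *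
              (X.presheaf.germ V y hyV a * X.presheaf.germ U y hy e'.1) by ring,
            hbu.mul_val_inv, one_mul]
        linear_combination (X.presheaf.germ U y hy (∏ z ∈ G.erase y, r z)) * he
    choose! e a he hother hfrac using hloc
    -- a uniform exponent
    have hnil : ∀ y ∈ G, ∀ z ∈ G, ∃ k : ℕ, z ≠ y → ∀ hz : z ∈ U, X.presheaf.germ U z hz (e y) ^ k = 0 := by
      intro y hy z hz
      obtain ⟨hzU, hzm⟩ := hGU hz
      by_cases hne : z = y
      · exact ⟨0, fun h => absurd hne h⟩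
      letI := TopCat.Presheaf.algebra_section_stalk X.presheaf (⟨z, hzU⟩ : U)
      haveI := hU.isLocalization_stalk ⟨z, hzU⟩
      have hmin : IsLocalRing.maximalIdeal (X.presheaf.stalk z) ∈ (⊥ : Ideal _).minimalPrimes := by
        rw [maximalIdeal_eq_map_primeAt hU hzU,
          ← Ideal.map_bot (f := algebraMap Γ(X, U) (X.presheaf.stalk z)),
          IsLocalization.minimalPrimes_map (primeAt hU hzU).primeCompl, Set.mem_preimage]
        have hd : Disjoint ((primeAt hU hzU).primeCompl : Set Γ(X, U)) (primeAt hU hzU : Set Γ(X, U)) :=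
          Set.disjoint_left.2 fun a ha hb => ha hb
        rw [show (X.presheaf.germ U z hzU).hom = algebraMap Γ(X, U) (X.presheaf.stalk z) from rfl,
          IsLocalization.comap_map_of_isPrime_disjoint _ _ (hU.primeIdealOf ⟨z, hzU⟩).2 hd]
        exact (mem_minimalPrimes_iff hU hzU).2 hzm
      have hmem : X.presheaf.germ U z hzU (e y) ∈ (⊥ : Ideal (X.presheaf.stalk z)).radical := by
        rw [(CAlgH3.radical_eq_maximalIdeal_iff _).2 hmin, germ_mem_maximalIdeal_iff hU hzU,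
          mem_primeAt_iff]
        exact hother y hy z hz hne
      obtain ⟨k, hk⟩ := hmem
      exact ⟨k, fun _ _ => hk⟩
    choose! k hk using hnil
    let N := G.sup (fun y => G.sup (k y))
    let B : Γ(X, U) := ∑ y ∈ G, e y ^ (N + 1)
    let A : Γ(X, U) := ∑ y ∈ G, a y * e y ^ N
    have hzero : ∀ (z : X) (hz : z ∈ U) (hzG : z ∈ G) (y : X), y ∈ G → y ≠ z →
        X.presheaf.germ U z hz (e y) ^ N = 0 := fun z hz hzG y hy hne =>
      pow_eq_zero_of_le ((Finset.le_sup (f := k y) hzG).trans (Finset.le_sup (f := fun y => G.sup (k y)) hy))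
        (hk y hy z hzG (Ne.symm hne) hz)
    have hgB : ∀ (z : X) (hz : z ∈ U), z ∈ G →
        X.presheaf.germ U z hz B = X.presheaf.germ U z hz (e z) ^ (N + 1) := fun z hz hzG => by
      simp only [B, map_sum, map_pow]
      exact Finset.sum_eq_single z (fun y hy hne => by rw [pow_succ, hzero z hz hzG y hy hne, zero_mul])
        (fun h => absurd hzG h)
    have hgA : ∀ (z : X) (hz : z ∈ U), z ∈ G →
        X.presheaf.germ U z hz A = X.presheaf.germ U z hz (a z) * X.presheaf.germ U z hz (e z) ^ N :=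
      fun z hz hzG => by
      simp only [A, map_sum, map_mul, map_pow]
      exact Finset.sum_eq_single z (fun y hy hne => by rw [hzero z hz hzG y hy hne, mul_zero])
        (fun h => absurd hzG h)
    have hBr : B ∈ nonZeroDivisors Γ(X, U) := by
      refine mem_nonZeroDivisors_of_regSub (mem_regSub_of_maxPts ha hU B fun z hz hm => ?_)
      have hzG : z ∈ G := (finite_maxPts hb hU).mem_toFinset.2 ⟨hz, hm⟩
      rw [Scheme.mem_basicOpen _ _ _ hz, hgB z hz hzG]
      exact ((X.mem_basicOpen _ z hz).1 (he z hzG)).pow _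
    refine ⟨(A, ⟨B, hBr⟩), sub_eq_zero.1 (kmod_ext ha _ fun y hm => ?_)⟩
    have hyG : y.1 ∈ G := (finite_maxPts hb hU).mem_toFinset.2 ⟨y.2, hm⟩
    show Mero.evalK X U y (f * Mero.toK X U B - Mero.toK X U A) = 0
    rw [map_sub, map_mul, sub_eq_zero]
    show f.1 y * LocalizedModule.mk (X.presheaf.germ U y.1 y.2 B) 1 = LocalizedModule.mk (X.presheaf.germ U y.1 y.2 A) 1
    rw [hgB y.1 y.2 hyG, hgA y.1 y.2 hyG, pow_succ]
    have h1 := hfrac y.1 hyG y.2
    have h2 : ∀ p q : X.presheaf.stalk y.1, (LocalizedModule.mk (p * q) 1 : Mero.KStalk X y.1) =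
        LocalizedModule.mk p 1 * LocalizedModule.mk q 1 := fun p q =>
      (Mero.mk_congr rfl (by rw [one_mul])).trans LocalizedModule.mk_mul_mk.symm
    rw [h2, h2, ← h1]
    ring
  · intro a b hab
    refine ⟨1, ?_⟩
    congr 1
    apply TopCat.Presheaf.section_ext X.sheaf
    intro x hx
    show X.presheaf.germ U x hx a = X.presheaf.germ U x hx b
    rw [← sub_eq_zero, ← mk_eq_zero_iff _ (1 : Mero.regStalk X x)]
    have hx' : (Mero.toK X U a).1 ⟨x, hx⟩ = (Mero.toK X U b).1 ⟨x, hx⟩ := congrArg (fun g => g.1 ⟨x, hx⟩) hab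
    simp only [Mero.toK_apply] at hx'
    have h3 : ∀ p q : X.presheaf.stalk x, (LocalizedModule.mk (p - q) 1 : Mero.KStalk X x) =
        LocalizedModule.mk p 1 - LocalizedModule.mk q 1 := fun p q =>
      map_sub (LocalizedModule.mkLinearMap (Mero.regStalk X x) (X.presheaf.stalk x)) p q
    rw [h3, hx', sub_self]

end conditions

end Groth.Agent.SDiv28
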