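import Groth.Agent.MeroLib.Basic
import Groth.Agent.SDiv28.MeroReg
import Mathlib

/-!
# Meromorphic functions on locally Noetherian schemes
-/

set_option autoImplicit false
set_option backward.isDefEq.respectTransparency.types false
universe u

open CategoryTheory AlgebraicGeometry Opposite TopologicalSpace
open Groth.Agent.AssSch12 Groth.Agent.MeroLib

namespace Groth.Agent.SDiv28.Noeth

variable {X : Scheme.{u}} [IsLocallyNoetherian X]

theorem regStalk_eq (x : X) : Mero.regStalk X x = nonZeroDivisors (X.presheaf.stalk x) := by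
  refine le_antisymm (Mero.regStalk_le_nonZeroDivisors x) fun g hg => ?_
  obtain ⟨V, hxV, a₀, rfl⟩ := X.presheaf.exists_germ_eq g
  obtain ⟨W, hW, hxW, hWV⟩ := exists_affine hxV
  rw [← TopCat.Presheaf.germ_res_apply X.presheaf (homOfLE hWV) x hxW] at hg ⊢
  let a : Γ(X, W) := X.presheaf.map (homOfLE hWV).op a₀
  have hnoeth : IsNoetherianRing Γ(X, W) := IsLocallyNoetherian.component_noetherian ⟨W, hW⟩
  let K : Ideal Γ(X, W) := LinearMap.ker (LinearMap.mulRight Γ(X, W) a)
  have hK : ∀ k, k ∈ K ↔ k * a = 0 := fun k => LinearMap.mem_ker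
  classical
  obtain ⟨S, hS⟩ := (isNoetherianRing_iff_ideal_fg _).1 hnoeth K
  have hkill : ∀ k ∈ S, ∃ t : Γ(X, W), t ∉ primeAt hW hxW ∧ t * k = 0 := by
    intro k hk
    have h1 : X.presheaf.germ W x hxW k = 0 := by
      refine mem_nonZeroDivisors_iff_right.1 hg _ ?_
      rw [← map_mul, (hK k).1 (hS ▸ Submodule.subset_span hk), map_zero]
    letI := TopCat.Presheaf.algebra_section_stalk X.presheaf (⟨x, hxW⟩ : W)
    haveI := hW.isLocalization_stalk ⟨x, hxW⟩
    obtain ⟨⟨t, ht⟩, e⟩ := (IsLocalization.map_eq_zero_iff (primeAt hW hxW).primeCompl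
      (X.presheaf.stalk x) k).1 h1
    exact ⟨t, ht, e⟩
  choose! t htp htk using hkill
  let s := ∏ k ∈ S, t k
  have hsp : s ∉ primeAt hW hxW := fun h => by
    haveI : (primeAt hW hxW).IsPrime := (hW.primeIdealOf ⟨x, hxW⟩).2
    obtain ⟨k, hk, hm⟩ := Ideal.IsPrime.prod_mem_iff.1 h
    exact htp k hk hm
  have hsK : ∀ k ∈ K, s * k = 0 := by
    intro k hk
    rw [← hS] at hk
    induction hk using Submodule.span_induction with
    | mem k hk =>
      show (∏ j ∈ S, t j) * k = 0
      rw [← Finset.prod_erase_mul S t hk, mul_assoc, htk k hk, mul_zero]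
    | zero => rw [mul_zero]
    | add p q _ _ hp hq => rw [mul_add, hp, hq, add_zero]
    | smul c p _ hp => rw [smul_eq_mul, mul_left_comm, hp, mul_zero]
  have hxs : x ∈ X.basicOpen s := (notMem_primeAt_iff hW hxW s).1 hsp
  refine ⟨X.basicOpen s, hxs, X.presheaf.map (homOfLE (X.basicOpen_le s)).op a, ?_,
    TopCat.Presheaf.germ_res_apply _ _ _ _ _⟩
  rw [regSub_eq_of_isAffineOpen (hW.basicOpen s)]
  haveI := hW.isLocalization_basicOpen s
  rw [mem_nonZeroDivisors_iff_right]
  intro z hz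
  obtain ⟨⟨w, u⟩, hw⟩ := IsLocalization.surj (Submonoid.powers s) z
  have h0 : algebraMap Γ(X, W) Γ(X, X.basicOpen s) (w * a) = 0 := by
    rw [map_mul, ← hw]
    show z * algebraMap _ _ (u : Γ(X, W)) * X.presheaf.map (homOfLE (X.basicOpen_le s)).op a = 0
    rw [mul_right_comm, hz, zero_mul]
  obtain ⟨⟨_, m, rfl⟩, hm⟩ := (IsLocalization.map_eq_zero_iff (Submonoid.powers s) _ _).1 h0
  have h1 : s * (s ^ m * w) = 0 := hsK _ ((hK _).2 (by rw [mul_assoc]; exact hm))
  have h2 : algebraMap Γ(X, W) Γ(X, X.basicOpen s) w = 0 :=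
    (IsLocalization.map_eq_zero_iff (Submonoid.powers s) _ _).2
      ⟨⟨s ^ (m + 1), m + 1, rfl⟩, by show s ^ (m + 1) * w = 0; rw [pow_succ', mul_assoc, h1]⟩
  exact (IsLocalization.map_units _ u).mul_left_eq_zero.1 (hw.trans h2)

theorem isUnit_germ_of_weak {x : X}
    (hx : IsAssociatedPrime (IsLocalRing.maximalIdeal (X.presheaf.stalk x)) (X.presheaf.stalk x))
    {g : X.presheaf.stalk x} (hg : g ∈ nonZeroDivisors (X.presheaf.stalk x)) : IsUnit g := by
  by_contra hu
  obtain ⟨hp, z, hz⟩ := hx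
  have hgm : g ∈ IsLocalRing.maximalIdeal (X.presheaf.stalk x) := hu
  rw [hz] at hgm
  obtain ⟨n, hn⟩ := hgm
  simp only [Submodule.mem_colon_singleton, smul_eq_mul, Submodule.mem_bot] at hn
  have hz0 : z = 0 := mem_nonZeroDivisors_iff_left.1 (pow_mem hg n) z hn
  refine hp.ne_top ?_
  rw [hz, hz0]
  simp [Ideal.eq_top_iff_one, Ideal.mem_radical_iff]

theorem isLocalization_kmod (U : X.affineOpens) :
    @IsLocalization Γ(X, U.1) _ (nonZeroDivisors Γ(X, U.1)) Γ(Mero.kmod X, U.1) _
      (Mero.toK X U.1).toAlgebra := by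
  letI := (Mero.toK X U.1).toAlgebra
  obtain ⟨U, hU⟩ := U
  haveI : IsNoetherianRing Γ(X, U) := IsLocallyNoetherian.component_noetherian ⟨U, hU⟩
  refine (isLocalization_iff _ _).2 ⟨?_, ?_, ?_⟩
  · rintro ⟨a, ha⟩
    have har : a ∈ Mero.regSub X U := by rwa [regSub_eq_of_isAffineOpen hU]
    refine IsUnit.of_mul_eq_one (⟨fun x => LocalizedModule.mk 1 (Mero.regGerm x ⟨a, har⟩),
      fun x => ⟨U, x.2, 𝟙 _, 1, ⟨a, har⟩, fun y => by rw [map_one]; rfl⟩⟩ : Γ(Mero.kmod X, U)) ?_
    refine Subtype.ext (funext fun x => ?_)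
    show (LocalizedModule.mk (X.presheaf.germ U x.1 x.2 a) 1 : Mero.KStalk X x.1) *
      LocalizedModule.mk 1 (Mero.regGerm x ⟨a, har⟩) = 1
    exact LocalizedModule.mk_mul_mk.trans ((Mero.mk_congr (by rw [mul_one]) (by rw [one_mul])).trans
      (Mero.mk_self_eq_one (Mero.regGerm x ⟨a, har⟩)))
  · intro f
    let J : Ideal Γ(X, U) :=
      { carrier := {b | ∀ x : U, algebraMap _ (Mero.KStalk X x.1) (X.presheaf.germ U x.1 x.2 b) * f.1 x ∈
          (algebraMap (X.presheaf.stalk x.1) (Mero.KStalk X x.1)).range}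
        add_mem' := fun {p q} hp hq x => by
          rw [map_add, map_add, add_mul]; exact add_mem (hp x) (hq x)
        zero_mem' := fun x => by rw [map_zero, map_zero, zero_mul]; exact zero_mem _
        smul_mem' := fun c p hp x => by
          rw [smul_eq_mul, map_mul, map_mul, mul_assoc]
          exact mul_mem ⟨_, rfl⟩ (hp x) }
    obtain ⟨b, hbJ, hb⟩ : ∃ b ∈ J, b ∈ nonZeroDivisors Γ(X, U) := by
      by_contra hcon
      push Not at hcon
      have hsub : (J : Set Γ(X, U)) ⊆
          ⋃ q ∈ ((associatedPrimes.finite Γ(X, U) Γ(X, U)).toFinset : Set (Ideal Γ(X, U))), (q : Set _) := by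
        intro b hb
        rw [Set.Finite.coe_toFinset, biUnion_associatedPrimes_eq_compl_nonZeroDivisors]
        exact hcon b hb
      obtain ⟨q, hq, hJq⟩ := (Ideal.subset_union_prime ⊤ ⊤ (fun q hq _ _ =>
        ((associatedPrimes.finite Γ(X, U) Γ(X, U)).mem_toFinset.1 hq).1)).1 hsub
      rw [Set.Finite.mem_toFinset] at hq
      have : q.IsPrime := hq.1
      obtain ⟨y, hy, hyq⟩ := exists_point hU q
      subst hyq
      have hass := (isAssociatedPrime_stalk_iff hU hy).2 (mem_weakAss_of_isAssociatedPrime hq)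
      -- near `y` the section is a function
      have hrange : f.1 ⟨y, hy⟩ ∈ (algebraMap (X.presheaf.stalk y) (Mero.KStalk X y)).range := by
        obtain ⟨W, hWU, hW, hyW, a, b, w⟩ := exists_fraction f hy
        obtain ⟨v, hv⟩ := (isUnit_germ_of_weak hass (b.2 ⟨y, hyW⟩)).exists_right_inv
        refine ⟨X.presheaf.germ W y hyW a * v, ?_⟩
        rw [map_mul, ← w y hyW, mul_assoc, ← map_mul, hv, map_one, mul_one]
      obtain ⟨W', hW'U, hyW', r, hr⟩ := exists_toK_near f hy hrange
      obtain ⟨g, hgW, hyg⟩ := hU.exists_basicOpen_le ⟨y, hyW'⟩ hy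
      haveI := hU.isLocalization_basicOpen g
      obtain ⟨⟨t₀, _, n, rfl⟩, ht₀⟩ := IsLocalization.surj (Submonoid.powers g)
        (X.presheaf.map (homOfLE hgW).op r)
      have loc : ∀ x : U, ∃ (W : X.Opens), x.1 ∈ W ∧ ∃ k : ℕ, ∀ (z : X) (_ : z ∈ W) (hzU : z ∈ U),
          algebraMap _ (Mero.KStalk X z) (X.presheaf.germ U z hzU (g ^ (k + n))) * f.1 ⟨z, hzU⟩ =
            algebraMap _ _ (X.presheaf.germ U z hzU (g ^ k * t₀)) := by
        intro x
        obtain ⟨W, hWU, hW, hxW, a, b, w⟩ := exists_fraction f x.2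
        let ρ := X.presheaf.map (homOfLE hWU).op
        let δ : Γ(X, W) := ρ (g ^ n) * a - ρ t₀ * b.1
        have hδ : X.presheaf.map (homOfLE (X.basicOpen_le (ρ g))).op δ = 0 := by
          refine section_ext fun z hz => ?_
          have hzW : z ∈ W := X.basicOpen_le _ hz
          have hzg : z ∈ X.basicOpen g := by
            have h1 := hz
            rw [Scheme.basicOpen_res] at h1
            exact h1.2
          rw [TopCat.Presheaf.germ_res_apply, map_zero, map_sub, map_mul, map_mul, sub_eq_zero,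
            TopCat.Presheaf.germ_res_apply, TopCat.Presheaf.germ_res_apply]
          refine Mero.algebraMap_KStalk_injective z ?_
          have e1 := congrArg (X.presheaf.germ (X.basicOpen g) z hzg) ht₀
          rw [map_mul] at e1
          erw [TopCat.Presheaf.germ_res_apply, TopCat.Presheaf.germ_res_apply,
            TopCat.Presheaf.germ_res_apply] at e1
          rw [map_mul, map_mul, ← w z hzW, hr z (hgW hzg), ← e1, map_mul]
          ring
        haveI := hW.isLocalization_basicOpen (ρ g)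
        obtain ⟨⟨_, k, rfl⟩, hk⟩ :=
          (IsLocalization.map_eq_zero_iff (Submonoid.powers (ρ g)) Γ(X, X.basicOpen (ρ g)) δ).1 hδ
        refine ⟨W, hxW, k, fun z hzW hzU => ?_⟩
        have h2 := congrArg (X.presheaf.germ W z hzW) hk
        simp only [δ, ρ, map_mul, map_sub, map_pow, map_zero, TopCat.Presheaf.germ_res_apply,
          mul_sub, sub_eq_zero] at h2
        have h3 := congrArg (algebraMap (X.presheaf.stalk z) (Mero.KStalk X z)) h2
        have hbu : IsUnit (algebraMap (X.presheaf.stalk z) (Mero.KStalk X z)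
            (X.presheaf.germ W z hzW b.1)) :=
          IsLocalization.map_units _ (Mero.regGerm ⟨z, hzW⟩ b)
        rw [← hbu.mul_left_inj, mul_assoc, w z hzW]
        simp only [map_mul, map_pow, pow_add] at h3 ⊢
        linear_combination h3
      choose W hxW k hk using loc
      obtain ⟨T, hT⟩ := hU.isCompact.elim_finite_subcover (fun x => (W x : Set X)) (fun x => (W x).2)
        fun z hz => Set.mem_iUnion.2 ⟨⟨z, hz⟩, hxW _⟩
      have hgJ : g ^ (T.sup k + n) ∈ J := by
        intro x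
        obtain ⟨i, hi, hxi⟩ := Set.mem_iUnion₂.1 (hT x.2)
        obtain ⟨d, hd⟩ := Nat.le.dest (Finset.le_sup (f := k) hi)
        rw [← hd, show g ^ (k i + d + n) = g ^ d * g ^ (k i + n) by ring, map_mul, map_mul, mul_assoc,
          hk i x.1 hxi x.2, ← map_mul, ← map_mul]
        exact ⟨_, rfl⟩
      haveI : (primeAt hU hy).IsPrime := (hU.primeIdealOf ⟨y, hy⟩).2
      exact (notMem_primeAt_iff hU hy g).2 hyg (Ideal.IsPrime.mem_of_pow_mem ‹_› _ (hJq hgJ))
    obtain ⟨r, hr⟩ := exists_toK_eq (Mero.toK X U b * f) fun x => by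
      rw [Mero.kmod_mul_apply, toK_val]
      exact hbJ x
    exact ⟨⟨r, ⟨b, hb⟩⟩, (mul_comm _ _).trans hr.symm⟩
  · intro a c h
    exact ⟨1, by rw [toK_injective U h]⟩

end Groth.Agent.SDiv28.Noeth
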