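import Groth.Agent.AssSch12.Push
import Groth.Agent.CAlgH3.WeakAss
import Groth.Prelude.Def_CurvBase
import Groth.Prelude.Def_CohB1
import Groth.Agent.Coherent.QcohOps
import Mathlib

/-!
# Weakly associated points of quasi-coherent modules on an arbitrary scheme
-/

set_option autoImplicit false
set_option backward.isDefEq.respectTransparency.types false
universe u

open CategoryTheory AlgebraicGeometry Opposite TopologicalSpace
open Groth.Agent.QCohLoc Groth.Agent.AssSch12
open Groth.Agent.CAlgH3 (annEl mem_annEl)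

namespace Groth.Agent.SDiv28

variable {X : Scheme.{u}} (M : X.Modules)

theorem ker_toSpanSingleton_eq {R : Type u} [CommRing R] {N : Type u} [AddCommGroup N] [Module R N] (m : N) :
    LinearMap.ker (LinearMap.toSpanSingleton R N m) = annEl R m := by
  ext r; rw [LinearMap.mem_ker, mem_annEl]; rfl

theorem isWeakAssPoint_iff_mem_weakAss (x : X) :
    Curv2.IsWeakAssPoint M x ↔ IsLocalRing.maximalIdeal (X.presheaf.stalk x) ∈
      FlatCA.weakAss (X.presheaf.stalk x) (M.presheaf.stalk x) := by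
  rw [CAlgH3.mem_weakAss]
  refine exists_congr fun m => ?_
  rw [← CAlgH3.radical_eq_maximalIdeal_iff]
  exact ⟨fun h => by rw [← ker_toSpanSingleton_eq]; exact h, fun h => (congrArg Ideal.radical (ker_toSpanSingleton_eq m)).trans h⟩

theorem isWeakAssPoint_iff_isAssPoint (x : X) : Curv2.IsWeakAssPoint M x ↔ Curv2.IsAssPoint M x := by
  have e : ∀ m : M.presheaf.stalk x,
      LinearMap.ker (LinearMap.toSpanSingleton (X.presheaf.stalk x) _ m) =
        (⊥ : Submodule (X.presheaf.stalk x) (M.presheaf.stalk x)).colon {m} := fun m => by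
    rw [ker_toSpanSingleton_eq, CAlgH3.colon_bot_singleton]
  constructor
  · rintro ⟨m, hm⟩
    exact ⟨(IsLocalRing.maximalIdeal.isMaximal _).isPrime, m, by rw [← hm, e]⟩
  · rintro ⟨-, m, hm⟩
    exact ⟨m, by rw [e, ← hm]⟩

variable [M.IsQuasicoherent] {U : X.Opens} (hU : IsAffineOpen U) {x : X} (hx : x ∈ U)

/-- Weakly associated points on an affine open. -/
theorem isWeakAssPoint_iff :
    Curv2.IsWeakAssPoint M x ↔ primeAt hU hx ∈ FlatCA.weakAss Γ(X, U) Γ(M, U) := by
  rw [isWeakAssPoint_iff_mem_weakAss]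
  letI := TopCat.Presheaf.algebra_section_stalk X.presheaf (⟨x, hx⟩ : U)
  haveI := hU.isLocalization_stalk ⟨x, hx⟩
  letI : Module Γ(X, U) (M.presheaf.stalk x) :=
    Module.compHom _ (algebraMap Γ(X, U) (X.presheaf.stalk x))
  haveI : IsScalarTower Γ(X, U) (X.presheaf.stalk x) (M.presheaf.stalk x) :=
    IsScalarTower.of_compHom _ _ _
  let γ : Γ(M, U) →ₗ[Γ(X, U)] M.presheaf.stalk x :=
    { toFun := M.presheaf.germ U x hx
      map_add' := fun a b => map_add _ a b
      map_smul' := fun r m => germ_smul' M hx r m }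
  haveI : IsLocalizedModule (primeAt hU hx).primeCompl γ := by
    refine ⟨fun ⟨r, hr⟩ => ?_, fun z => ?_, fun {a b} hab => ?_⟩
    · rw [Module.End.isUnit_iff]
      have hu : IsUnit (algebraMap Γ(X, U) (X.presheaf.stalk x) r) :=
        IsLocalization.map_units (X.presheaf.stalk x) (⟨r, hr⟩ : (primeAt hU hx).primeCompl)
      exact hu.smul_bijective
    · obtain ⟨f, m, hf, hm⟩ := exists_smul_stalk_eq_germ M hU hx z
      exact ⟨⟨m, ⟨f, (notMem_primeAt_iff hU hx f).2 hf⟩⟩, hm⟩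
    · obtain ⟨f, hf, hfm⟩ := exists_smul_eq_zero_of_germ M hU hx (a - b) (by
        rw [map_sub]; exact sub_eq_zero.2 hab)
      exact ⟨⟨f, (notMem_primeAt_iff hU hx f).2 hf⟩, sub_eq_zero.1 ((smul_sub f a b).symm.trans hfm)⟩
  have hd : Disjoint ((primeAt hU hx).primeCompl : Set Γ(X, U)) (primeAt hU hx : Set Γ(X, U)) :=
    Set.disjoint_left.2 fun a ha hb => ha hb
  rw [CAlgH3.weakAss_localized_iff (primeAt hU hx).primeCompl (A := X.presheaf.stalk x) γ _
    (hU.primeIdealOf ⟨x, hx⟩).2 hd]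
  rw [maximalIdeal_eq_map_primeAt hU hx]
  exact Iff.rfl

include hU in
/-- A section with nonzero germ at `x` is witnessed by a weakly associated point generalising `x`. -/
theorem exists_weakAss_of_germ_ne_zero (s : Γ(M, U)) (hs : M.presheaf.germ U x hx s ≠ 0) :
    ∃ (y : X) (hy : y ∈ U), y ⤳ x ∧ Curv2.IsWeakAssPoint M y ∧ M.presheaf.germ U y hy s ≠ 0 := by
  have hgerm : ∀ {y : X} (hy : y ∈ U), M.presheaf.germ U y hy s ≠ 0 ↔
      annEl Γ(X, U) s ≤ primeAt hU hy := by
    intro y hy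
    refine ⟨fun h r hr => ?_, fun h h0 => ?_⟩
    · rw [mem_primeAt_iff]
      exact fun hr' => h (germ_eq_zero_of_smul_eq_zero hy M hr' (mem_annEl.1 hr))
    · obtain ⟨f, hf, hfs⟩ := exists_smul_eq_zero_of_germ M hU hy s h0
      exact (mem_primeAt_iff hU hy f).1 (h (mem_annEl.2 hfs)) hf
  haveI : (primeAt hU hx).IsPrime := (hU.primeIdealOf ⟨x, hx⟩).2
  obtain ⟨q, hq, hqle⟩ := Ideal.exists_minimalPrimes_le ((hgerm hx).1 hs)
  haveI := hq.1.1
  obtain ⟨y, hy, rfl⟩ := exists_point hU q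
  exact ⟨y, hy, (specializes_iff hU hy hx).2 hqle, (isWeakAssPoint_iff M hU hy).2 ⟨s, hq⟩,
    (hgerm hy).2 hq.1.2⟩

omit hU hx in
theorem eq_zero_of_germ_weakAss {V : X.Opens} (s : Γ(M, V))
    (h : ∀ (y : X) (hy : y ∈ V), Curv2.IsWeakAssPoint M y → M.presheaf.germ V y hy s = 0) : s = 0 := by
  apply TopCat.Presheaf.section_ext (F := (⟨M.presheaf, M.isSheaf⟩ : TopCat.Sheaf Ab X))
  intro z hz
  rw [map_zero]
  by_contra hne
  obtain ⟨_, ⟨W, hW, rfl⟩, hzW, hWV⟩ :=
    X.isBasis_affineOpens.exists_subset_of_mem_open hz V.isOpen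
  have hne' : M.presheaf.germ W z hzW (M.presheaf.map (homOfLE (show W ≤ V from hWV)).op s) ≠ 0 := by
    rw [TopCat.Presheaf.germ_res_apply]; exact hne
  obtain ⟨y, hy, -, hya, hy0⟩ := exists_weakAss_of_germ_ne_zero M hW hzW _ hne'
  rw [TopCat.Presheaf.germ_res_apply] at hy0
  exact hy0 (h y (hWV hy) hya)

omit hU hx in
theorem map_top_injective (W : X.Opens) (hW : ∀ y : X, Curv2.IsWeakAssPoint M y → y ∈ W) :
    Function.Injective (M.presheaf.map (homOfLE (le_top : W ≤ ⊤)).op) := by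
  rw [injective_iff_map_eq_zero]
  intro s hs
  refine eq_zero_of_germ_weakAss M s fun y hy hya => ?_
  have h1 := congr(M.presheaf.germ W y (hW y hya) $hs)
  rw [map_zero, TopCat.Presheaf.germ_res_apply] at h1
  exact h1

omit hU hx in
theorem isWeakAssPoint_of_mem_support_maximal {x : X} (hx : x ∈ CohB1.support M)
    (hmax : ∀ y : X, y ∈ CohB1.support M → y ⤳ x → y = x) : Curv2.IsWeakAssPoint M x := by
  obtain ⟨m, hm⟩ : ∃ m : M.presheaf.stalk x, m ≠ 0 := by
    by_contra hcon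
    push Not at hcon
    exact hx (subsingleton_of_forall_eq 0 hcon)
  obtain ⟨V, hxV, t, rfl⟩ := M.presheaf.exists_germ_eq m
  obtain ⟨_, ⟨W, hW, rfl⟩, hxW, hWV⟩ :=
    X.isBasis_affineOpens.exists_subset_of_mem_open hxV V.isOpen
  have hne : M.presheaf.germ W x hxW (M.presheaf.map (homOfLE (show W ≤ V from hWV)).op t) ≠ 0 := by
    rw [TopCat.Presheaf.germ_res_apply]; exact hm
  obtain ⟨y, hy, hyx, hya, hy0⟩ := exists_weakAss_of_germ_ne_zero M hW hxW _ hne
  have : y = x := hmax y (fun hsub => hy0 (Subsingleton.elim _ _)) hyx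
  exact this ▸ hya

section push

variable {X S : Scheme.{u}} (f : X ⟶ S) [IsAffineHom f] (F : X.Modules) [F.IsQuasicoherent]

theorem annEl_push {V : S.Opens} (m : Γ(F, f ⁻¹ᵁ V)) :
    annEl Γ(S, V) (show Γ((Coh.push f).obj F, V) from m) =
      (annEl Γ(X, f ⁻¹ᵁ V) m).comap (f.app V).hom := by
  ext r
  rw [Ideal.mem_comap, mem_annEl, mem_annEl, push_smul]
  exact Iff.rfl

omit [IsAffineHom f] in
theorem comap_primeAt {V : S.Opens} (hV : IsAffineOpen V) (hW : IsAffineOpen (f ⁻¹ᵁ V)) {x : X}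
    (hx : x ∈ f ⁻¹ᵁ V) :
    (primeAt hW hx).comap (f.app V).hom = primeAt hV (show f x ∈ V from hx) := by
  ext r
  rw [Ideal.mem_comap, mem_primeAt_iff, mem_primeAt_iff, ← Scheme.preimage_basicOpen]
  exact Iff.rfl

omit f F in
theorem eq_of_primeAt_eq {X : Scheme.{u}} {V : X.Opens} (hV : IsAffineOpen V) {x y : X} (hx : x ∈ V)
    (hy : y ∈ V) (h : primeAt hV hx = primeAt hV hy) : x = y := by
  have := congrArg hV.fromSpec (PrimeSpectrum.ext h :
    hV.primeIdealOf ⟨x, hx⟩ = hV.primeIdealOf ⟨y, hy⟩)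
  rwa [hV.fromSpec_primeIdealOf, hV.fromSpec_primeIdealOf] at this

/-- Weakly associated points of `f_* F` for affine `f` are images of weakly associated points of `F`. -/
theorem weakAss_push_subset {s : S}
    (hs : Curv2.IsWeakAssPoint ((Scheme.Modules.pushforward f).obj F) s) :
    ∃ x : X, f x = s ∧ Curv2.IsWeakAssPoint F x := by
  haveI : ((Coh.push f).obj F).IsQuasicoherent := Coherent.isQCoh_push f F
  obtain ⟨_, ⟨V, hV, rfl⟩, hsV, -⟩ :=
    S.isBasis_affineOpens.exists_subset_of_mem_open (Set.mem_univ s) isOpen_univ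
  have hW : IsAffineOpen (f ⁻¹ᵁ V) := hV.preimage f
  obtain ⟨m, hm⟩ := CAlgH3.mem_weakAss.1 ((isWeakAssPoint_iff ((Coh.push f).obj F) hV hsV).1 hs)
  rw [annEl_push f F m] at hm
  obtain ⟨q, hq, hqc⟩ := Ideal.exists_minimalPrimes_comap_eq _ _ hm
  haveI := hq.1.1
  obtain ⟨x, hx, rfl⟩ := exists_point hW q
  refine ⟨x, eq_of_primeAt_eq hV (show f x ∈ V from hx) hsV ?_, (isWeakAssPoint_iff F hW hx).2 ⟨m, hq⟩⟩
  rw [← hqc, comap_primeAt]

/-- For `X` locally Noetherian and `f` affine, associated points map to weakly associated points of `f_* F`. -/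
theorem weakAss_push_of_weakAss [IsLocallyNoetherian X] {x : X} (hx : Curv2.IsWeakAssPoint F x) :
    Curv2.IsWeakAssPoint ((Scheme.Modules.pushforward f).obj F) (f x) := by
  haveI : ((Coh.push f).obj F).IsQuasicoherent := Coherent.isQCoh_push f F
  obtain ⟨_, ⟨V, hV, rfl⟩, hxV, -⟩ :=
    S.isBasis_affineOpens.exists_subset_of_mem_open (Set.mem_univ (f x)) isOpen_univ
  have hW : IsAffineOpen (f ⁻¹ᵁ V) := hV.preimage f
  haveI := isNoetherianRing_of_isAffineOpen hW
  obtain ⟨hp, m, hm⟩ := CAlgH3.mem_ass.1 (CAlgH3.mem_ass_of_mem_weakAss_of_fg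
    (IsNoetherian.noetherian _) ((isWeakAssPoint_iff F hW hxV).1 hx))
  refine (isWeakAssPoint_iff ((Coh.push f).obj F) hV hxV).2
    ⟨(show Γ((Coh.push f).obj F, V) from m), (congrArg Ideal.minimalPrimes (annEl_push f F m)).ge ?_⟩
  rw [← comap_primeAt f hV hW hxV, ← hm]
  haveI : ((primeAt hW hxV).comap (f.app V).hom).IsPrime := Ideal.comap_isPrime _ _
  rw [Ideal.minimalPrimes_eq_subsingleton_self]
  rfl

end push

end Groth.Agent.SDiv28
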