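import Groth.Agent.SDiv28.DepthTwo
import Groth.Agent.AssSch12.TensorGlobal
import Groth.Agent.Coherent.Devissage
import Groth.Agent.ModStalk.Exact
import Mathlib

/-!
# An isomorphism criterion by depth two
-/

set_option autoImplicit false
set_option backward.isDefEq.respectTransparency.types false
universe u

open CategoryTheory CategoryTheory.Limits AlgebraicGeometry Opposite TopologicalSpace
open Groth.Agent.QCohLoc Groth.Agent.AssSch12

namespace Groth.Agent.SDiv28

variable {X : Scheme.{u}} [IsLocallyNoetherian X] {F G : X.Modules} (φ : F ⟶ G)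

local notation "St" => DerSch.stalkFunctor X

/-- A morphism from a coherent module is an isomorphism if at every point it is one on stalks or the
depth of the source is at least two and the point is not associated to the target. -/
theorem isIso_of_stalk_iso_or_two_le_depth (hF : Coh.IsCoh F) (hG : Coh.IsQCoh G)
    (h : ∀ x : X, Function.Bijective ((St x).map φ) ∨
      ((2 : ℕ∞) ≤ LocCoh.depth (X.presheaf.stalk x) (F.presheaf.stalk x) ∧ x ∉ AssSch.Ass G)) :
    IsIso φ := by
  haveI : F.IsQuasicoherent := hF.1
  haveI : G.IsQuasicoherent := hG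
  have hinj : ∀ x : X, Function.Injective ((St x).map φ) := by
    intro x
    refine (injective_iff_map_eq_zero ((St x).map φ).hom).2 fun z hz => ?_
    by_contra hz0
    obtain ⟨_, ⟨V, hV, rfl⟩, hxV, -⟩ :=
      X.isBasis_affineOpens.exists_subset_of_mem_open (Set.mem_univ x) isOpen_univ
    obtain ⟨g, m, hg, hm⟩ := exists_smul_stalk_eq_germ F hV hxV (show F.presheaf.stalk x from z)
    have hφm : G.presheaf.germ V x hxV (φ.app V m) = 0 := by
      rw [← Coherent.stalk_map_germ φ hxV m, ← hm]
      exact (((St x).map φ).hom.map_smul _ z).trans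
        ((congrArg (HSMul.hSMul (X.presheaf.germ V x hxV g)) hz).trans (smul_zero _))
    obtain ⟨f, hf, hfm⟩ := exists_smul_eq_zero_of_germ G hV hxV _ hφm
    have hne : F.presheaf.germ V x hxV (f • m) ≠ 0 := by
      rw [germ_smul', ← hm]
      exact fun h0 => hz0 (((Scheme.mem_basicOpen _ _ _ hxV).1 hg).smul_eq_zero.1
        (((Scheme.mem_basicOpen _ _ _ hxV).1 hf).smul_eq_zero.1 h0))
    obtain ⟨T, -, hT, hgen⟩ := exists_finite_ass_generating_support hV F (f • m)
    obtain ⟨t, ht, -⟩ := hgen x hxV hne
    obtain ⟨htV, htF, htne⟩ := hT t ht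
    have h0 : (St t).map φ (F.presheaf.germ V t htV (f • m)) = 0 := by
      refine (Coherent.stalk_map_germ φ htV (f • m)).trans ?_
      rw [Scheme.Modules.Hom.app_smul, hfm]
      exact map_zero _
    rcases h t with hb | ⟨hd, -⟩
    · exact htne (hb.1 (h0.trans (map_zero ((St t).map φ).hom).symm))
    · haveI := finite_stalk hF t
      exact (CommAlg6.one_le_depth_iff _).1 (le_trans (by norm_num) hd) htF
  refine ModStalk.isIso_of_stalks φ fun x => ?_
  rw [ConcreteCategory.isIso_iff_bijective]
  refine ⟨hinj x, ?_⟩
  by_contra hsurj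
  have hx : x ∈ CohB1.support (cokernel φ) := by
    intro hsub
    refine hsurj ?_
    haveI : Subsingleton ((St x).obj (cokernel φ)) := hsub
    have hz : IsZero ((St x).obj (cokernel φ)) := ModuleCat.isZero_of_subsingleton _
    haveI : Epi ((St x).map φ) := Preadditive.epi_of_isZero_cokernel _
      (hz.of_iso (PreservesCokernel.iso (St x) φ).symm)
    exact (ModuleCat.epi_iff_surjective _).1 inferInstance
  obtain ⟨a, ha, -⟩ := exists_ass_generalization (cokernel φ) (Coherent.isQCoh_cokernel φ) hx
  let S : ShortComplex X.Modules := ShortComplex.mk φ (cokernel.π φ) (cokernel.condition φ)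
  have hS : S.Exact := ShortComplex.exact_cokernel φ
  have hexact := (ShortComplex.ShortExact.moduleCat_exact_iff_function_exact _).1 (hS.map (St a))
  have hq : Function.Surjective ((St a).map (cokernel.π φ)) :=
    (ModuleCat.epi_iff_surjective _).1 inferInstance
  rcases h a with hb | ⟨hd, hGa⟩
  · refine mem_support_of_ass _ ha (subsingleton_of_forall_eq 0 fun q => ?_)
    obtain ⟨y, rfl⟩ := hq q
    obtain ⟨c, rfl⟩ := hb.2 y
    exact hexact.apply_apply_eq_zero c
  · haveI := finite_stalk hF a
    exact maximalIdeal_notMem_associatedPrimes_of_exact hd ((St a).map φ).hom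
      ((St a).map (cokernel.π φ)).hom (hinj a) hexact hq hGa ha

/-- On an integral scheme the associated points of a torsion-free module are generic. -/
theorem eq_genericPoint_of_mem_ass_of_noZeroSMulDivisors [IsIntegral X] (G : X.Modules) {x : X}
    (htf : NoZeroSMulDivisors ↑(X.presheaf.stalk x) ↑(G.presheaf.stalk x)) (hx : x ∈ AssSch.Ass G) :
    x = genericPoint X := by
  obtain ⟨-, z, hz⟩ := (isAssociatedPrime_iff (R := X.presheaf.stalk x)).1 hx
  obtain ⟨_, ⟨V, hV, rfl⟩, hxV, -⟩ :=
    X.isBasis_affineOpens.exists_subset_of_mem_open (Set.mem_univ x) isOpen_univ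
  have hηV : genericPoint X ∈ V := (genericPoint_specializes x).mem_open V.2 hxV
  have hle : x ⤳ genericPoint X := by
    rw [specializes_iff hV hxV hηV]
    intro r hr
    have hr' := (germ_mem_maximalIdeal_iff hV hxV r).2 hr
    rw [hz, Submodule.mem_colon_singleton, Submodule.mem_bot] at hr'
    rcases smul_eq_zero.1 hr' with h1 | h1
    · have : r = 0 := germ_injective_of_isIntegral X x hxV (h1.trans (map_zero _).symm)
      rw [this]; exact zero_mem _
    · exfalso
      refine (IsLocalRing.maximalIdeal.isMaximal (X.presheaf.stalk x)).ne_top (hz.trans (eq_top_iff.2 fun r _ => ?_))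
      simp [Submodule.mem_colon_singleton, h1]
  exact hle.antisymm (genericPoint_specializes x) |>.eq

end Groth.Agent.SDiv28
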