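import Groth.Agent.MorProj.OmegaAffine
import Groth.Agent.H8Lim.ModEq
import Groth.Agent.FlatMor12.FittSheaf
import Mathlib

/-!
# Sheaf of differentials: finite type; unit zeroth Fitting ideal
-/

set_option autoImplicit false
set_option backward.isDefEq.respectTransparency false
set_option linter.style.haveILetI false
universe u

open CategoryTheory AlgebraicGeometry TopologicalSpace
open Groth.Agent.Coherent

namespace Groth.Agent.SDiv28.OmegaFT

variable {X S : Scheme.{u}} (f : X ⟶ S) [QuasiSeparated f]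

theorem subsingleton_kaehler_iff {U : X.Opens} (hU : IsAffineOpen U) {V : S.Opens} (hV : IsAffineOpen V)
    (h : U ≤ f ⁻¹ᵁ V) :
    (f.appLE V U h).hom.FormallyUnramified ↔ Subsingleton Γ(Omega.sheaf f, U) := by
  letI : Algebra Γ(S, V) Γ(X, U) := (f.appLE V U h).hom.toAlgebra
  haveI := MorProj.isIso_toSect f hU hV h
  let e : Ω[Γ(X, U)⁄Γ(S, V)] ≃ₗ[Γ(X, U)] Γ(Omega.sheaf f, U) := (asIso (OmAff.toSect f V U h)).toLinearEquiv
  show Algebra.FormallyUnramified Γ(S, V) Γ(X, U) ↔ _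
  rw [Algebra.formallyUnramified_iff]
  exact e.toEquiv.subsingleton_congr

omit [QuasiSeparated f] in
theorem appLE_iff {U W : X.Opens} {V : S.Opens} (hW : IsAffineOpen W) (hV : IsAffineOpen V)
    (hWU : W ≤ U) (hWV : W ≤ f ⁻¹ᵁ V) :
    ((U.ι ≫ f).appLE V (U.ι ⁻¹ᵁ W) (fun _ hp => hWV hp)).hom.FormallyUnramified ↔
      (f.appLE V W hWV).hom.FormallyUnramified := by
  have he : (U.ι ≫ f).appLE V (U.ι ⁻¹ᵁ W) (fun _ hp => hWV hp) = f.appLE V W hWV ≫ U.ι.app W := by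
    rw [Scheme.Hom.app_eq_appLE, Scheme.Hom.appLE_comp_appLE]
  haveI : IsIso (U.ι.app W) := Scheme.Hom.isIso_app U.ι W (by simpa using hWU)
  rw [he]
  exact RingHom.FormallyUnramified.respectsIso.cancel_right_isIso (f.appLE V W hWV) (U.ι.app W)

theorem isFT_omega [LocallyOfFiniteType f] : CohB1.IsFT (Omega.sheaf f) := by
  haveI := MorProj.isQCoh_omega f
  refine isFT_of_locallyFinGen fun x => ?_
  obtain ⟨_, ⟨V, hV, rfl⟩, hxV, -⟩ :=
    S.isBasis_affineOpens.exists_subset_of_mem_open (Set.mem_univ (f x)) isOpen_univ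
  obtain ⟨_, ⟨U, hU, rfl⟩, hxU, hUV⟩ :=
    X.isBasis_affineOpens.exists_subset_of_mem_open (show x ∈ f ⁻¹ᵁ V from hxV) (f ⁻¹ᵁ V).isOpen
  letI : Algebra Γ(S, V) Γ(X, U) := (f.appLE V U hUV).hom.toAlgebra
  haveI : Algebra.FiniteType Γ(S, V) Γ(X, U) :=
    LocallyOfFiniteType.finiteType_appLE f hV hU hUV
  haveI := MorProj.isIso_toSect f hU hV hUV
  let e : Ω[Γ(X, U)⁄Γ(S, V)] ≃ₗ[Γ(X, U)] Γ(Omega.sheaf f, U) := (asIso (OmAff.toSect f V U hUV)).toLinearEquiv
  haveI : Module.Finite Γ(X, U) Γ(Omega.sheaf f, U) := Module.Finite.equiv e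
  obtain ⟨n, s, hs⟩ := Module.Finite.exists_fin (R := Γ(X, U)) (M := Γ(Omega.sheaf f, U))
  refine ⟨U, ULift.{u} (Fin n), inferInstance, fun i => s i.down, hxU, genOn_of_span_top _ hU _ ?_⟩
  rwa [show Set.range (fun i : ULift.{u} (Fin n) => s i.down) = Set.range s from
    Equiv.ulift.surjective.range_comp s]

theorem fittingSupport_iff [LocallyOfFiniteType f] (x : X) :
    x ∈ (Fitt.sheafIdeal (Omega.sheaf f) 0).support ↔
      ¬ ∃ U : X.Opens, x ∈ U ∧ FormallyUnramified (U.ι ≫ f) := by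
  haveI := MorProj.isQCoh_omega f
  haveI : Coh.IsQCoh (Omega.sheaf f) := MorProj.isQCoh_omega f
  rw [iff_not_comm]
  constructor
  · rintro ⟨U, hxU, hun⟩
    obtain ⟨_, ⟨V, hV, rfl⟩, hxV, -⟩ :=
      S.isBasis_affineOpens.exists_subset_of_mem_open (Set.mem_univ (f x)) isOpen_univ
    obtain ⟨_, ⟨W, hW, rfl⟩, hxW, hWle⟩ :=
      X.isBasis_affineOpens.exists_subset_of_mem_open (show x ∈ U ⊓ f ⁻¹ᵁ V from ⟨hxU, hxV⟩) (U ⊓ f ⁻¹ᵁ V).isOpen
    have hWU : W ≤ U := fun p hp => (hWle hp).1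
    have hWV : W ≤ f ⁻¹ᵁ V := fun p hp => (hWle hp).2
    haveI := hun
    have happ : (f.appLE V W hWV).hom.FormallyUnramified :=
      (appLE_iff f hW hV hWU hWV).1
        (HasRingHomProperty.appLE @FormallyUnramified _ hun ⟨V, hV⟩
          ⟨U.ι ⁻¹ᵁ W, hW.preimage_of_isOpenImmersion U.ι (by simpa using hWU)⟩ (fun p hp => hWV hp))
    haveI := (subsingleton_kaehler_iff f hW hV hWV).1 happ
    rw [Scheme.IdealSheafData.mem_support_iff_of_mem (U := ⟨W, hW⟩) hxW, Scheme.mem_zeroLocus_iff,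
      FlatMor12.FittSheaf.ideal_eq _ (isFT_omega f), FittLib.ideal_eq_top_of_span
        (fun i : Fin 0 => (0 : Γ(Omega.sheaf f, W))) (Subsingleton.elim _ _) le_rfl]
    intro h
    exact h 1 trivial (by rwa [X.basicOpen_of_isUnit isUnit_one])
  · intro hx
    obtain ⟨U, hxU, g, hg⟩ := FlatMor12.FittSheaf.exists_span_nhd _ (isFT_omega f) hx
    haveI : Subsingleton Γ(Omega.sheaf f, U.1) := by
      rw [Set.range_eq_empty g, Submodule.span_empty] at hg
      exact Submodule.subsingleton_iff _ |>.1 (subsingleton_of_bot_eq_top hg)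
    refine ⟨U.1, hxU, ?_⟩
    rw [HasRingHomProperty.iff_exists_appLE (P := @FormallyUnramified)
      (RingHom.FormallyUnramified.stableUnderComposition.stableUnderCompositionWithLocalizationAway
        RingHom.FormallyUnramified.holdsForLocalizationAway).left]
    intro p
    obtain ⟨_, ⟨V, hV, rfl⟩, hpV, -⟩ :=
      S.isBasis_affineOpens.exists_subset_of_mem_open (Set.mem_univ ((U.1.ι ≫ f) p)) isOpen_univ
    obtain ⟨r, hrle, hpr⟩ := U.2.exists_basicOpen_le (V := f ⁻¹ᵁ V) ⟨p.1, hpV⟩ p.2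
    have hW : IsAffineOpen (X.basicOpen r) := U.2.basicOpen r
    haveI : Subsingleton Γ(Omega.sheaf f, X.basicOpen r) := by
      refine subsingleton_of_forall_eq 0 fun y => ?_
      obtain ⟨n, t, ht⟩ := qcoh_exists_pow_smul U.2 (Omega.sheaf f) r y
      rw [Subsingleton.elim t 0, map_zero] at ht
      exact (isUnit_res_pow r (X.basicOpen_le r) le_rfl n).smul_eq_zero.1 ht.symm
    refine ⟨⟨V, hV⟩, ⟨U.1.ι ⁻¹ᵁ X.basicOpen r,
      hW.preimage_of_isOpenImmersion U.1.ι (by simpa using X.basicOpen_le r)⟩, hpr, fun q hq => hrle hq, ?_⟩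
    exact (appLE_iff f hW hV (X.basicOpen_le r) hrle).2 ((subsingleton_kaehler_iff f hW hV hrle).2 inferInstance)

end Groth.Agent.SDiv28.OmegaFT
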