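import Groth.Agent.SDiv28.WeakAssPoints
import Groth.Prelude.Def_CInt
import Mathlib

/-!
# Schematically dense opens and associated points
-/

set_option autoImplicit false
set_option backward.isDefEq.respectTransparency.types false
universe u

open CategoryTheory AlgebraicGeometry Opposite TopologicalSpace
open Groth.Agent.AssSch12
open Groth.Agent.CAlgH3 (annEl mem_annEl)

namespace Groth.Agent.SDiv28

variable {X : Scheme.{u}} {W : X.Opens} (hW : IsAffineOpen W) {x : X} (hx : x ∈ W)

/-- Associated points of the structure sheaf on an affine open. -/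
theorem isAssociatedPrime_stalk_iff :
    IsAssociatedPrime (IsLocalRing.maximalIdeal (X.presheaf.stalk x)) (X.presheaf.stalk x) ↔
      primeAt hW hx ∈ FlatCA.weakAss Γ(X, W) Γ(X, W) := by
  letI := TopCat.Presheaf.algebra_section_stalk X.presheaf (⟨x, hx⟩ : W)
  haveI := hW.isLocalization_stalk ⟨x, hx⟩
  haveI : IsLocalizedModule (primeAt hW hx).primeCompl
      (Algebra.linearMap Γ(X, W) (X.presheaf.stalk x)) :=
    (isLocalizedModule_iff_isLocalization' _ _).2 (hW.isLocalization_stalk ⟨x, hx⟩)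
  have hd : Disjoint ((primeAt hW hx).primeCompl : Set Γ(X, W)) (primeAt hW hx : Set Γ(X, W)) :=
    Set.disjoint_left.2 fun a ha hb => ha hb
  rw [CAlgH3.weakAss_localized_iff (primeAt hW hx).primeCompl (A := X.presheaf.stalk x)
    (Algebra.linearMap Γ(X, W) (X.presheaf.stalk x)) _ (hW.primeIdealOf ⟨x, hx⟩).2 hd]
  have hm : (primeAt hW hx).map (algebraMap Γ(X, W) (X.presheaf.stalk x)) =
      IsLocalRing.maximalIdeal (X.presheaf.stalk x) := (maximalIdeal_eq_map_primeAt hW hx).symm
  rw [hm, CAlgH3.mem_weakAss]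
  constructor
  · rintro ⟨-, m, h⟩
    exact ⟨m, (CAlgH3.radical_eq_maximalIdeal_iff _).1 (by rw [h, CAlgH3.colon_bot_singleton])⟩
  · rintro ⟨m, h⟩
    exact ⟨(IsLocalRing.maximalIdeal.isMaximal _).isPrime, m, by
      rw [CAlgH3.colon_bot_singleton, (CAlgH3.radical_eq_maximalIdeal_iff _).2 h]⟩

include hW in
theorem germ_eq_zero_iff (s : Γ(X, W)) :
    X.presheaf.germ W x hx s = 0 ↔ ¬ annEl Γ(X, W) s ≤ primeAt hW hx := by
  letI := TopCat.Presheaf.algebra_section_stalk X.presheaf (⟨x, hx⟩ : W)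
  haveI := hW.isLocalization_stalk ⟨x, hx⟩
  refine (IsLocalization.map_eq_zero_iff (primeAt hW hx).primeCompl (X.presheaf.stalk x) s).trans ?_
  constructor
  · rintro ⟨⟨t, ht⟩, h⟩ hle
    exact ht (hle (mem_annEl.2 h))
  · intro h
    obtain ⟨t, ht, htp⟩ := SetLike.not_le_iff_exists.1 h
    exact ⟨⟨t, htp⟩, mem_annEl.1 ht⟩

omit hW hx in
theorem isSchematicallyDense_iff [IsLocallyNoetherian X] (U : X.Opens) :
    CInt.IsSchematicallyDense U ↔ ∀ x : X,
      IsAssociatedPrime (IsLocalRing.maximalIdeal (X.presheaf.stalk x)) (X.presheaf.stalk x) → x ∈ U := by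
  constructor
  · intro h x hxa
    by_contra hxU
    obtain ⟨_, ⟨W, hW, rfl⟩, hxW, -⟩ :=
      X.isBasis_affineOpens.exists_subset_of_mem_open (Set.mem_univ x) isOpen_univ
    haveI := isNoetherianRing_of_isAffineOpen hW
    obtain ⟨hp, s, hs⟩ := CAlgH3.mem_ass.1 (CAlgH3.mem_ass_of_mem_weakAss_of_fg
      (IsNoetherian.noetherian _) ((isAssociatedPrime_stalk_iff hW hxW).1 hxa))
    have hs0 : s = 0 := by
      refine h W ?_
      rw [map_zero]
      apply TopCat.Presheaf.section_ext X.sheaf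
      intro y hy
      show X.presheaf.germ (W ⊓ U) y hy _ = X.presheaf.germ (W ⊓ U) y hy 0
      rw [map_zero]
      refine (TopCat.Presheaf.germ_res_apply X.presheaf (homOfLE inf_le_left) y hy s).trans ?_
      refine (germ_eq_zero_iff hW hy.1 s).2 fun hle => hxU ?_
      exact ((specializes_iff hW hxW hy.1).2 (hs.le.trans hle)).mem_open U.isOpen hy.2
    rw [hs0, CAlgH3.annEl_eq_top.2 rfl] at hs
    exact hp.ne_top hs
  · intro h V
    rw [injective_iff_map_eq_zero]
    intro s hs
    apply TopCat.Presheaf.section_ext X.sheaf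
    intro z hz
    show X.presheaf.germ V z hz s = X.presheaf.germ V z hz 0
    rw [map_zero]
    by_contra hne
    obtain ⟨_, ⟨W, hW, rfl⟩, hzW, hWV⟩ :=
      X.isBasis_affineOpens.exists_subset_of_mem_open hz V.isOpen
    let i : W ⟶ V := homOfLE (show W ≤ V from hWV)
    have hne' : ¬ X.presheaf.germ W z hzW (X.presheaf.map i.op s) = 0 := by
      rw [TopCat.Presheaf.germ_res_apply]; exact hne
    rw [germ_eq_zero_iff hW hzW, not_not] at hne'
    haveI : (primeAt hW hzW).IsPrime := (hW.primeIdealOf ⟨z, hzW⟩).2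
    obtain ⟨q, hq, -⟩ := Ideal.exists_minimalPrimes_le hne'
    haveI := hq.1.1
    obtain ⟨y, hy, rfl⟩ := exists_point hW q
    have hyU : y ∈ U := h y ((isAssociatedPrime_stalk_iff hW hy).2 ⟨_, hq⟩)
    refine (germ_eq_zero_iff hW hy _).1 ?_ hq.1.2
    rw [TopCat.Presheaf.germ_res_apply]
    have h1 := congr(X.presheaf.germ (V ⊓ U) y ⟨hWV hy, hyU⟩ $hs)
    rw [map_zero, TopCat.Presheaf.germ_res_apply] at h1
    exact h1

end Groth.Agent.SDiv28
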