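import Groth.Agent.LocCoh.NonVanishing
import Groth.Agent.LocCoh.BSeq
import Groth.Agent.LocCoh.Vanishing
import Groth.Agent.ModPairLib.EffCartier
import Groth.Agent.SDiv28.SchDenseAss
import Groth.Prelude.Def_FEt
import Mathlib

/-!
# An affine punctured spectrum has dimension at most one
-/

set_option autoImplicit false
set_option backward.isDefEq.respectTransparency.types false
universe u

open CategoryTheory AlgebraicGeometry Opposite TopologicalSpace IsLocalRing
open Groth.Agent.LocCoh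
open Groth.Agent.ModPairLib (res res_res)

namespace Groth.Agent.SDiv28.Punctured

/-- If `D(x) ∪ D(y)` is affine then `H²` with support in `(x, y)` vanishes. -/
theorem subsingleton_H2 (S : Scheme.{u}) [IsAffine S] [IsNoetherianRing Γ(S, ⊤)] (x y : Γ(S, ⊤))
    (hU : IsAffineOpen (S.basicOpen x ⊔ S.basicOpen y)) :
    Subsingleton (_root_.LocCoh.H (Ideal.span {x} ⊔ Ideal.span {y}) 2 Γ(S, ⊤)) := by
  let A := Γ(S, ⊤)
  set U := S.basicOpen x ⊔ S.basicOpen y with hUdef
  let Dx := S.basicOpen x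
  let Dy := S.basicOpen y
  let P := Dx ⊓ Dy
  letI algx : Algebra A Γ(S, Dx) := (res (le_top : Dx ≤ ⊤)).toAlgebra
  haveI : IsLocalization.Away x Γ(S, Dx) := (isAffineOpen_top S).isLocalization_basicOpen x
  letI algy : Algebra A Γ(S, Dy) := (res (le_top : Dy ≤ ⊤)).toAlgebra
  haveI : IsLocalization.Away y Γ(S, Dy) := (isAffineOpen_top S).isLocalization_basicOpen y
  let xU : Γ(S, U) := res le_top x
  let yU : Γ(S, U) := res le_top y
  have hxU : S.basicOpen xU = Dx := (S.basicOpen_res x (homOfLE le_top).op).trans (inf_eq_right.2 le_sup_left)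
  have hyU : S.basicOpen yU = Dy := (S.basicOpen_res y (homOfLE le_top).op).trans (inf_eq_right.2 le_sup_right)
  have hspan : Ideal.span ({xU, yU} : Set Γ(S, U)) = ⊤ := by
    rw [← hU.self_le_iSup_basicOpen_iff]
    exact sup_le (hxU.ge.trans (le_iSup_of_le ⟨xU, Or.inl rfl⟩ le_rfl))
      (hyU.ge.trans (le_iSup_of_le ⟨yU, Or.inr rfl⟩ le_rfl))
  have hPU : P ≤ U := inf_le_left.trans le_sup_left
  have hxy : S.basicOpen (xU * yU) = P := by rw [Scheme.basicOpen_mul, hxU, hyU]
  letI algP : Algebra Γ(S, U) Γ(S, P) := (res hPU).toAlgebra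
  haveI : IsLocalization.Away (xU * yU) Γ(S, P) :=
    hU.isLocalization_of_eq_basicOpen (xU * yU) (homOfLE hPU) hxy.symm
  have hxu : IsUnit (res (le_top : Dx ≤ ⊤) x) := RingedSpace.isUnit_res_basicOpen S.toRingedSpace x
  have hyu : IsUnit (res (le_top : Dy ≤ ⊤) y) := RingedSpace.isUnit_res_basicOpen S.toRingedSpace y
  have claim : ∀ (a : Γ(S, Dx)) (n : ℕ), ∃ (α : Γ(S, Dx)) (k : ℕ) (r : A),
      y ^ k • (y ^ n • α - a) = algebraMap A Γ(S, Dx) r := by
    intro a n
    obtain ⟨ynu, hynu⟩ := ((hyu.map (res (inf_le_right : P ≤ Dy))).pow n).exists_right_inv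
    obtain ⟨⟨c, ⟨_, m, rfl⟩⟩, hc⟩ := IsLocalization.surj (Submonoid.powers (xU * yU))
      (res (inf_le_left : P ≤ Dx) a * ynu)
    obtain ⟨u, v, huv⟩ : IsCoprime (xU ^ m) (yU ^ m) := by
      refine IsCoprime.pow ?_
      obtain ⟨p, q, hpq⟩ := Ideal.mem_span_pair.1 (hspan ▸ Submodule.mem_top : (1 : Γ(S, U)) ∈ _)
      exact ⟨p, q, hpq⟩
    obtain ⟨xi, hxi⟩ := (hxu.pow m).exists_right_inv
    obtain ⟨yi, hyi⟩ := (hyu.pow m).exists_right_inv
    let α : Γ(S, Dx) := res le_sup_left (c * v) * xi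
    let β : Γ(S, Dy) := res le_sup_right (c * u) * yi
    obtain ⟨⟨r, ⟨_, k₁, rfl⟩⟩, hr⟩ := IsLocalization.surj (Submonoid.powers y) (y ^ n • β)
    let e : Γ(S, Dx) := y ^ k₁ • (y ^ n • α - a) + algebraMap A Γ(S, Dx) r
    have he : res (inf_le_left : P ≤ Dx) e = 0 := by
      have hr' := congrArg (res (inf_le_right : P ≤ Dy)) hr
      have hxi' := congrArg (res (inf_le_left : P ≤ Dx)) hxi
      have hyi' := congrArg (res (inf_le_right : P ≤ Dy)) hyi
      have huv' := congrArg (res hPU) huv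
      simp only [Algebra.smul_def, RingHom.algebraMap_toAlgebra, map_mul, map_pow, map_add, map_sub, map_one,
        res_res, xU, yU, e, α, β] at hr' hxi' hyi' huv' hc hynu ⊢
      set X' := res (le_top : P ≤ ⊤) x
      set Y' := res (le_top : P ≤ ⊤) y
      set Z := res (inf_le_left : P ≤ Dx) a
      set C := res hPU c
      -- `a / y ^ n = α + β` on the overlap
      have hz : Z * ynu = C * res hPU v * res (inf_le_left : P ≤ Dx) xi +
          C * res hPU u * res (inf_le_right : P ≤ Dy) yi := by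
        have hXY : IsUnit (X' * Y') := by
          have h := IsLocalization.Away.algebraMap_isUnit (S := Γ(S, P)) (xU * yU)
          simpa only [RingHom.algebraMap_toAlgebra, map_mul, res_res, xU, yU, X', Y'] using h
        refine (hXY.pow m).mul_left_inj.1 ?_
        linear_combination hc - C * huv' - C * res hPU v * Y' ^ m * hxi' - C * res hPU u * X' ^ m * hyi'
      have hres : ∀ (h₁ : Dx ≤ ⊤) (h₂ : P ≤ Dx) (h₃ : Dy ≤ ⊤) (h₄ : P ≤ Dy) (t : Γ(S, ⊤)),
          res h₂ (res h₁ t) = res h₄ (res h₃ t) := fun h₁ h₂ h₃ h₄ t =>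
        (res_res h₁ h₂ t).trans (res_res h₃ h₄ t).symm
      have hrr := hres le_top inf_le_left le_top inf_le_right r
      have hrr' := res_res (le_top : Dx ≤ ⊤) (inf_le_left : P ≤ Dx) r
      linear_combination hr'.symm + (Y' ^ k₁ * Y' ^ n) * hz.symm + (Y' ^ k₁ * Z) * hynu + hrr'
    letI : Algebra Γ(S, Dx) Γ(S, P) := (res (inf_le_left : P ≤ Dx)).toAlgebra
    haveI : IsLocalization.Away (res (le_top : Dx ≤ ⊤) y) Γ(S, P) :=
      ((isAffineOpen_top S).basicOpen x).isLocalization_of_eq_basicOpen _ (homOfLE inf_le_left)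
        (S.basicOpen_res y (homOfLE le_top).op).symm
    obtain ⟨⟨_, k₂, rfl⟩, hk⟩ := (IsLocalization.map_eq_zero_iff
      (Submonoid.powers (res (le_top : Dx ≤ ⊤) y)) Γ(S, P) e).1 he
    refine ⟨α, k₂ + k₁, -(y ^ k₂ * r), ?_⟩
    simp only [Algebra.smul_def, RingHom.algebraMap_toAlgebra, map_mul, map_pow, map_neg, e] at hk ⊢
    linear_combination hk
  -- translate to local cohomology
  let ν : A →ₗ[A] Γ(S, Dx) := Algebra.linearMap A Γ(S, Dx)
  haveI : IsLocalizedModule (Submonoid.powers x) ν :=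
    (isLocalizedModule_iff_isLocalization' (Submonoid.powers x) Γ(S, Dx)).2 inferInstance
  obtain ⟨eH⟩ := nonempty_H1_span_equiv (R := A) x ν
  let f := Hmap (Ideal.span {x}) 1 (lm y A)
  haveI : IsLocalizedModule (Submonoid.powers y) f := isLocalizedModule_Hmap_lm (Ideal.span {x}) y 1 A
  have hf : Function.Surjective f := by
    intro z
    obtain ⟨⟨h, ⟨_, n, rfl⟩⟩, hz⟩ := IsLocalizedModule.surj (Submonoid.powers y) f z
    obtain ⟨a, ha⟩ := Submodule.Quotient.mk_surjective _ (eH h)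
    obtain ⟨α, k, r, hr⟩ := claim a n
    refine ⟨eH.symm (Submodule.Quotient.mk α), ?_⟩
    have h0 : y ^ k • (y ^ n • eH.symm (Submodule.Quotient.mk α) - h) = 0 := by
      apply eH.injective
      rw [map_smul, map_sub, map_smul, eH.apply_symm_apply, ← ha, map_zero, ← Submodule.Quotient.mk_smul,
        ← Submodule.Quotient.mk_sub, ← Submodule.Quotient.mk_smul, Submodule.Quotient.mk_eq_zero]
      exact ⟨r, hr.symm⟩
    have h1 := congrArg f h0
    rw [map_zero, map_smul, map_sub, map_smul] at h1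
    have hu : ∀ i : ℕ, Function.Injective fun w : _root_.LocCoh.H (Ideal.span {x}) 1 (Loc y A) => y ^ i • w :=
      fun i => ((Module.End.isUnit_iff _).1
        (IsLocalizedModule.map_units f (⟨y ^ i, i, rfl⟩ : Submonoid.powers y))).1
    refine hu n ((sub_eq_zero.1 (hu k (h1.trans (smul_zero _).symm))).trans ?_)
    exact hz.symm
  obtain ⟨κ⟩ := nonempty_coker_equiv_ker (Ideal.span {x}) y 1 A
  haveI : Subsingleton (_root_.LocCoh.H (Ideal.span {x}) 1 (Loc y A) ⧸ LinearMap.range f) :=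
    Submodule.Quotient.subsingleton_iff.2 (LinearMap.range_eq_top.2 hf)
  haveI := κ.symm.toEquiv.subsingleton
  haveI : Subsingleton (_root_.LocCoh.H (Ideal.span {x}) 2 A) := by
    have := cdLE_span_finset ({x} : Finset A)
    rw [Finset.coe_singleton, Finset.card_singleton] at this
    exact this A 2 (by omega)
  constructor
  intro a b
  exact congrArg Subtype.val (Subsingleton.elim
    (⟨a, Subsingleton.elim _ _⟩ : LinearMap.ker (Hle (le_sup_left : Ideal.span {x} ≤
      Ideal.span {x} ⊔ Ideal.span {y}) (1 + 1) A))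
    ⟨b, Subsingleton.elim _ _⟩)

/-- A two dimensional Noetherian local domain has non-affine punctured spectrum. -/
theorem false_of_domain (D : Type u) [CommRing D] [IsLocalRing D] [IsNoetherianRing D] [IsDomain D]
    (Q₀ : Ideal D) [Q₀.IsPrime] (hQ₀ : Q₀ ≠ ⊥) (hQ₀m : Q₀ ≠ maximalIdeal D)
    (hcov : ∀ Q Q' : Ideal D, Q.IsPrime → Q'.IsPrime → Q ≠ ⊥ → Q < Q' → Q' = maximalIdeal D)
    (hU : IsAffineOpen (FEt.puncturedSpec D)) : False := by
  classical
  have h2 : (2 : ℕ∞) ≤ (maximalIdeal D).height := by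
    have h1 : Q₀ < maximalIdeal D := lt_of_le_of_ne (le_maximalIdeal Ideal.IsPrime.ne_top') hQ₀m
    calc (2 : ℕ∞) ≤ Q₀.height + 1 := by
          rw [← one_add_one_eq_two]
          gcongr
          exact Order.one_le_iff_pos.2 (pos_iff_ne_zero.2 fun h => hQ₀ (Ideal.height_eq_zero_iff_eq_bot.1 h))
      _ ≤ (maximalIdeal D).height := Ideal.height_add_one_le_of_lt_of_isPrime h1
  obtain ⟨x, hxQ, hx0⟩ := Submodule.exists_mem_ne_zero_of_ne_bot hQ₀
  have hfin := Ideal.finite_minimalPrimes_of_isNoetherianRing D (Ideal.span {x})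
  obtain ⟨y, hym, hy⟩ : ∃ y ∈ maximalIdeal D, ∀ q ∈ (Ideal.span {x}).minimalPrimes, y ∉ q := by
    by_contra hcon
    push Not at hcon
    have hsub : (maximalIdeal D : Set D) ⊆ ⋃ q ∈ (hfin.toFinset : Set (Ideal D)), (q : Set D) := by
      intro y hy
      obtain ⟨q, hq, hyq⟩ := hcon y hy
      exact Set.mem_biUnion (hfin.mem_toFinset.2 hq) hyq
    obtain ⟨q, hq, hle⟩ := (Ideal.subset_union_prime ⊤ ⊤ fun q hq _ _ =>
      (hfin.mem_toFinset.1 hq).isPrime).1 hsub
    rw [Set.Finite.mem_toFinset] at hq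
    haveI := hq.isPrime
    have h1 : q.height ≤ 1 := Ideal.height_le_one_of_isPrincipal_of_mem_minimalPrimes (Ideal.span {x}) q hq
    exact absurd (h2.trans ((Ideal.height_mono hle).trans h1)) (by decide)
  have hrad : ∀ Q : Ideal D, Q.IsPrime → x ∈ Q → y ∈ Q → Q = maximalIdeal D := by
    intro Q hQ hxQ' hyQ
    obtain ⟨q, hq, hqQ⟩ := Ideal.exists_minimalPrimes_le (I := Ideal.span {x}) (J := Q)
      ((Ideal.span_singleton_le_iff_mem _).2 hxQ')
    refine hcov q Q hq.isPrime hQ (fun h => hx0 ?_) (lt_of_le_of_ne hqQ fun h => hy q hq (h ▸ hyQ))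
    exact (Ideal.mem_bot).1 (h ▸ hq.1.2 (Ideal.mem_span_singleton_self x))
  let S := Spec (CommRingCat.of D)
  let ε : D ≃+* Γ(S, ⊤) := (Scheme.ΓSpecIso (CommRingCat.of D)).symm.commRingCatIsoToRingEquiv
  haveI : IsNoetherianRing Γ(S, ⊤) := isNoetherianRing_of_ringEquiv D ε
  haveI : IsLocalRing Γ(S, ⊤) := ε.isLocalRing
  have hbo : ∀ f : D, S.basicOpen (ε f) = PrimeSpectrum.basicOpen f := fun f =>
    basicOpen_eq_of_affine (R := CommRingCat.of D) f
  have hopen : S.basicOpen (ε x) ⊔ S.basicOpen (ε y) = FEt.puncturedSpec D := by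
    rw [hbo, hbo]
    refine Opens.ext (Set.ext fun Q => ?_)
    show (x ∉ Q.asIdeal ∨ y ∉ Q.asIdeal) ↔ Q ≠ closedPoint D
    constructor
    · rintro h rfl
      exact h.elim (fun h' => h' (le_maximalIdeal Ideal.IsPrime.ne_top' hxQ)) (fun h' => h' hym)
    · intro h
      by_contra hn
      push Not at hn
      exact h (PrimeSpectrum.ext (hrad Q.asIdeal Q.2 hn.1 hn.2))
  haveI := subsingleton_H2 S (ε x) (ε y) (hopen ▸ hU)
  have hrad' : (Ideal.span {ε x} ⊔ Ideal.span {ε y}).radical = (maximalIdeal Γ(S, ⊤)).radical := by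
    rw [(maximalIdeal.isMaximal _).isPrime.radical]
    refine le_antisymm ((Ideal.IsPrime.radical_le_iff inferInstance).2 (sup_le ?_ ?_)) ?_
    · rw [Ideal.span_singleton_le_iff_mem, mem_maximalIdeal, mem_nonunits_iff, MulEquiv.isUnit_map]
      exact le_maximalIdeal Ideal.IsPrime.ne_top' hxQ
    · rw [Ideal.span_singleton_le_iff_mem, mem_maximalIdeal, mem_nonunits_iff, MulEquiv.isUnit_map]
      exact hym
    · rw [Ideal.radical_eq_sInf]
      refine le_sInf fun Q ⟨hle, hQ⟩ => ?_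
      have hQ' := hrad (Q.comap ε) (Ideal.comap_isPrime _ Q)
        (hle (Ideal.mem_sup_left (Ideal.mem_span_singleton_self _)))
        (hle (Ideal.mem_sup_right (Ideal.mem_span_singleton_self _)))
      intro z hz
      obtain ⟨w, rfl⟩ := ε.surjective z
      rw [mem_maximalIdeal, mem_nonunits_iff, MulEquiv.isUnit_map] at hz
      exact hQ'.ge hz
  obtain ⟨e⟩ := nonempty_H_equiv_of_radical hrad' 2 Γ(S, ⊤)
  haveI := e.symm.toEquiv.subsingleton
  have hdim : ringKrullDim Γ(S, ⊤) = (2 : ℕ) := by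
    rw [← ringKrullDim_eq_of_ringEquiv ε, ← maximalIdeal_height_eq_ringKrullDim]
    refine le_antisymm ?_ (WithBot.coe_le_coe.2 h2)
    refine WithBot.coe_le_coe.2 ?_
    have hmin : maximalIdeal D ∈ (Ideal.span {x, y}).minimalPrimes := by
      refine ⟨⟨inferInstance, ?_⟩, fun Q hQ hle => ?_⟩
      · rw [Ideal.span_le]
        rintro z (rfl | rfl)
        exacts [le_maximalIdeal Ideal.IsPrime.ne_top' hxQ, hym]
      · exact (hrad Q hQ.1 (hQ.2 (Ideal.subset_span (Or.inl rfl)))
          (hQ.2 (Ideal.subset_span (Or.inr rfl)))).ge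
    have := Ideal.height_le_card_of_mem_minimalPrimes_span_finset (s := {x, y}) (by simpa using hmin)
    exact this.trans (by exact_mod_cast Finset.card_le_two)
  have := nontrivial_H_ring Γ(S, ⊤) 2 hdim
  exact not_subsingleton (_root_.LocCoh.H (maximalIdeal Γ(S, ⊤)) 2 Γ(S, ⊤)) inferInstance

/-- An affine punctured spectrum has dimension at most one. -/
theorem dim_le_one_of_isAffine (R : Type u) [CommRing R] [IsLocalRing R] [IsNoetherianRing R]
    (hU : IsAffineOpen (FEt.puncturedSpec R)) : ringKrullDim R ≤ 1 := by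
  by_contra hcon
  let T : Set (Ideal R) := {P | P.IsPrime ∧ ∃ Q : Ideal R, Q.IsPrime ∧ P < Q ∧ Q < maximalIdeal R}
  have hne : T.Nonempty := by
    by_contra hT
    rw [Set.not_nonempty_iff_eq_empty] at hT
    refine hcon ?_
    rw [← maximalIdeal_height_eq_ringKrullDim, show (1 : WithBot ℕ∞) = ((1 : ℕ) : ℕ∞) from rfl, WithBot.coe_le_coe,
      Ideal.height_le_iff]
    intro Q hQ hlt
    rw [Nat.cast_one, Order.lt_one_iff, Ideal.height_eq_zero_iff]
    refine ⟨⟨hQ, bot_le⟩, fun Q' hQ' hle => ?_⟩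
    rcases eq_or_lt_of_le hle with h | h
    · exact h.ge
    · exact absurd (show Q' ∈ T from ⟨hQ'.1, Q, hQ, h, hlt⟩) (hT ▸ Set.notMem_empty _)
  obtain ⟨P, ⟨hP, Q₀, hQ₀, hPQ, hQm⟩, hmax⟩ := set_has_maximal_iff_noetherian.2 inferInstance T hne
  haveI := hP
  let π := Ideal.Quotient.mk P
  haveI : IsLocalRing (R ⧸ P) := IsLocalRing.of_surjective' π Ideal.Quotient.mk_surjective
  haveI : IsLocalHom π := .of_surjective π Ideal.Quotient.mk_surjective
  have hker : RingHom.ker π ≤ Q₀ := Ideal.mk_ker.trans_le hPQ.le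
  haveI : (Q₀.map π).IsPrime := Ideal.map_isPrime_of_surjective Ideal.Quotient.mk_surjective hker
  have hcomap : (Q₀.map π).comap π = Q₀ := by
    rw [Ideal.comap_map_of_surjective' π Ideal.Quotient.mk_surjective, sup_eq_left]
    exact hker
  have hmaxc : (maximalIdeal (R ⧸ P)).comap π = maximalIdeal R :=
    (IsLocalRing.eq_maximalIdeal (Ideal.comap_isMaximal_of_surjective π Ideal.Quotient.mk_surjective))
  let f : Spec (CommRingCat.of (R ⧸ P)) ⟶ Spec (CommRingCat.of R) := Spec.map (CommRingCat.ofHom π)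
  have hpre : f ⁻¹ᵁ FEt.puncturedSpec R = FEt.puncturedSpec (R ⧸ P) := by
    refine Opens.ext (Set.ext fun Q => ?_)
    show (PrimeSpectrum.comap π Q ≠ closedPoint R) ↔ Q ≠ closedPoint (R ⧸ P)
    rw [← IsLocalRing.comap_closedPoint π]
    exact (PrimeSpectrum.comap_injective_of_surjective π Ideal.Quotient.mk_surjective).ne_iff
  refine false_of_domain (R ⧸ P) (Q₀.map π) (fun h => ?_) (fun h => ?_) (fun Q Q' hQ hQ' hb hlt => ?_)
    (hpre ▸ hU.preimage f)
  · rw [h, ← RingHom.ker_eq_comap_bot, Ideal.mk_ker] at hcomap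
    exact hPQ.ne hcomap
  · rw [h, hmaxc] at hcomap
    exact hQm.ne hcomap.symm
  · by_contra hne'
    have hlt' : Q'.comap π < maximalIdeal R := by
      refine lt_of_le_of_ne (le_maximalIdeal (Ideal.comap_isPrime π Q').ne_top) fun h => hne' ?_
      exact Ideal.comap_injective_of_surjective π Ideal.Quotient.mk_surjective (h.trans hmaxc.symm)
    refine hmax (Q.comap π) ⟨Ideal.comap_isPrime π Q, Q'.comap π, Ideal.comap_isPrime π Q',
      (Ideal.orderEmbeddingOfSurjective π Ideal.Quotient.mk_surjective).lt_iff_lt.2 hlt, hlt'⟩ ?_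
    refine lt_of_le_of_ne ?_ fun h => hb ?_
    · exact Ideal.mk_ker.ge.trans (RingHom.ker_eq_comap_bot π ▸ Ideal.comap_mono bot_le)
    · refine Ideal.comap_injective_of_surjective π Ideal.Quotient.mk_surjective ?_
      rw [← h, ← RingHom.ker_eq_comap_bot, Ideal.mk_ker]

/-- The punctured spectrum in dimension at most one is affine. -/
theorem isAffine_of_dim_le_one (R : Type u) [CommRing R] [IsLocalRing R] [IsNoetherianRing R]
    (h : ringKrullDim R ≤ 1) : IsAffine (FEt.puncturedSpec R : Scheme.{u}) := by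
  have hmin : ∀ z : PrimeSpectrum R, z ≠ closedPoint R → z.asIdeal ∈ minimalPrimes R := fun z hz => by
    refine ⟨⟨z.2, bot_le⟩, fun Q hQ hle => ?_⟩
    rcases eq_or_lt_of_le hle with h' | h'
    · exact h'.ge
    · exfalso
      haveI := hQ.1
      have hzm : z.asIdeal < maximalIdeal R := lt_of_le_of_ne (le_maximalIdeal z.2.ne_top)
        fun he => hz (PrimeSpectrum.ext he)
      have h1 := Ideal.height_add_one_le_of_lt_of_isPrime h'
      have h2 := Ideal.height_add_one_le_of_lt_of_isPrime hzm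
      rw [← maximalIdeal_height_eq_ringKrullDim] at h
      have h3 : (2 : ℕ∞) ≤ (maximalIdeal R).height := by
        refine le_trans ?_ h2
        rw [← one_add_one_eq_two]
        gcongr
        exact le_trans le_add_self h1
      exact absurd (h3.trans (WithBot.coe_le_coe.1 h)) (by decide)
  haveI : Finite (FEt.puncturedSpec R : Scheme.{u}) := by
    haveI := (minimalPrimes.finite_of_isNoetherianRing R).to_subtype
    refine Finite.of_injective (β := minimalPrimes R) (fun z => ⟨z.1.asIdeal, hmin z.1 z.2⟩) fun a b hab => ?_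
    exact Subtype.ext (PrimeSpectrum.ext (congrArg Subtype.val hab))
  haveI : T1Space (FEt.puncturedSpec R : Scheme.{u}) := by
    refine ⟨fun z => isClosed_of_closure_subset fun w hw => ?_⟩
    have hs : z ⤳ w := specializes_iff_mem_closure.2 hw
    have hle : z.1.asIdeal ≤ w.1.asIdeal :=
      (PrimeSpectrum.le_iff_specializes z.1 w.1).2 (hs.map continuous_subtype_val)
    exact Subtype.ext (PrimeSpectrum.ext (le_antisymm ((hmin w.1 w.2).2 ⟨z.1.2, bot_le⟩ hle) hle))
  infer_instance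

section scheme

open Groth.Agent.AssSch12

variable {X : Scheme.{u}} [IsLocallyNoetherian X]

theorem dim_le_one (U : X.Opens) [IsAffineHom U.ι] (ξ : X) (hξ : ξ ∉ U)
    (hgen : ∀ y : X, y ∉ U → y ⤳ ξ → y = ξ) : ringKrullDim (X.presheaf.stalk ξ) ≤ 1 := by
  refine dim_le_one_of_isAffine _ ?_
  let g := X.fromSpecStalk ξ
  haveI := ModPairLib.isAffineHom_preimage g U
  haveI : IsAffine (g ⁻¹ᵁ U).toScheme := isAffine_of_isAffineHom (g ⁻¹ᵁ U).ι
  have : g ⁻¹ᵁ U = FEt.puncturedSpec (X.presheaf.stalk ξ) := by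
    refine Opens.ext (Set.ext fun z => ?_)
    constructor
    · intro hz hc
      rw [show z = closedPoint _ from hc] at hz
      exact hξ (Scheme.fromSpecStalk_closedPoint (x := ξ) ▸ hz)
    · intro hz
      by_contra hzU
      have hs : g z ⤳ ξ := by
        have := (Scheme.range_fromSpecStalk (x := ξ)).le ⟨z, rfl⟩
        exact this
      exact hz (g.isEmbedding.injective ((hgen _ hzU hs).trans Scheme.fromSpecStalk_closedPoint.symm))
  exact this ▸ (‹IsAffine (g ⁻¹ᵁ U).toScheme› : IsAffineOpen (g ⁻¹ᵁ U))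

theorem one_le_dim (U : X.Opens) (ξ : X) (hξ : ξ ∉ U) (hcl : ξ ∈ closure (U : Set X)) :
    1 ≤ ringKrullDim (X.presheaf.stalk ξ) := by
  classical
  by_contra hlt
  obtain ⟨_, ⟨V, hV, rfl⟩, hη, -⟩ :=
    X.isBasis_affineOpens.exists_subset_of_mem_open (Set.mem_univ ξ) isOpen_univ
  haveI := isNoetherianRing_of_isAffineOpen hV
  haveI : (primeAt hV hη).IsPrime := (hV.primeIdealOf ⟨ξ, hη⟩).2
  letI := X.presheaf.algebra_section_stalk (⟨ξ, hη⟩ : V)
  haveI : IsLocalization.AtPrime (X.presheaf.stalk ξ) (primeAt hV hη) := hV.isLocalization_stalk ⟨ξ, hη⟩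
  have hmin : primeAt hV hη ∈ minimalPrimes Γ(X, V) := by
    rw [← Ideal.height_eq_zero_iff]
    by_contra h0
    refine hlt ?_
    rw [IsLocalization.AtPrime.ringKrullDim_eq_height (primeAt hV hη)]
    exact WithBot.coe_le_coe.2 (Order.one_le_iff_pos.2 (pos_iff_ne_zero.2 h0))
  let M := (minimalPrimes.finite_of_isNoetherianRing Γ(X, V)).toFinset.erase (primeAt hV hη)
  have hex : ∀ m ∈ M, ∃ g, g ∈ m ∧ g ∉ primeAt hV hη := by
    intro m hm
    obtain ⟨hne, hm⟩ := Finset.mem_erase.1 hm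
    rw [Set.Finite.mem_toFinset] at hm
    exact SetLike.not_le_iff_exists.1 fun hle => hne (le_antisymm hle (hmin.2 hm.1 hle))
  choose! g hgm hgη using hex
  let G := ∏ m ∈ M, g m
  have hG : G ∉ primeAt hV hη := fun h => by
    obtain ⟨m, hm, hmem⟩ := Ideal.IsPrime.prod_mem_iff.1 h
    exact hgη m hm hmem
  obtain ⟨y, hyG, hyU⟩ := mem_closure_iff.1 hcl _ (X.basicOpen G).isOpen ((notMem_primeAt_iff hV hη G).1 hG)
  have hy : y ∈ V := X.basicOpen_le G hyG
  obtain ⟨m, hm, hle⟩ := Ideal.exists_minimalPrimes_le (I := ⊥) (J := primeAt hV hy) bot_le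
  haveI : (primeAt hV hy).IsPrime := (hV.primeIdealOf ⟨y, hy⟩).2
  have hmeq : m = primeAt hV hη := by
    by_contra hne
    have hmM : m ∈ M := Finset.mem_erase.2 ⟨hne, (Set.Finite.mem_toFinset _).2 hm⟩
    exact (notMem_primeAt_iff hV hy G).2 hyG
      (hle (Ideal.mem_of_dvd _ (Finset.dvd_prod_of_mem g hmM) (hgm m hmM)))
  exact hξ (((specializes_iff hV hη hy).2 (hmeq ▸ hle)).mem_open U.isOpen hyU)

end scheme

end Groth.Agent.SDiv28.Punctured
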