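import Groth.Agent.FlatMor12.RegularExtend
import Groth.Agent.FlatMorSlice.Bridge
import Groth.Agent.CAlgH3.RegularCore
import Groth.Agent.HilbertBurch5.Basic
import Groth.Agent.SDiv28.SmoothRegImm
import Groth.Agent.SDiv28.WeakAssUnit
import Groth.Agent.ModPairLib.EffCartier
import Groth.Agent.Misc15.DivDescentSheaf
import Groth.Prelude.Def_CInt
import Mathlib

/-!
# Fibrewise regular pairs and extension of sections across them (no Noetherian, no compactness)
-/

set_option autoImplicit false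
set_option backward.isDefEq.respectTransparency false
set_option linter.style.haveILetI false
universe u

open CategoryTheory CategoryTheory.Limits AlgebraicGeometry TopologicalSpace Opposite
open Groth.Agent.FlatMor12.RegularExtend (res res_res)

namespace Groth.Agent.SDiv28.RegPairExtend

variable {X S : Scheme.{u}}

/-- Sections `a`, `b` of `V` form a regular pair at every point of `V`. -/
def RegPairOn (V : X.Opens) (a b : Γ(X, V)) : Prop :=
  ∀ (y : X) (hy : y ∈ V), IsSMulRegular (X.presheaf.stalk y) (X.presheaf.germ V y hy a) ∧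
    ∀ w, X.presheaf.germ V y hy a ∣ X.presheaf.germ V y hy b * w → X.presheaf.germ V y hy a ∣ w

/-- Near `z` there is a regular pair vanishing at `z`. -/
def HasRegPair (z : X) : Prop :=
  ∃ (V : X.Opens) (hV : IsAffineOpen V) (hz : z ∈ V) (a b : Γ(X, V)),
    z ∉ X.basicOpen a ∧ z ∉ X.basicOpen b ∧ RegPairOn V a b

theorem RegPairOn.res {V W : X.Opens} {a b : Γ(X, V)} (h : RegPairOn V a b) (e : W ≤ V) :
    RegPairOn W (res e a) (res e b) := fun y hy => by
  rw [show X.presheaf.germ W y hy (FlatMor12.RegularExtend.res e a) = X.presheaf.germ V y (e hy) a from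
      TopCat.Presheaf.germ_res_apply _ _ _ _ _,
    show X.presheaf.germ W y hy (FlatMor12.RegularExtend.res e b) = X.presheaf.germ V y (e hy) b from
      TopCat.Presheaf.germ_res_apply _ _ _ _ _]
  exact h y (e hy)

theorem exists_regPair_nhd (f : X ⟶ S) [Smooth f] (x : X)
    (hx : (2 : WithBot ℕ∞) ≤ ringKrullDim (CInt.fiberStalk f x)) : HasRegPair x := by
  haveI := SDiv28.SmoothRegImm.isRegularLocalRing_fiberStalk f x
  have hdepth : (2 : ℕ∞) ≤ _root_.LocCoh.depth (CInt.fiberStalk f x) (CInt.fiberStalk f x) := by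
    rw [← CAlgH3.depth_eq_ringKrullDim] at hx
    exact WithBot.coe_le_coe.1 hx
  obtain ⟨rs, hlen, hmem, hreg⟩ := HilbertBurch5.exists_regular_pair
    (IsLocalRing.maximalIdeal.isMaximal _).ne_top hdepth
  obtain ⟨r₁, r₂, rfl⟩ := List.length_eq_two.1 hlen
  obtain ⟨_, ⟨V, hV, rfl⟩, hxV, -⟩ :=
    S.isBasis_affineOpens.exists_subset_of_mem_open (Set.mem_univ (f x)) isOpen_univ
  obtain ⟨_, ⟨U, hU, rfl⟩, hxU, hUV⟩ :=
    X.isBasis_affineOpens.exists_subset_of_mem_open (show x ∈ f ⁻¹ᵁ V from hxV) (f ⁻¹ᵁ V).isOpen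
  have hfin := LocallyOfFinitePresentation.finitePresentation_appLE f hV hU hUV
  letI := (f.appLE V U hUV).hom.toAlgebra
  haveI : Algebra.FinitePresentation Γ(S, V) Γ(X, U) := hfin
  obtain ⟨ψ, hψ⟩ := FlatMorSlice.exists_fibPres f hV hU hUV hxU
  let q := (hU.primeIdealOf ⟨x, hxU⟩).asIdeal
  have hq : Module.Flat Γ(S, V) (LocalizedModule q.primeCompl Γ(X, U)) :=
    FlatMorSlice.flat_localized_of_stalkMap f hV hU hUV hxU (Flat.stalkMap f x)
  obtain ⟨b₁, c₁, hc₁, hb₁⟩ := hψ.surj r₁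
  obtain ⟨b₂, c₂, hc₂, hb₂⟩ := hψ.surj r₂
  have hw := hreg.toIsWeaklyRegular
  have hreg₁ : IsSMulRegular _ r₁ := ((RingTheory.Sequence.isWeaklyRegular_cons_iff _ _ _).1 hw).1
  have hfib : FlatMorSlice.FibReg Γ(S, V) q [b₁, b₂] := by
    intro i hi y hy
    rcases i with _ | _ | i
    · simp only [List.take_zero, Ideal.ofList_nil, List.getElem_cons_zero] at hy ⊢
      have h1 := (hψ.mem_map_iff ⊥ (b₁ * y)).2 hy
      rw [Ideal.map_bot, Ideal.mem_bot, map_mul, ← hb₁, mul_assoc] at h1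
      have h2 : ψ c₁ * ψ y = 0 := hreg₁ (by simpa [smul_eq_mul] using h1)
      exact (hψ.mem_map_iff ⊥ y).1 (by rw [Ideal.map_bot, Ideal.mem_bot]; exact (hψ.unit c₁ hc₁).mul_right_eq_zero.1 h2)
    · simp only [List.take_succ_cons, List.take_zero, Ideal.ofList_singleton, List.getElem_cons_succ,
        List.getElem_cons_zero] at hy ⊢
      have h1 := (hψ.mem_map_iff (Ideal.span {b₁}) (b₂ * y)).2 hy
      have hspan : (Ideal.span {b₁}).map ψ = Ideal.span {r₁} := by
        rw [Ideal.map_span, Set.image_singleton, ← hb₁, Ideal.span_singleton_mul_right_unit (hψ.unit c₁ hc₁)]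
      rw [hspan, Ideal.mem_span_singleton, map_mul, ← hb₂, mul_comm r₂, mul_assoc,
        (hψ.unit c₂ hc₂).dvd_mul_left] at h1
      exact (hψ.mem_map_iff (Ideal.span {b₁}) y).1 (by
        rw [hspan, Ideal.mem_span_singleton]
        exact FlatMor12.RegularExtend.dvd_of_dvd_mul_of_isWeaklyRegular hw h1)
    · simp at hi
  obtain ⟨c, hc, htor, -⟩ :=
    FlatMorSlice.exists_regular_sequence (hU.primeIdealOf ⟨x, hxU⟩) hq [b₁, b₂] hfib
  have hmemq : ∀ {r : CInt.fiberStalk f x} {b d}, r ∈ IsLocalRing.maximalIdeal (CInt.fiberStalk f x) →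
      r * ψ d = ψ b → b ∈ q := fun {r b d} hr h => by
    by_contra hb
    exact hr (isUnit_of_mul_isUnit_left (h.symm ▸ hψ.unit b hb))
  have hnot : ∀ b ∈ q, x ∉ X.basicOpen b := fun b hb hxb =>
    (AssSch12.notMem_primeAt_iff hU hxU b).2 hxb hb
  refine ⟨X.basicOpen c, hU.basicOpen c, (AssSch12.notMem_primeAt_iff hU hxU c).1 hc,
    res (X.basicOpen_le c) b₁, res (X.basicOpen_le c) b₂, fun h => ?_, fun h => ?_, fun y hy => ?_⟩
  · rw [Scheme.basicOpen_res] at h
    exact hnot b₁ (hmemq (hmem r₁ (by simp)) hb₁) h.2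
  · rw [Scheme.basicOpen_res] at h
    exact hnot b₂ (hmemq (hmem r₂ (by simp)) hb₂) h.2
  · have hyU := X.basicOpen_le c hy
    rw [show X.presheaf.germ _ y hy (res (X.basicOpen_le c) b₁) = X.presheaf.germ U y hyU b₁ from
        TopCat.Presheaf.germ_res_apply _ _ _ _ _,
      show X.presheaf.germ _ y hy (res (X.basicOpen_le c) b₂) = X.presheaf.germ U y hyU b₂ from
        TopCat.Presheaf.germ_res_apply _ _ _ _ _]
    letI := X.presheaf.algebra_section_stalk (⟨y, hyU⟩ : U)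
    haveI := hU.isLocalization_stalk ⟨y, hyU⟩
    let P := (hU.primeIdealOf ⟨y, hyU⟩).asIdeal
    have hcu : IsUnit (algebraMap Γ(X, U) (X.presheaf.stalk y) c) := (X.mem_basicOpen _ _ hyU).1 hy
    show IsSMulRegular _ (algebraMap Γ(X, U) (X.presheaf.stalk y) b₁) ∧ ∀ w,
      algebraMap Γ(X, U) (X.presheaf.stalk y) b₁ ∣ algebraMap Γ(X, U) (X.presheaf.stalk y) b₂ * w →
        algebraMap Γ(X, U) (X.presheaf.stalk y) b₁ ∣ w
    refine ⟨isSMulRegular_iff_right_eq_zero_of_smul.2 fun w hw => ?_, fun w hw => ?_⟩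
    · obtain ⟨⟨z, t⟩, hz⟩ := IsLocalization.surj P.primeCompl w
      have h0 : algebraMap Γ(X, U) (X.presheaf.stalk y) (b₁ * z) = 0 := by
        rw [map_mul, ← hz, ← mul_assoc, ← smul_eq_mul _ w, hw, zero_mul]
      obtain ⟨d, hd⟩ := (IsLocalization.map_eq_zero_iff P.primeCompl _ _).1 h0
      obtain ⟨k, hk⟩ := htor 0 (by simp) (d * z) (by
        simp only [List.take_zero, Ideal.ofList_nil, List.getElem_cons_zero, Ideal.mem_bot]
        rw [← hd]; ring)
      simp only [List.take_zero, Ideal.ofList_nil, Ideal.mem_bot] at hk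
      have h2 := congrArg (algebraMap Γ(X, U) (X.presheaf.stalk y)) hk
      rw [map_mul, map_mul, map_zero, map_pow, (hcu.pow k).mul_right_eq_zero,
        (IsLocalization.map_units (X.presheaf.stalk y) d).mul_right_eq_zero, ← hz] at h2
      exact (IsLocalization.map_units (X.presheaf.stalk y) t).mul_left_eq_zero.1 h2
    · obtain ⟨e, he⟩ := hw
      obtain ⟨⟨z, t⟩, hz⟩ := IsLocalization.surj P.primeCompl w
      obtain ⟨⟨g, s⟩, hg⟩ := IsLocalization.surj P.primeCompl e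
      have h0 : algebraMap Γ(X, U) (X.presheaf.stalk y) (b₂ * z * s) =
          algebraMap Γ(X, U) (X.presheaf.stalk y) (b₁ * g * t) := by
        simp only [map_mul, ← hz, ← hg]
        linear_combination (algebraMap Γ(X, U) (X.presheaf.stalk y) t * algebraMap Γ(X, U) (X.presheaf.stalk y) s) * he
      obtain ⟨d, hd⟩ := (IsLocalization.eq_iff_exists P.primeCompl _).1 h0
      obtain ⟨k, hk⟩ := htor 1 (by simp) (d * z * s) (by
        simp only [List.take_succ_cons, List.take_zero, Ideal.ofList_singleton, List.getElem_cons_succ,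
          List.getElem_cons_zero, Ideal.mem_span_singleton]
        exact ⟨d * g * t, by linear_combination hd⟩)
      simp only [List.take_succ_cons, List.take_zero, Ideal.ofList_singleton, Ideal.mem_span_singleton] at hk
      have h2 := map_dvd (algebraMap Γ(X, U) (X.presheaf.stalk y)) hk
      simp only [map_mul, map_pow, ← hz] at h2
      rw [(hcu.pow k).dvd_mul_left, (IsLocalization.map_units (X.presheaf.stalk y) s).dvd_mul_right,
        (IsLocalization.map_units (X.presheaf.stalk y) d).dvd_mul_left,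
        (IsLocalization.map_units (X.presheaf.stalk y) t).dvd_mul_right] at h2
      exact h2

theorem two_le_depth {z : X} (h : HasRegPair z) :
    (2 : ℕ∞) ≤ _root_.LocCoh.depth (X.presheaf.stalk z) (X.presheaf.stalk z) := by
  obtain ⟨V, hV, hz, a, b, ha, hb, hab⟩ := h
  obtain ⟨h1, h2⟩ := hab z hz
  let α := X.presheaf.germ V z hz a
  let β := X.presheaf.germ V z hz b
  have hα : α ∈ IsLocalRing.maximalIdeal (X.presheaf.stalk z) := fun hu => ha ((X.mem_basicOpen _ _ hz).2 hu)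
  have hβ : β ∈ IsLocalRing.maximalIdeal (X.presheaf.stalk z) := fun hu => hb ((X.mem_basicOpen _ _ hz).2 hu)
  have key : ∀ y : X.presheaf.stalk z, Submodule.Quotient.mk
      (p := Submodule.map (LinearMap.lsmul (X.presheaf.stalk z) (X.presheaf.stalk z) α) ⊤) y = 0 ↔ α ∣ y :=
    fun y => by
      rw [Submodule.Quotient.mk_eq_zero, Submodule.mem_map]
      exact ⟨fun ⟨c, _, hc⟩ => ⟨c, hc.symm⟩, fun ⟨c, hc⟩ => ⟨c, trivial, hc.symm⟩⟩
  have hreg : RingTheory.Sequence.IsWeaklyRegular (X.presheaf.stalk z) [α, β] := by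
    refine (RingTheory.Sequence.isWeaklyRegular_cons_iff _ _ _).2 ⟨h1, ?_⟩
    refine (RingTheory.Sequence.isWeaklyRegular_singleton_iff _ _).2 ?_
    refine isSMulRegular_iff_right_eq_zero_of_smul.2 fun w hw => ?_
    induction w using Submodule.Quotient.induction_on with
    | _ w =>
      rw [← Submodule.Quotient.mk_smul, Submodule.Quotient.mk_eq_zero,
        Submodule.mem_smul_pointwise_iff_exists] at hw
      obtain ⟨c, -, hc⟩ := hw
      obtain ⟨d, hd⟩ := h2 w ⟨c, hc.symm⟩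
      rw [Submodule.Quotient.mk_eq_zero, Submodule.mem_smul_pointwise_iff_exists]
      exact ⟨d, trivial, hd.symm⟩
  rw [_root_.LocCoh.depth, _root_.LocCoh.idealDepth, if_neg (show ¬ (IsLocalRing.maximalIdeal (X.presheaf.stalk z) •
    (⊤ : Submodule (X.presheaf.stalk z) (X.presheaf.stalk z)) = ⊤) by
      rw [smul_eq_mul, Ideal.mul_top]; exact (IsLocalRing.maximalIdeal.isMaximal _).ne_top)]
  refine le_trans ?_ (le_iSup₂ [α, β] ⟨hreg, fun r hr => ?_⟩)
  · rfl
  · simp only [List.mem_cons, List.not_mem_nil, or_false] at hr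
    rcases hr with rfl | rfl
    exacts [hα, hβ]

variable {U : X.Opens} (hU : ModPairLib.IsDenseOpen U)

include hU in
theorem res_injective {O : X.Opens} {t₁ t₂ : Γ(X, O)}
    (h : res (inf_le_right : U ⊓ O ≤ O) t₁ = res (inf_le_right : U ⊓ O ≤ O) t₂) : t₁ = t₂ := by
  rw [← sub_eq_zero]
  refine hU O _ ?_
  have h' := congrArg (res (le_of_eq (inf_comm O U))) h
  rw [res_res, res_res] at h'
  rw [map_sub, sub_eq_zero]
  exact h'

include hU in
theorem exists_glue {V : X.Opens} (s : Γ(X, U ⊓ V)) (O : X.Opens)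
    (hO : O ≤ V) (h : ∀ x ∈ O, ∃ (O' : X.Opens) (hO' : O' ≤ V), x ∈ O' ∧
      ∃ t : Γ(X, O'), res (inf_le_right : U ⊓ O' ≤ O') t = res (inf_le_inf le_rfl hO') s) :
    ∃ t : Γ(X, O), res (inf_le_right : U ⊓ O ≤ O) t = res (inf_le_inf le_rfl hO) s := by
  choose O' hO' hxO' t ht using fun x : O => h x.1 x.2
  let W : O → X.Opens := fun x => O' x ⊓ O
  let sf : ∀ x, Γ(X, W x) := fun x => res inf_le_left (t x)
  have hsf : ∀ x, res (inf_le_right : U ⊓ W x ≤ W x) (sf x) =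
      res (inf_le_inf le_rfl (inf_le_left.trans (hO' x))) s := fun x => by
    have := congrArg (res (inf_le_inf le_rfl inf_le_left : U ⊓ W x ≤ U ⊓ O' x)) (ht x)
    rw [res_res, res_res] at this
    exact (res_res _ _ _).trans this
  have hcompat : TopCat.Presheaf.IsCompatible X.sheaf.1 W sf := fun x y => by
    refine res_injective hU ?_
    have h1 := congrArg (res (inf_le_inf le_rfl inf_le_left : U ⊓ (W x ⊓ W y) ≤ U ⊓ W x)) (hsf x)
    have h2 := congrArg (res (inf_le_inf le_rfl inf_le_right : U ⊓ (W x ⊓ W y) ≤ U ⊓ W y)) (hsf y)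
    replace h1 := ((res_res _ _ (sf x)).symm.trans h1).trans (res_res _ _ s)
    replace h2 := ((res_res _ _ (sf y)).symm.trans h2).trans (res_res _ _ s)
    exact ((res_res _ _ (sf x)).trans (h1.trans h2.symm)).trans (res_res _ _ (sf y)).symm
  obtain ⟨g, hg, -⟩ := X.sheaf.existsUnique_gluing' W O (fun x => homOfLE inf_le_right)
    (fun x hx => Opens.mem_iSup.2 ⟨⟨x, hx⟩, hxO' ⟨x, hx⟩, hx⟩) sf hcompat
  refine ⟨g, X.sheaf.eq_of_locally_eq' (fun x => U ⊓ W x) (U ⊓ O)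
    (fun x => homOfLE (inf_le_inf le_rfl inf_le_right)) (fun x hx => Opens.mem_iSup.2
      ⟨⟨x, hx.2⟩, hx.1, hxO' ⟨x, hx.2⟩, hx.2⟩) _ _ fun x => ?_⟩
  have := congrArg (res (inf_le_right : U ⊓ W x ≤ W x)) (show res inf_le_right g = sf x from hg x)
  rw [res_res, hsf x] at this
  exact ((res_res _ _ _).trans this).trans (res_res _ _ _).symm

/-- A section vanishing where a germwise regular element is invertible vanishes. -/
theorem eq_zero_of_regular {A O : X.Opens} (hOA : O ≤ A) (a : Γ(X, A))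
    (ha : ∀ (y : X) (hy : y ∈ A), IsSMulRegular (X.presheaf.stalk y) (X.presheaf.germ A y hy a))
    (d : Γ(X, O)) (hd : res (inf_le_left : O ⊓ X.basicOpen a ≤ O) d = 0) : d = 0 := by
  refine TopCat.Presheaf.section_ext X.sheaf O d 0 fun y hy => ?_
  show X.presheaf.germ O y hy d = X.presheaf.germ O y hy 0
  rw [map_zero]
  obtain ⟨_, ⟨W, hW, rfl⟩, hyW, hWO⟩ := X.isBasis_affineOpens.exists_subset_of_mem_open hy O.isOpen
  have hWO' : W ≤ O := hWO
  haveI := hW.isLocalization_basicOpen (res (hWO'.trans hOA) a)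
  have h0 : algebraMap Γ(X, W) Γ(X, X.basicOpen (res (hWO'.trans hOA) a)) (res hWO' d) = 0 := by
    have hle : X.basicOpen (res (hWO'.trans hOA) a) ≤ O ⊓ X.basicOpen a := by
      rw [Scheme.basicOpen_res]; exact inf_le_inf_right _ hWO'
    have h' := congrArg (res hle) hd
    rw [res_res, map_zero] at h'
    exact (res_res _ _ d).trans h'
  obtain ⟨⟨_, n, rfl⟩, hn⟩ :=
    (IsLocalization.map_eq_zero_iff (Submonoid.powers (res (hWO'.trans hOA) a)) _ _).1 h0
  have h1 := congrArg (X.presheaf.germ W y hyW) hn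
  rw [map_mul, map_zero, map_pow, TopCat.Presheaf.germ_res_apply, TopCat.Presheaf.germ_res_apply] at h1
  exact isSMulRegular_iff_right_eq_zero_of_smul.1 ((ha y (hOA hy)).pow n) _ h1

include hU in
theorem exists_extend (hP : ∀ z : X, z ∉ U → HasRegPair z) {V : X.Opens} (hV : IsAffineOpen V)
    (s : Γ(X, U ⊓ V)) : ∃ t : Γ(X, V), res (inf_le_right : U ⊓ V ≤ V) t = s := by
  classical
  let Good : X.Opens → Prop := fun O => ∃ (hO : O ≤ V) (t : Γ(X, O)),
    res (inf_le_right : U ⊓ O ≤ O) t = res (inf_le_inf le_rfl hO) s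
  suffices key : ∀ x ∈ V, ∃ O, Good O ∧ x ∈ O by
    obtain ⟨t, ht⟩ := exists_glue hU s V le_rfl fun x hx => by
      obtain ⟨O, ⟨hO, t, ht⟩, hxO⟩ := key x hx
      exact ⟨O, hO, hxO, t, ht⟩
    refine ⟨t, ht.trans ?_⟩
    show (X.presheaf.map _) s = s
    rw [show (homOfLE (inf_le_inf le_rfl le_rfl : U ⊓ V ≤ U ⊓ V)).op = 𝟙 _ from Subsingleton.elim _ _,
      X.presheaf.map_id]
    rfl
  let W : X.Opens := ⨆ O : {O // Good O}, O.1
  have hWmem : ∀ x, x ∈ W ↔ ∃ O, Good O ∧ x ∈ O := fun x => by simp [W, Opens.mem_iSup]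
  have hWgood : ∀ O ≤ V, O ≤ W → Good O := fun O hO hOW => by
    obtain ⟨t, ht⟩ := exists_glue hU s O hO fun x hx => by
      obtain ⟨O', ⟨hO', t, ht⟩, hxO⟩ := (hWmem x).1 (hOW hx)
      exact ⟨O', hO', hxO, t, ht⟩
    exact ⟨hO, t, ht⟩
  intro x hx
  by_contra hxW
  -- a generic point of the bad locus
  obtain ⟨z, hzV, hzW, hgen⟩ : ∃ z ∈ V, z ∉ W ∧ ∀ y ∈ V, y ∉ W → y ⤳ z → y = z := by
    let I : Ideal Γ(X, V) := PrimeSpectrum.vanishingIdeal (hV.fromSpec ⁻¹' (W : Set X))ᶜ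
    have hI : ∀ p : PrimeSpectrum Γ(X, V), I ≤ p.asIdeal ↔ hV.fromSpec p ∉ W := fun p => by
      have hcl : PrimeSpectrum.zeroLocus (I : Set Γ(X, V)) = (hV.fromSpec ⁻¹' (W : Set X))ᶜ := by
        rw [PrimeSpectrum.zeroLocus_vanishingIdeal_eq_closure]
        exact (W.isOpen.preimage hV.fromSpec.continuous).isClosed_compl.closure_eq
      exact Iff.of_eq congr(p ∈ $hcl)
    have hI' : ∀ (y : X) (hy : y ∈ V), I ≤ AssSch12.primeAt hV hy ↔ y ∉ W := fun y hy => by
      refine (hI (hV.primeIdealOf ⟨y, hy⟩)).trans ?_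
      rw [hV.fromSpec_primeIdealOf]
    haveI : (AssSch12.primeAt hV hx).IsPrime := (hV.primeIdealOf ⟨x, hx⟩).2
    obtain ⟨q, hq, -⟩ := Ideal.exists_minimalPrimes_le
      ((hI' x hx).2 fun h => hxW ((hWmem x).1 h))
    haveI := hq.1.1
    obtain ⟨z, hz, rfl⟩ := AssSch12.exists_point hV q
    refine ⟨z, hz, (hI' z hz).1 hq.1.2, fun y hy hyW hyz => ?_⟩
    have hle := (AssSch12.specializes_iff hV hy hz).1 hyz
    exact eq_of_primeAt_eq hV hy hz
      (le_antisymm hle (hq.2 ⟨(hV.primeIdealOf ⟨y, hy⟩).2, (hI' y hy).2 hyW⟩ hle))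
  have hzU : z ∉ U := fun h => hzW ((hWmem z).2 ⟨U ⊓ V, ⟨inf_le_right, s,
    congrArg (fun e => (X.presheaf.map e) s) (Subsingleton.elim _ _)⟩, h, hzV⟩)
  obtain ⟨V₀, hV₀, hzV₀, a₀, b₀, ha₀, hb₀, hab₀⟩ := hP z hzU
  obtain ⟨_, ⟨V₁, hV₁, rfl⟩, hzV₁, hV₁le⟩ :=
    X.isBasis_affineOpens.exists_subset_of_mem_open (show z ∈ V₀ ⊓ V from ⟨hzV₀, hzV⟩) (V₀ ⊓ V).isOpen
  have hle₀ : V₁ ≤ V₀ := fun p hp => (hV₁le hp).1
  have hle : V₁ ≤ V := fun p hp => (hV₁le hp).2
  -- near `z` the loci where `a₀`, `b₀` are invertible are good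
  have hopen : ∀ g : Γ(X, V₀), z ∉ X.basicOpen g →
      ∃ c : Γ(X, V₁), z ∈ X.basicOpen c ∧ X.basicOpen c ⊓ X.basicOpen g ≤ W := by
    intro g hg
    let r := res hle₀ g
    let I : Ideal Γ(X, V₁) := PrimeSpectrum.vanishingIdeal (hV₁.fromSpec ⁻¹' (W : Set X))ᶜ
    have hI : ∀ (y : X) (hy : y ∈ V₁), I ≤ AssSch12.primeAt hV₁ hy ↔ y ∉ W := fun y hy => by
      have hcl : PrimeSpectrum.zeroLocus (I : Set Γ(X, V₁)) = (hV₁.fromSpec ⁻¹' (W : Set X))ᶜ := by
        rw [PrimeSpectrum.zeroLocus_vanishingIdeal_eq_closure]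
        exact (W.isOpen.preimage hV₁.fromSpec.continuous).isClosed_compl.closure_eq
      refine (Iff.of_eq congr(hV₁.primeIdealOf ⟨y, hy⟩ ∈ $hcl)).trans ?_
      rw [Set.mem_compl_iff, Set.mem_preimage, hV₁.fromSpec_primeIdealOf]; rfl
    have hr : r ∈ AssSch12.primeAt hV₁ hzV₁ := by
      by_contra h
      have h' := (AssSch12.notMem_primeAt_iff hV₁ hzV₁ r).1 h
      rw [Scheme.basicOpen_res] at h'
      exact hg h'.2
    have hmin : AssSch12.primeAt hV₁ hzV₁ ∈ I.minimalPrimes := by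
      refine ⟨⟨(hV₁.primeIdealOf ⟨z, hzV₁⟩).2, (hI z hzV₁).2 hzW⟩, fun q hq hqle => ?_⟩
      haveI := hq.1
      obtain ⟨y, hy, rfl⟩ := AssSch12.exists_point hV₁ q
      obtain rfl := hgen y (hle hy) ((hI y hy).1 hq.2) ((AssSch12.specializes_iff hV₁ hy hzV₁).2 hqle)
      exact le_rfl
    obtain ⟨c, hc, n, hn⟩ := FlatMor12.RegularExtend.exists_pow_mul_mem_of_minimal hmin hr
    refine ⟨c, (AssSch12.notMem_primeAt_iff hV₁ hzV₁ c).1 hc, fun y hy => ?_⟩
    by_contra hyW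
    have hy₁ : y ∈ V₁ := X.basicOpen_le c hy.1
    haveI : (AssSch12.primeAt hV₁ hy₁).IsPrime := (hV₁.primeIdealOf ⟨y, hy₁⟩).2
    rcases Ideal.IsPrime.mem_or_mem ‹(AssSch12.primeAt hV₁ hy₁).IsPrime› ((hI y hy₁).2 hyW hn) with h | h
    · exact (AssSch12.notMem_primeAt_iff hV₁ hy₁ c).2 hy.1 h
    · refine (AssSch12.notMem_primeAt_iff hV₁ hy₁ r).2 ?_ (Ideal.IsPrime.mem_of_pow_mem ‹_› n h)
      rw [Scheme.basicOpen_res]; exact ⟨hy₁, hy.2⟩
  obtain ⟨c₁, hc₁, hc₁W⟩ := hopen a₀ ha₀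
  obtain ⟨c₂, hc₂, hc₂W⟩ := hopen b₀ hb₀
  let c := c₁ * c₂
  have hzc : z ∈ X.basicOpen c := by rw [X.basicOpen_mul]; exact ⟨hc₁, hc₂⟩
  let N := X.basicOpen c
  have hNV₀ : N ≤ V₀ := (X.basicOpen_le c).trans hle₀
  have hN : IsAffineOpen N := hV₁.basicOpen c
  let a := res hNV₀ a₀
  let b := res hNV₀ b₀
  have hab : RegPairOn N a b := hab₀.res hNV₀
  have hNc : N ≤ X.basicOpen c₁ ⊓ X.basicOpen c₂ := le_of_eq (X.basicOpen_mul _ _)
  have haW : X.basicOpen a ≤ W := by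
    rw [Scheme.basicOpen_res]; exact (inf_le_inf_right _ (hNc.trans inf_le_left)).trans hc₁W
  have hbW : X.basicOpen b ≤ W := by
    rw [Scheme.basicOpen_res]; exact (inf_le_inf_right _ (hNc.trans inf_le_right)).trans hc₂W
  have hNV : N ≤ V := (X.basicOpen_le c).trans hle
  obtain ⟨_, t₁, ht₁⟩ := hWgood _ ((X.basicOpen_le a).trans hNV) haW
  obtain ⟨_, t₂, ht₂⟩ := hWgood _ ((X.basicOpen_le b).trans hNV) hbW
  haveI := hN.isLocalization_basicOpen a
  haveI := hN.isLocalization_basicOpen b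
  obtain ⟨n, x₁, hx₁⟩ := IsLocalization.Away.surj a t₁
  obtain ⟨m, x₂, hx₂⟩ := IsLocalization.Away.surj b t₂
  have hle12 : X.basicOpen (a * b) ≤ X.basicOpen a ∧ X.basicOpen (a * b) ≤ X.basicOpen b := by
    rw [X.basicOpen_mul]; exact ⟨inf_le_left, inf_le_right⟩
  have h12 : res hle12.1 t₁ = res hle12.2 t₂ := by
    refine res_injective hU ?_
    have h1 := congrArg (res (inf_le_inf le_rfl hle12.1)) ht₁
    have h2 := congrArg (res (inf_le_inf le_rfl hle12.2)) ht₂
    rw [res_res, res_res] at h1 h2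
    exact ((res_res _ _ _).trans (h1.trans h2.symm)).trans (res_res _ _ _).symm
  have hA : ∀ {f g : Γ(X, N)} (h : X.basicOpen g ≤ X.basicOpen f) (r : Γ(X, N)),
      res h (algebraMap Γ(X, N) Γ(X, X.basicOpen f) r) = algebraMap Γ(X, N) Γ(X, X.basicOpen g) r :=
    fun h r => res_res (X.basicOpen_le _) h r
  obtain ⟨k, hk⟩ : ∃ k : ℕ, (a * b) ^ k * (x₁ * b ^ m - x₂ * a ^ n) = 0 := by
    haveI := hN.isLocalization_basicOpen (a * b)
    have : algebraMap Γ(X, N) Γ(X, X.basicOpen (a * b)) (x₁ * b ^ m - x₂ * a ^ n) = 0 := by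
      have e1 := congrArg (res hle12.1) hx₁
      have e2 := congrArg (res hle12.2) hx₂
      rw [map_mul, map_pow, hA, hA] at e1 e2
      rw [map_sub, map_mul, map_mul, map_pow, map_pow, ← e1, ← e2, h12]
      ring
    obtain ⟨⟨_, k, rfl⟩, hk⟩ := (IsLocalization.map_eq_zero_iff (Submonoid.powers (a * b)) _ _).1 this
    exact ⟨k, hk⟩
  have hreg : IsSMulRegular Γ(X, N) a := isSMulRegular_iff_right_eq_zero_of_smul.2 fun w hw =>
    TopCat.Presheaf.section_ext X.sheaf N w 0 fun y hy => by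
      show X.presheaf.germ N y hy w = X.presheaf.germ N y hy 0
      rw [map_zero]
      refine isSMulRegular_iff_right_eq_zero_of_smul.1 (hab y hy).1 _ ?_
      rw [smul_eq_mul, ← map_mul, show a * w = 0 from hw, map_zero]
  have hcancel : ∀ w, a ∣ b * w → a ∣ w := fun w hw => by
    rw [← Ideal.mem_span_singleton]
    refine Misc15.DivDescent.mem_of_germ ⟨N, hN⟩ _ fun y hy => ?_
    rw [Ideal.map_span, Set.image_singleton, Ideal.mem_span_singleton]
    refine (hab y hy).2 _ ?_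
    have h' := map_dvd (X.presheaf.germ N y hy).hom hw
    rwa [map_mul] at h'
  have hdvd : a ^ n ∣ x₁ := by
    refine FlatMor12.RegularExtend.pow_dvd_of_pow_dvd_mul hreg hcancel n (k + m) ?_
    have h1 : b ^ k * (x₁ * b ^ m - x₂ * a ^ n) = 0 :=
      (hreg.pow k) (by simp only [smul_eq_mul, mul_zero]; rw [← hk]; ring)
    exact ⟨b ^ k * x₂, by rw [pow_add]; linear_combination h1⟩
  obtain ⟨r, hr⟩ := hdvd
  have hrt : res (X.basicOpen_le a) r = t₁ := by
    have hu := IsLocalization.Away.algebraMap_isUnit (S := Γ(X, X.basicOpen a)) a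
    apply (hu.pow n).mul_left_injective
    show algebraMap Γ(X, N) Γ(X, X.basicOpen a) r * _ = t₁ * _
    rw [hx₁, hr, map_mul, map_pow, mul_comm]
  refine hzW ((hWmem z).2 ⟨N, ⟨hNV, r, ?_⟩, hzc⟩)
  rw [← sub_eq_zero]
  refine eq_zero_of_regular inf_le_right a (fun y hy => (hab y hy).1) _ ?_
  rw [map_sub, sub_eq_zero]
  have hle' : U ⊓ N ⊓ X.basicOpen a ≤ U ⊓ X.basicOpen a := inf_le_inf_right _ inf_le_left
  have h3 := congrArg (res hle') ht₁
  rw [← hrt, res_res, res_res, res_res] at h3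
  exact (res_res _ _ _).trans (h3.trans (res_res _ _ _).symm)

theorem isDenseOpen_preimage {P : Scheme.{u}} (j : P ⟶ X) [IsOpenImmersion j] (hU : ModPairLib.IsDenseOpen U) :
    ModPairLib.IsDenseOpen (j ⁻¹ᵁ U) := by
  intro W w hw
  have hinj : Function.Injective (j.appIso W).inv :=
    (ConcreteCategory.bijective_of_isIso (j.appIso W).inv).injective
  refine hinj ?_
  rw [map_zero]
  refine hU _ _ ?_
  have he : j ''ᵁ W ⊓ U ≤ j ''ᵁ (W ⊓ j ⁻¹ᵁ U) := fun p ⟨⟨q, hq, hqp⟩, hp⟩ =>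
    ⟨q, ⟨hq, show j q ∈ U from hqp.symm ▸ hp⟩, hqp⟩
  have hnat := congr($(Scheme.Hom.appIso_inv_naturality j (homOfLE (inf_le_left : W ⊓ j ⁻¹ᵁ U ≤ W)).op) w)
  simp only [CommRingCat.comp_apply] at hnat
  erw [hw, map_zero] at hnat
  have h' := congrArg (res he) hnat
  rw [map_zero] at h'
  exact (res_res _ he _).symm.trans h'.symm

include hU in
/-- Sections of affine morphisms extend uniquely. -/
theorem existsUnique_section (hP : ∀ z : X, z ∉ U → HasRegPair z) {Y : Scheme.{u}} (f : Y ⟶ X)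
    [IsAffineHom f] (t : U.toScheme ⟶ Y) (ht : t ≫ f = U.ι) :
    ∃! s : X ⟶ Y, s ≫ f = 𝟙 X ∧ U.ι ≫ s = t := by
  have hloc : ∀ V : X.affineOpens, ∃ s : V.1.toScheme ⟶ Y, s ≫ f = V.1.ι ∧
      pullback.snd U.ι V.1.ι ≫ s = pullback.fst U.ι V.1.ι ≫ t := by
    rintro ⟨V, hV⟩
    let j := pullback.snd U.ι V.ι
    have himg : j.opensRange = V.ι ⁻¹ᵁ U := by
      ext p
      show p ∈ Set.range j ↔ _
      rw [IsOpenImmersion.range_pullbackSnd, Scheme.Opens.opensRange_ι]
    have hbij : Function.Bijective (V.ι ⁻¹ᵁ U).ι.appTop := by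
      have eV : V.ι ''ᵁ ⊤ = V := by simp [Scheme.Hom.image_top_eq_opensRange]
      have eU : V.ι ''ᵁ ((V.ι ⁻¹ᵁ U).ι ''ᵁ ⊤) = U ⊓ V := by
        simp [Scheme.Hom.image_top_eq_opensRange, Scheme.Hom.image_preimage_eq_opensRange_inf, inf_comm]
      rw [Scheme.Opens.ι_appTop, Scheme.Opens.toScheme_presheaf_map]
      exact FlatMor12.RegularExtend.bijective_map_of_eq _ eV eU inf_le_right
        ⟨fun a b h => res_injective hU h, fun b => exists_extend hU hP hV b⟩
    let e := Scheme.Hom.isoOpensRange j ≪≫ V.toScheme.isoOfEq himg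
    have he : e.hom ≫ (V.ι ⁻¹ᵁ U).ι = j := by simp [e, j]
    haveI : IsAffine (f ⁻¹ᵁ V).toScheme := hV.preimage f
    let t' : (V.ι ⁻¹ᵁ U).toScheme ⟶ (f ⁻¹ᵁ V).toScheme :=
      IsOpenImmersion.lift (f ⁻¹ᵁ V).ι (e.inv ≫ pullback.fst U.ι V.ι ≫ t) (by
        rintro _ ⟨p, rfl⟩
        rw [Scheme.Opens.range_ι]
        show f _ ∈ V
        rw [← Scheme.Hom.comp_apply, Category.assoc, Category.assoc, ht, pullback.condition,
          Scheme.Hom.comp_apply]
        exact ((e.inv ≫ pullback.snd U.ι V.ι) p).2)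
    obtain ⟨s, hs⟩ := FlatMor12.RegularExtend.exists_factor_of_bijective_appTop _ hbij t'
    have hs' : j ≫ s ≫ (f ⁻¹ᵁ V).ι = pullback.fst U.ι V.ι ≫ t := by
      rw [← he, Category.assoc, reassoc_of% hs, IsOpenImmersion.lift_fac, Iso.hom_inv_id_assoc]
    refine ⟨s ≫ (f ⁻¹ᵁ V).ι, ?_, hs'⟩
    haveI : IsAffine V.toScheme := hV
    suffices s ≫ (f ∣_ V) = 𝟙 _ by
      rw [Category.assoc, ← morphismRestrict_ι, ← Category.assoc, this, Category.id_comp]
    refine (isDenseOpen_preimage V.ι hU).hom_ext (terminal.from _) (terminal.hom_ext _ _) ?_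
    rw [← cancel_mono V.ι, ← cancel_epi e.hom]
    simp only [Category.assoc, Category.id_comp, morphismRestrict_ι, reassoc_of% he]
    rw [reassoc_of% hs', ht, pullback.condition]
  choose s hs hs' using hloc
  let 𝒰 := X.openCoverOfIsOpenCover (fun V : X.affineOpens => V.1) (iSup_affineOpens_eq_top X)
  have hcompat : ∀ V V' : X.affineOpens, pullback.fst V.1.ι V'.1.ι ≫ s V = pullback.snd V.1.ι V'.1.ι ≫ s V' := by
    intro V V'
    let π := pullback.fst V.1.ι V'.1.ι ≫ V.1.ι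
    refine (isDenseOpen_preimage π hU).hom_ext f ?_ ?_
    · simp only [Category.assoc, hs, pullback.condition]
    · let O := π ⁻¹ᵁ U
      let u : O.toScheme ⟶ U.toScheme := π ∣_ U
      have hu : u ≫ U.ι = O.ι ≫ π := morphismRestrict_ι _ _
      let m : O.toScheme ⟶ pullback U.ι V.1.ι := pullback.lift u
        (O.ι ≫ pullback.fst _ _) (by rw [hu, Category.assoc])
      let m' : O.toScheme ⟶ pullback U.ι V'.1.ι := pullback.lift u
        (O.ι ≫ pullback.snd _ _) (by rw [hu, Category.assoc]; simp only [π, pullback.condition])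
      have h1 := congrArg (m ≫ ·) (hs' V)
      have h2 := congrArg (m' ≫ ·) (hs' V')
      simp only [m, m', pullback.lift_fst_assoc, pullback.lift_snd_assoc, Category.assoc] at h1 h2
      exact h1.trans h2.symm
  let σ : X ⟶ Y := 𝒰.glueMorphisms s hcompat
  have hσ : ∀ V : X.affineOpens, V.1.ι ≫ σ = s V := fun V => 𝒰.ι_glueMorphisms s hcompat V
  have hσf : σ ≫ f = 𝟙 X := 𝒰.hom_ext _ _ fun V => by
    show V.1.ι ≫ σ ≫ f = V.1.ι ≫ 𝟙 X
    rw [← Category.assoc, hσ, hs, Category.comp_id]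
  have hσt : U.ι ≫ σ = t := by
    refine Scheme.Cover.hom_ext (𝒰.pullback₁ U.ι) _ _ fun V => ?_
    show pullback.fst U.ι V.1.ι ≫ U.ι ≫ σ = pullback.fst U.ι V.1.ι ≫ t
    rw [← hs' V, pullback.condition_assoc, hσ]
  exact ⟨σ, ⟨hσf, hσt⟩, fun σ' h => hU.hom_ext f (h.1.trans hσf.symm) (h.2.trans hσt.symm)⟩

end Groth.Agent.SDiv28.RegPairExtend
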