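import Groth.Agent.SDiv28.MeroReg
import Groth.Agent.ModPairLib.EffCartier
import Groth.Agent.BlowUpLib.Proper
import Mathlib

/-!
# Pull back of effective Cartier ideals avoiding weakly associated points; reducedness of blow-ups
-/

set_option autoImplicit false
set_option backward.isDefEq.respectTransparency.types false
universe u

open CategoryTheory AlgebraicGeometry Opposite TopologicalSpace

namespace Groth.Agent.SDiv28

variable {X Y : Scheme.{u}}

theorem isDenseOpen_of_weakAss_mem (U : X.Opens)
    (h : ∀ x : X, Curv2.IsWeakAssPoint (Coh.structureModule X) x → x ∈ U) :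
    ModPairLib.IsDenseOpen U := by
  refine ModPairLib.IsDenseOpen.of_local fun x => ⟨⊤, trivial, fun W _ s hs => ?_⟩
  apply TopCat.Presheaf.section_ext X.sheaf
  intro y hy
  show X.presheaf.germ W.1 y hy s = X.presheaf.germ W.1 y hy 0
  rw [map_zero]
  refine germ_eq_zero_of_weak W.2 s (fun z hz hzw => ?_) hy
  have h1 := congrArg (X.presheaf.germ (W.1 ⊓ U) z ⟨hz, h z hzw⟩) hs
  rw [map_zero] at h1
  exact (TopCat.Presheaf.germ_res_apply X.presheaf (homOfLE inf_le_left) z _ s).symm.trans h1

theorem isEffCartier_comap_of_weakAss {I : Y.IdealSheafData} (hI : BlowUp.IsEffCartierIdeal I)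
    (f : X ⟶ Y) (h : ∀ x : X, Curv2.IsWeakAssPoint (Coh.structureModule X) x → f x ∉ I.support) :
    BlowUp.IsEffCartierIdeal (I.comap f) :=
  ModPairLib.isEffCartier_comap_of_dense hI f (isDenseOpen_of_weakAss_mem _ h)

theorem isReduced_of_isBlowUp [IsReduced X] {X' : Scheme.{u}} {I : X.IdealSheafData} {b : X' ⟶ X}
    (hb : BlowUp.IsBlowUp b I) : IsReduced X' := by
  obtain ⟨e, -⟩ := BlowUpLib.exists_iso_of_isBlowUp hb (BlowUpLib.isBlowUp_blowUpMap (I := I))
  have hB : IsReduced (BlowUpLib.B I) := by
    have : ∀ x : BlowUpLib.B I, _root_.IsReduced ((BlowUpLib.B I).presheaf.stalk x) := fun x => by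
      obtain ⟨i, y, rfl⟩ := BlowUpLib.exists_chartι x
      have : _root_.IsReduced (BlowUpLib.ChartRing I i.1 i.2.1) :=
        isReduced_of_injective (Subalgebra.val _) Subtype.val_injective
      have : IsReduced (BlowUpLib.C I i) :=
        inferInstanceAs (IsReduced (Spec (CommRingCat.of (BlowUpLib.ChartRing I i.1 i.2.1))))
      exact isReduced_of_injective _
        (asIso ((BlowUpLib.chartι i).stalkMap y)).commRingCatIsoToRingEquiv.injective
    exact isReduced_of_isReduced_stalk (BlowUpLib.B I)
  exact isReduced_of_isOpenImmersion e.hom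

end Groth.Agent.SDiv28
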