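import Groth.Agent.FlatMorDevissage.WeakAssBase
import Groth.Agent.SDiv28.WeakAssUnit
import Groth.Agent.CAlgH.RegularSmooth
import Groth.Prelude.Def_CInt
import Mathlib

/-!
# Weakly associated points of a smooth scheme over any base are generic in their fibres
-/

set_option autoImplicit false
set_option backward.isDefEq.respectTransparency.types false
set_option linter.style.haveILetI false
universe u

open CategoryTheory CategoryTheory.Limits AlgebraicGeometry
open scoped TensorProduct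

namespace Groth.Agent.SDiv28.SmoothWeakAss

attribute [local instance] Algebra.TensorProduct.rightAlgebra

theorem eq_of_le_of_weakAss (A B : Type u) [CommRing A] [CommRing B] [Algebra A B] [Algebra.Smooth A B]
    (q q' : Ideal B) [q.IsPrime] [q'.IsPrime] (hq : q ∈ FlatCA.weakAss B B) (hle : q' ≤ q)
    (hp : q'.under A = q.under A) : q' = q := by
  let p := q.under A
  haveI : q.LiesOver p := ⟨rfl⟩
  haveI : q'.LiesOver p := ⟨hp.symm⟩
  have hflat : FlatCA.FlatAt A q B := by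
    show Module.Flat A (LocalizedModule q.primeCompl B)
    infer_instance
  have hq1 : q ∈ FlatCA.weakAss B (B ⊗[A] A) := by
    obtain ⟨m, hm⟩ := hq
    let e : B ⊗[A] A ≃ₗ[B] B := TensorProduct.AlgebraTensorModule.rid A B B
    refine ⟨e.symm m, ?_⟩
    have : (Submodule.span B {e.symm m}).annihilator = (Submodule.span B {m}).annihilator := by
      ext b
      rw [Submodule.mem_annihilator_span_singleton, Submodule.mem_annihilator_span_singleton,
        ← map_smul, LinearEquiv.map_eq_zero_iff]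
    rwa [this]
  obtain ⟨-, hass⟩ := (FlatMorDevissage.mem_weakAss_tensor_iff (M := A) p q hflat).1 hq1
  let F := p.Fiber B
  haveI : IsReduced F := CAlgH.isReduced_of_smooth p.ResidueField F
  let e' : FlatCA.fiberMod p B B ≃ₗ[F] F := TensorProduct.AlgebraTensorModule.rid B F F
  rw [LinearEquiv.AssociatedPrimes.eq e'] at hass
  obtain ⟨hP, m, hm⟩ := hass
  have hm0 : m ∉ nilradical F := fun h => hP.ne_top ((Ideal.eq_top_iff_one _).2 (hm ▸ ⟨1, by
    rw [show m = 0 from IsReduced.eq_zero m h]; simp⟩))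
  rw [nilradical, ← Ideal.sInf_minimalPrimes, Submodule.mem_sInf] at hm0
  push Not at hm0
  obtain ⟨P1, hP1, hmP1⟩ := hm0
  have hle1 : FlatCA.fiberIdeal p q ≤ P1 := by
    intro a ha
    rw [hm] at ha
    obtain ⟨n, hn⟩ := ha
    rw [Submodule.mem_colon_singleton, Submodule.mem_bot, smul_eq_mul] at hn
    exact hP1.1.1.mem_of_pow_mem n ((hP1.1.1.mem_or_mem (hn ▸ zero_mem P1)).resolve_right hmP1)
  have hmin : FlatCA.fiberIdeal p q ∈ minimalPrimes F := by
    rwa [le_antisymm hle1 (hP1.2 ⟨hP, bot_le⟩ hle1)]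
  let α := PrimeSpectrum.primesOverOrderIsoFiber A B p
  have hPle : (⟨FlatCA.fiberIdeal p q, hP⟩ : PrimeSpectrum F) ≤ α ⟨q, ‹_›, ⟨rfl⟩⟩ := by
    show FlatCA.fiberIdeal p q ≤ _
    rw [FlatCA.fiberIdeal, Ideal.map_le_iff_le_comap]
    exact le_of_eq (congrArg Subtype.val (α.symm_apply_apply ⟨q, ‹_›, ⟨rfl⟩⟩)).symm
  have hsym := α.symm.monotone hPle
  rw [α.symm_apply_apply] at hsym
  have hq' : q ≤ (α.symm ⟨FlatCA.fiberIdeal p q, hP⟩).1 := by
    show q ≤ Ideal.comap _ (FlatCA.fiberIdeal p q)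
    exact Ideal.le_comap_map
  have heq : α.symm ⟨FlatCA.fiberIdeal p q, hP⟩ = ⟨q, ‹_›, ⟨rfl⟩⟩ := Subtype.ext (le_antisymm hsym hq')
  have heq' : (⟨FlatCA.fiberIdeal p q, hP⟩ : PrimeSpectrum F) = α ⟨q, ‹_›, ⟨rfl⟩⟩ := by
    rw [← heq, α.apply_symm_apply]
  have h' : α ⟨q', ‹_›, ⟨hp.symm⟩⟩ ≤ α ⟨q, ‹_›, ⟨rfl⟩⟩ := α.monotone hle
  rw [← heq'] at h'
  have h'' : α ⟨q', ‹_›, ⟨hp.symm⟩⟩ = α ⟨q, ‹_›, ⟨rfl⟩⟩ := by
    rw [← heq']
    exact PrimeSpectrum.ext (le_antisymm h' (hmin.2 ⟨(α _).isPrime, bot_le⟩ h'))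
  exact congrArg Subtype.val (α.injective h'')

theorem eq_of_specializes_of_weakAss {X S : Scheme.{u}} (f : X ⟶ S) [Smooth f] {x y : X}
    (hx : Curv2.IsWeakAssPoint (Coh.structureModule X) x) (h : y ⤳ x) (he : f y = f x) : y = x := by
  obtain ⟨_, ⟨W, hW, rfl⟩, hxW, -⟩ :=
    S.isBasis_affineOpens.exists_subset_of_mem_open (Set.mem_univ (f x)) isOpen_univ
  obtain ⟨_, ⟨V, hV, rfl⟩, hxV, hVW⟩ :=
    X.isBasis_affineOpens.exists_subset_of_mem_open (show x ∈ f ⁻¹ᵁ W from hxW) (f ⁻¹ᵁ W).isOpen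
  have hs : (f.appLE W V hVW).hom.Smooth :=
    HasRingHomProperty.appLE @Smooth f inferInstance ⟨W, hW⟩ ⟨V, hV⟩ hVW
  algebraize [(f.appLE W V hVW).hom]
  have hyV := h.mem_open V.isOpen hxV
  have hq := (isWeakAssPoint_structureModule_iff_affine hV hxV).1 hx
  haveI : (AssSch12.primeAt hV hxV).IsPrime := (hV.primeIdealOf ⟨x, hxV⟩).2
  haveI : (AssSch12.primeAt hV hyV).IsPrime := (hV.primeIdealOf ⟨y, hyV⟩).2
  refine eq_of_primeAt_eq hV hyV hxV ?_
  refine eq_of_le_of_weakAss Γ(S, W) Γ(X, V) _ _ hq ((AssSch12.specializes_iff hV hyV hxV).1 h) ?_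
  ext r
  show f.appLE W V hVW r ∈ AssSch12.primeAt hV hyV ↔ f.appLE W V hVW r ∈ AssSch12.primeAt hV hxV
  rw [← not_iff_not, AssSch12.notMem_primeAt_iff, AssSch12.notMem_primeAt_iff]
  have hb : ∀ z, z ∈ V → (z ∈ X.basicOpen (f.appLE W V hVW r) ↔ f z ∈ S.basicOpen r) := fun z hz => by
    rw [Scheme.Hom.appLE, CommRingCat.comp_apply, Scheme.basicOpen_res, ← Scheme.preimage_basicOpen]
    exact ⟨fun h => h.2, fun h => ⟨hz, h⟩⟩
  rw [hb y hyV, hb x hxV, he]

theorem coheight_asFiber_eq_zero {X S : Scheme.{u}} (f : X ⟶ S) [Smooth f] {x : X}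
    (hx : Curv2.IsWeakAssPoint (Coh.structureModule X) x) : ringKrullDim (CInt.fiberStalk f x) = 0 := by
  rw [CInt.fiberStalk, ringKrullDim_stalk_eq_coheight]
  suffices h : Order.coheight (f.asFiber x) = 0 by rw [h]; rfl
  rw [Order.coheight_eq_zero]
  intro w hw
  have hi := f.fiberι (f x) |>.isEmbedding
  have h1 : f.fiberι (f x) w ⤳ f.fiberι (f x) (f.asFiber x) := Specializes.map hw (f.fiberι (f x)).continuous
  have h2 : f (f.fiberι (f x) w) = f x := by
    have := (f.range_fiberι (f x)).le ⟨w, rfl⟩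
    exact this
  rw [f.fiberι_asFiber] at h1
  have h3 := eq_of_specializes_of_weakAss f hx h1 h2
  have h4 : w = f.asFiber x := hi.injective (h3.trans (f.fiberι_asFiber x).symm)
  exact h4 ▸ le_rfl

end Groth.Agent.SDiv28.SmoothWeakAss
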