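import Groth.Agent.SDiv28.Charts
import Mathlib

/-!
# Closed immersions and blowing up
-/

set_option autoImplicit false
set_option backward.isDefEq.respectTransparency.types false

universe u

open CategoryTheory Limits AlgebraicGeometry TopologicalSpace
open Groth.Agent.BlowUpLib

namespace Groth.Agent.SDiv28

theorem exists_surjective_map {A B : Type u} [CommRing A] [CommRing B] (φ : A →+* B)
    (hφ : Function.Surjective φ) (I : Ideal A) (a : A) {J : Ideal B} (hJ : J = I.map φ) :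
    ∃ ψ : BlowUp.affineAlgebra A I a →+* BlowUp.affineAlgebra B J (φ a),
      Function.Surjective ψ ∧ ∀ r, ψ (algebraMap A _ r) = algebraMap B _ (φ r) := by
  subst hJ
  letI := φ.toAlgebra
  have hmem : ∀ z : BlowUp.affineAlgebra A I a,
      Localization.awayMap φ a (z : Localization.Away a) ∈ BlowUp.affineAlgebra B (I.map φ) (φ a) := by
    rintro ⟨z, hz⟩
    show Localization.awayMap φ a z ∈ _
    induction hz using Algebra.adjoin_induction with
    | algebraMap r => rw [ProjLib.awayMap_algebraMap]; exact Subalgebra.algebraMap_mem _ _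
    | add x y _ _ hx hy => rw [map_add]; exact add_mem hx hy
    | mul x y _ _ hx hy => rw [map_mul]; exact mul_mem hx hy
    | mem q hq =>
      obtain ⟨x, hx, rfl⟩ := hq
      have h := ProjLib.awayMap_mk' φ a x 1
      simp only [pow_one] at h
      rw [h]
      exact ProjLib.frac_mem_affineAlgebra (Ideal.mem_map_of_mem _ hx)
  let ψ : BlowUp.affineAlgebra A I a →+* BlowUp.affineAlgebra B (I.map φ) (φ a) :=
    ((Localization.awayMap φ a).comp (BlowUp.affineAlgebra A I a).val.toRingHom).codRestrict _ hmem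
  exact ⟨ψ, ProjLib.affineAlgebra_map_surjective (A₁ := B) hφ ψ fun _ => rfl,
    fun r => Subtype.ext (ProjLib.awayMap_algebraMap φ a r)⟩

variable {X Y X' Y' : Scheme.{u}}

theorem generates_comp_iff {I : X.IdealSheafData} (f : Y ⟶ X) (U : X.affineOpens) (hU : IsAffineOpen (f ⁻¹ᵁ U.1))
    (a : Γ(X, U.1)) (g : Y' ⟶ Y) (V : Y'.affineOpens) :
    Generates (I.comap f) g ⟨f ⁻¹ᵁ U.1, hU⟩ ((f.appLE U.1 (f ⁻¹ᵁ U.1) le_rfl).hom a) V ↔
      Generates I (g ≫ f) U a V := by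
  constructor <;> rintro ⟨e, he⟩
  · refine ⟨e, ?_⟩
    rw [Scheme.IdealSheafData.comap_comp, he, ← CommRingCat.comp_apply, Scheme.Hom.appLE_comp_appLE]
  · refine ⟨e, ?_⟩
    rw [← Scheme.IdealSheafData.comap_comp, he, ← CommRingCat.comp_apply, Scheme.Hom.appLE_comp_appLE]

theorem locus_comap {I : X.IdealSheafData} (f : Y ⟶ X) (U : X.affineOpens) (hU : IsAffineOpen (f ⁻¹ᵁ U.1))
    (a : Γ(X, U.1)) (g : Y' ⟶ Y) :
    locus (I.comap f) g ⟨f ⁻¹ᵁ U.1, hU⟩ ((f.appLE U.1 (f ⁻¹ᵁ U.1) le_rfl).hom a) = locus I (g ≫ f) U a := by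
  ext y
  simp only [SetLike.mem_coe, mem_locus, generates_comp_iff f U hU a g]

theorem isClosedImmersion_blowUp_map {I : X.IdealSheafData} (f : Y ⟶ X) [IsClosedImmersion f]
    {b : X' ⟶ X} (hb : BlowUp.IsBlowUp b I) {b' : Y' ⟶ Y} (hb' : BlowUp.IsBlowUp b' (I.comap f))
    {f' : Y' ⟶ X'} (hf' : f' ≫ b = b' ≫ f) : IsClosedImmersion f' := by
  have hgood : BlowUp.IsEffCartierIdeal (I.comap (b' ≫ f)) := by
    rw [Scheme.IdealSheafData.comap_comp]; exact hb'.1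
  let ι : Type u := Σ U : X.affineOpens, ↥(I.ideal U)
  have hcov : (⨆ i : ι, locus I b i.1 i.2.1) = (⊤ : X'.Opens) := by
    refine top_le_iff.1 fun y _ => ?_
    obtain ⟨_, ⟨U, hU, rfl⟩, hyU, -⟩ :=
      X.isBasis_affineOpens.exists_subset_of_mem_open (Set.mem_univ (b y)) isOpen_univ
    obtain ⟨a, ha, hy⟩ := exists_mem_locus b hb.1 (U := ⟨U, hU⟩) hyU (I.ideal ⟨U, hU⟩ : Set _) (Ideal.span_eq _)
    exact Opens.mem_iSup.2 ⟨⟨⟨U, hU⟩, ⟨a, ha⟩⟩, hy⟩
  rw [IsZariskiLocalAtTarget.iff_of_iSup_eq_top (P := @IsClosedImmersion) _ hcov]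
  rintro ⟨U, a, ha⟩
  dsimp only
  set V := locus I b U a
  have hU' : IsAffineOpen (f ⁻¹ᵁ U.1) := U.2.preimage f
  set φ := (f.appLE U.1 (f ⁻¹ᵁ U.1) le_rfl).hom
  have hφ : Function.Surjective φ := by
    have := Scheme.Hom.app_surjective f U.1 U.2
    simpa [φ, Scheme.Hom.appLE] using this
  have hJ : (I.comap f).ideal ⟨f ⁻¹ᵁ U.1, hU'⟩ = (I.ideal U).map φ :=
    ProjLib.comap_ideal_eq I f U ⟨f ⁻¹ᵁ U.1, hU'⟩ le_rfl
  have ha' : φ a ∈ (I.comap f).ideal ⟨f ⁻¹ᵁ U.1, hU'⟩ := hJ.ge (Ideal.mem_map_of_mem _ ha)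
  obtain ⟨e, he⟩ := exists_locus_iso hb U ha
  obtain ⟨e', he'⟩ := exists_locus_iso hb' ⟨f ⁻¹ᵁ U.1, hU'⟩ ha'
  obtain ⟨ψ, hψ, hψa⟩ := exists_surjective_map φ hφ (I.ideal U) a hJ
  have heq : f' ⁻¹ᵁ V = locus (I.comap f) b' ⟨f ⁻¹ᵁ U.1, hU'⟩ (φ a) := by
    rw [preimage_locus ha b hb.1 f' (by rw [hf']; exact hgood), hf']
    exact (locus_comap f U hU' a b').symm
  let i := Y'.isoOfEq heq
  let k := Spec.map (CommRingCat.ofHom ψ)
  haveI : IsClosedImmersion k := IsClosedImmersion.spec_of_surjective _ hψ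
  have hk : k ≫ chartMap I U a = chartMap (I.comap f) ⟨f ⁻¹ᵁ U.1, hU'⟩ (φ a) ≫ f := by
    rw [chartMap, chartMap, Category.assoc, ← IsAffineOpen.SpecMap_appLE_fromSpec f U.2 hU' le_rfl,
      ← Category.assoc, ← Category.assoc, ← Spec.map_comp, ← Spec.map_comp]
    congr 2
    ext r
    exact congrArg Subtype.val (hψa r)
  have hfac : f' ∣_ V = i.hom ≫ e'.hom ≫ k ≫ e.inv := by
    rw [← cancel_mono V.ι, morphismRestrict_ι]
    have hl : ((f' ⁻¹ᵁ V).ι ≫ f') ≫ b = (f' ⁻¹ᵁ V).ι ≫ b' ≫ f := by rw [Category.assoc, hf']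
    refine hom_ext hb ?_ ?_
    · rw [hl, Scheme.IdealSheafData.comap_comp]
      exact FlatMor12.BlowUpDisjoint.isEffCartierIdeal_comap _ hgood _
    · have he2 : e.inv ≫ V.ι ≫ b = chartMap I U a := by rw [← he, Iso.inv_hom_id_assoc]
      rw [hl]
      simp only [Category.assoc, he2]
      rw [hk, reassoc_of% he', ← Category.assoc i.hom]
      congr 1
      simp [i]
  rw [hfac]
  infer_instance

end Groth.Agent.SDiv28
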