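import Groth.Agent.SDiv28.FibreCartier
import Groth.Agent.CAlgH.CIOpen
import Mathlib

/-!
# Fibrewise effective Cartier ideals with flat subscheme are locally principal
-/

set_option autoImplicit false
set_option backward.isDefEq.respectTransparency.types false
universe u

open CategoryTheory CategoryTheory.Limits AlgebraicGeometry Opposite TopologicalSpace
open Groth.Agent.AssSch12
open Groth.Agent.ModPairLib (res res_res)

namespace Groth.Agent.SDiv28.FibreCartierFlat

/-- An element of a finite set generates, if the span is generated by a nonzerodivisor of a local ring. -/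
theorem exists_generator {R : Type u} [CommRing R] [IsLocalRing R] {ι : Type u} (T : Finset ι) (v : ι → R)
    {g : R} (hg : g ∈ nonZeroDivisors R) (h : Ideal.span (v '' (T : Set ι)) = Ideal.span {g}) :
    ∃ t ∈ T, Ideal.span {v t} = Ideal.span {g} := by
  classical
  by_contra hne
  simp only [not_exists, not_and] at hne
  have hle : Ideal.span (v '' (T : Set ι)) ≤ IsLocalRing.maximalIdeal R * Ideal.span {g} := by
    rw [Ideal.span_le]
    rintro _ ⟨t, ht, rfl⟩
    obtain ⟨c, hc⟩ := Ideal.mem_span_singleton'.1 (h ▸ Ideal.subset_span (Set.mem_image_of_mem v ht))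
    rw [← hc]
    refine Ideal.mul_mem_mul ?_ (Ideal.mem_span_singleton_self g)
    by_contra hu
    rw [IsLocalRing.mem_maximalIdeal, mem_nonunits_iff, not_not] at hu
    refine hne t ht ?_
    rw [← hc]
    exact Ideal.span_singleton_mul_left_unit hu g
  obtain ⟨z, hz, hzg⟩ := Ideal.mem_mul_span_singleton.1 (hle (h ▸ Ideal.mem_span_singleton_self g))
  have : (z - 1) * g = 0 := by rw [sub_mul, hzg, one_mul, sub_self]
  rw [mul_right_mem_nonZeroDivisors_eq_zero_iff hg, sub_eq_zero] at this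
  exact (IsLocalRing.maximalIdeal.isMaximal R).ne_top ((Ideal.eq_top_iff_one _).2 (this ▸ hz))

/-- At any point, a fibrewise Cartier ideal with flat quotient is generated by one element in the local ring. -/
theorem stalk_principal {X S : Scheme.{u}} (φ : X ⟶ S) (I : X.IdealSheafData) (s : S) (w : ↥(φ.fiber s))
    (hfib : BlowUp.IsEffCartierIdeal (I.comap (φ.fiberι s))) (U : X.affineOpens)
    (hw : φ.fiberι s w ∈ U.1) (T : Finset Γ(X, U.1)) (hT : Ideal.span (T : Set Γ(X, U.1)) = I.ideal U) :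
    ∃ t ∈ T, ∀ y ∈ I.ideal U, ∃ r : X.presheaf.stalk (φ.fiberι s w),
      X.presheaf.germ U.1 _ hw y - r * X.presheaf.germ U.1 _ hw t ∈
        (IsLocalRing.maximalIdeal (S.presheaf.stalk (φ (φ.fiberι s w)))).map (φ.stalkMap _).hom := by
  obtain ⟨U', hw', g, hg, hgI⟩ := hfib w
  obtain ⟨hs, hker⟩ := Props12.stalkMap_fiberι φ s w
  have h := FibreCartier.stalk_comap (φ.fiberι s) I w U hw U' hw'
  rw [hgI, Ideal.map_map, ← hT, Ideal.map_span, Ideal.map_span, Set.image_singleton] at h
  have hgn : (φ.fiber s).presheaf.germ U'.1 w hw' g ∈ nonZeroDivisors ((φ.fiber s).presheaf.stalk w) := by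
    letI := (φ.fiber s).presheaf.algebra_section_stalk (⟨w, hw'⟩ : U'.1)
    haveI := U'.2.isLocalization_stalk ⟨w, hw'⟩
    exact IsLocalization.map_nonZeroDivisors_le (U'.2.primeIdealOf ⟨w, hw'⟩).asIdeal.primeCompl _
      (Submonoid.mem_map_of_mem _ hg)
  obtain ⟨t, ht, hspan⟩ := exists_generator T _ hgn h
  refine ⟨t, ht, fun y hy => ?_⟩
  have hy' : (((φ.fiberι s).stalkMap w).hom.comp (X.presheaf.germ U.1 _ hw).hom) y ∈
      Ideal.span {(((φ.fiberι s).stalkMap w).hom.comp (X.presheaf.germ U.1 _ hw).hom) t} := by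
    rw [hspan, ← h, ← Ideal.map_span, hT]
    exact Ideal.mem_map_of_mem _ hy
  obtain ⟨r', hr'⟩ := Ideal.mem_span_singleton'.1 hy'
  obtain ⟨r, rfl⟩ := hs r'
  refine ⟨r, ?_⟩
  rw [← hker, RingHom.mem_ker, map_sub, map_mul]
  exact sub_eq_zero.2 hr'.symm

theorem isLocPrincipal {X S : Scheme.{u}} (φ : X ⟶ S) [LocallyOfFinitePresentation φ]
    (I : X.IdealSheafData) [Flat (I.subschemeι ≫ φ)] [LocallyOfFinitePresentation (I.subschemeι ≫ φ)]
    (hfib : ∀ s : ↥S, BlowUp.IsEffCartierIdeal (I.comap (φ.fiberι s))) :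
    Curv2.IsLocPrincipal I := by
  classical
  intro x _
  obtain ⟨V, hV, hxV, -⟩ := Opens.isBasis_iff_nbhd.mp S.isBasis_affineOpens (Opens.mem_top (φ x))
  obtain ⟨U, hU, hxU, e⟩ := Opens.isBasis_iff_nbhd.mp X.isBasis_affineOpens (show x ∈ φ ⁻¹ᵁ V from hxV)
  let A := Γ(S, V)
  let B := Γ(X, U)
  let W := I.subschemeι ⁻¹ᵁ U
  have hW : IsAffineOpen W := hU.preimage _
  letI : Algebra A B := (φ.appLE V U e).hom.toAlgebra
  haveI : Algebra.FinitePresentation A B := LocallyOfFinitePresentation.finitePresentation_appLE φ hV hU e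
  letI : Algebra A Γ(I.subscheme, W) :=
    ((I.subschemeι ≫ φ).appLE V W (I.subschemeι.preimage_mono e)).hom.toAlgebra
  haveI : Algebra.FinitePresentation A Γ(I.subscheme, W) :=
    LocallyOfFinitePresentation.finitePresentation_appLE (I.subschemeι ≫ φ) hV hW _
  haveI : Module.Flat A Γ(I.subscheme, W) :=
    HasRingHomProperty.appLE @Flat (I.subschemeι ≫ φ) ‹_› ⟨V, hV⟩ ⟨W, hW⟩ _
  have happ : (I.subschemeι.app U).hom.comp (φ.appLE V U e).hom =
      ((I.subschemeι ≫ φ).appLE V W (I.subschemeι.preimage_mono e)).hom := by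
    rw [← CommRingCat.hom_comp, Scheme.Hom.app_eq_appLE, Scheme.Hom.appLE_comp_appLE]
  let ι' : B →ₐ[A] Γ(I.subscheme, W) := ⟨(I.subschemeι.app U).hom, RingHom.congr_fun happ⟩
  have hsurj : Function.Surjective ι' := I.subschemeι.app_surjective U hU
  have hker : RingHom.ker ι'.toRingHom = I.ideal ⟨U, hU⟩ := I.ker_subschemeι_app ⟨U, hU⟩
  let J := I.ideal ⟨U, hU⟩
  have hJ : J.FG := by
    rw [show J = RingHom.ker ι'.toRingHom from hker.symm]
    exact Algebra.FinitePresentation.ker_fG_of_surjective ι' hsurj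
  haveI : Module.Flat A (B ⧸ J) :=
    Module.Flat.of_linearEquiv ((Ideal.quotientEquivAlgOfEq A (show J = RingHom.ker ι' from hker.symm)).trans
      (Ideal.quotientKerAlgEquivOfSurjective hsurj)).toLinearEquiv
  obtain ⟨T, hT⟩ := hJ
  obtain ⟨t, ht, hgen⟩ : ∃ t ∈ T, ∀ y ∈ J, ∃ r : X.presheaf.stalk x,
      X.presheaf.germ U x hxU y - r * X.presheaf.germ U x hxU t ∈
        (IsLocalRing.maximalIdeal (S.presheaf.stalk (φ x))).map (φ.stalkMap x).hom := by
    suffices key : ∀ (s : S) (w : ↥(φ.fiber s)) (x₀ : X), φ.fiberι s w = x₀ → ∀ hx₀ : x₀ ∈ U,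
        ∃ t ∈ T, ∀ y ∈ J, ∃ r : X.presheaf.stalk x₀,
          X.presheaf.germ U x₀ hx₀ y - r * X.presheaf.germ U x₀ hx₀ t ∈
            (IsLocalRing.maximalIdeal (S.presheaf.stalk (φ x₀))).map (φ.stalkMap x₀).hom from
      key (φ x) (φ.asFiber x) x (φ.fiberι_asFiber x) hxU
    rintro s w _ rfl hx₀
    exact stalk_principal φ I s w (hfib s) ⟨U, hU⟩ hx₀ T hT
  letI := X.presheaf.algebra_section_stalk (⟨x, hxU⟩ : U)
  let q := hU.primeIdealOf ⟨x, hxU⟩
  haveI : IsLocalization q.asIdeal.primeCompl (X.presheaf.stalk x) := hU.isLocalization_stalk ⟨x, hxU⟩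
  let R := X.presheaf.stalk x
  let γ := (X.presheaf.germ U x hxU).hom
  have hγ : γ = algebraMap B R := rfl
  -- the maximal ideal of the base, pushed to the chart
  letI := S.presheaf.algebra_section_stalk (⟨φ x, hxV⟩ : V)
  haveI := hV.isLocalization_stalk ⟨φ x, hxV⟩
  let p := (hV.primeIdealOf ⟨φ x, hxV⟩).asIdeal
  have hpB : (p.map (algebraMap A B)).map γ =
      (IsLocalRing.maximalIdeal (S.presheaf.stalk (φ x))).map (φ.stalkMap x).hom := by
    rw [← IsLocalization.AtPrime.map_eq_maximalIdeal p (S.presheaf.stalk (φ x)), Ideal.map_map, Ideal.map_map]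
    congr 1
    show (X.presheaf.germ U x hxU).hom.comp (φ.appLE V U e).hom =
      (φ.stalkMap x).hom.comp (S.presheaf.germ V (φ x) hxV).hom
    rw [← CommRingCat.hom_comp, ← CommRingCat.hom_comp]
    congr 1
    rw [Scheme.Hom.germ_stalkMap, Scheme.Hom.appLE, Category.assoc, X.presheaf.germ_res]
  have hmle : (IsLocalRing.maximalIdeal (S.presheaf.stalk (φ x))).map (φ.stalkMap x).hom ≤
      IsLocalRing.maximalIdeal R := by
    rw [Ideal.map_le_iff_le_comap]
    intro a ha hu
    exact ha ((isUnit_map_iff (φ.stalkMap x).hom a).1 hu)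
  have hle : J.map γ ≤ Ideal.span {γ t} ⊔ IsLocalRing.maximalIdeal R • J.map γ := by
    rw [Ideal.map_le_iff_le_comap]
    intro y hy
    obtain ⟨r, hr⟩ := hgen y hy
    obtain ⟨b, d, rfl⟩ := IsLocalization.exists_mk'_eq q.asIdeal.primeCompl r
    have hd : algebraMap B R (d : B) * IsLocalization.mk' R b d = algebraMap B R b :=
      IsLocalization.mk'_spec' R b d
    have h1 : algebraMap B R ((d : B) * y - b * t) ∈ (p.map (algebraMap A B)).map γ := by
      rw [hpB, map_sub, map_mul, map_mul, ← hd, mul_assoc, ← mul_sub]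
      exact Ideal.mul_mem_left _ _ hr
    obtain ⟨c, hc, hcy⟩ := (IsLocalization.algebraMap_mem_map_algebraMap_iff q.asIdeal.primeCompl R _ _).1 h1
    have htJ : t ∈ J := hT ▸ Submodule.subset_span ht
    have h2 : c * ((d : B) * y - b * t) ∈ p.map (algebraMap A B) * J :=
      CAlgH.CIOpen.mem_map_mul_of_flat_quotient p J
        (Ideal.mul_mem_left _ _ (sub_mem (Ideal.mul_mem_left _ _ hy) (Ideal.mul_mem_left _ _ htJ))) hcy
    have h3 : γ (c * ((d : B) * y - b * t)) ∈ IsLocalRing.maximalIdeal R • J.map γ := by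
      have := Ideal.mem_map_of_mem γ h2
      rw [Ideal.map_mul, hpB] at this
      exact Ideal.mul_mono_left hmle this
    have hu : IsUnit (γ (c * d)) := IsLocalization.map_units R (⟨c, hc⟩ * d : q.asIdeal.primeCompl)
    rw [Ideal.mem_comap]
    refine (Ideal.unit_mul_mem_iff_mem _ hu).1 ?_
    have : γ (c * d) * γ y = γ (c * b) * γ t + γ (c * ((d : B) * y - b * t)) := by
      rw [← map_mul, ← map_mul, ← map_add]; congr 1; ring
    rw [this]
    exact add_mem (Ideal.mem_sup_left (Ideal.mul_mem_left _ _ (Ideal.mem_span_singleton_self _)))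
      (Ideal.mem_sup_right h3)
  have hfg : (J.map γ).FG := Ideal.FG.map ⟨T, hT⟩ γ
  have hgen' : J.map γ ≤ Ideal.span {γ t} :=
    Submodule.le_of_le_smul_of_le_jacobson_bot hfg (IsLocalRing.maximalIdeal_le_jacobson _) hle
  -- spread out
  have hcl : ∀ y ∈ T, ∃ d : B, d ∉ q.asIdeal ∧ d * y ∈ Ideal.span {t} := by
    intro y hy
    have : algebraMap B R y ∈ (Ideal.span {t}).map (algebraMap B R) := by
      rw [Ideal.map_span, Set.image_singleton]
      exact hgen' (Ideal.mem_map_of_mem _ (hT ▸ Submodule.subset_span hy))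
    exact (IsLocalization.algebraMap_mem_map_algebraMap_iff q.asIdeal.primeCompl R _ _).1 this
  choose! d hd hdy using hcl
  let c := ∏ y ∈ T, d y
  have hc : c ∉ q.asIdeal := fun h => by
    obtain ⟨y, hy, hm⟩ := Ideal.IsPrime.prod_mem_iff.1 h
    exact hd y hy hm
  refine ⟨⟨X.basicOpen c, hU.basicOpen c⟩, (notMem_primeAt_iff hU hxU c).1 hc,
    res (X.basicOpen_le c) t, ?_⟩
  rw [← I.map_ideal (U := ⟨X.basicOpen c, hU.basicOpen c⟩) (V := ⟨U, hU⟩) (X.basicOpen_le c)]
  show J.map (res (X.basicOpen_le c)) = _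
  refine le_antisymm (Ideal.map_le_iff_le_comap.2 ?_) ?_
  · rw [← hT, Submodule.span_le]
    intro y hy
    obtain ⟨b, hb⟩ := Ideal.mem_span_singleton'.1 (hdy y hy)
    have hcu : IsUnit (res (X.basicOpen_le c) c) := RingedSpace.isUnit_res_basicOpen X.toRingedSpace c
    show res (X.basicOpen_le c) y ∈ Ideal.span {res (X.basicOpen_le c) t}
    refine (Ideal.unit_mul_mem_iff_mem _ hcu).1 ?_
    rw [← map_mul]
    have : c * y = (∏ z ∈ T.erase y, d z) * b * t := by
      rw [mul_assoc, hb, ← mul_assoc, Finset.prod_erase_mul T d hy]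
    rw [this, map_mul]
    exact Ideal.mul_mem_left _ _ (Ideal.mem_span_singleton_self _)
  · rw [Ideal.span_singleton_le_iff_mem]
    exact Ideal.mem_map_of_mem _ (hT ▸ Submodule.subset_span ht)

end Groth.Agent.SDiv28.FibreCartierFlat
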