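import Groth.Agent.SDiv28.RegPairExtend
import Groth.Prelude.Def_RefHull

/-!
# Duals extend across opens whose complement consists of points with regular pairs
-/

set_option autoImplicit false
set_option backward.isDefEq.respectTransparency false
set_option linter.style.haveILetI false
universe u

open CategoryTheory CategoryTheory.Limits AlgebraicGeometry TopologicalSpace Opposite
open Groth.Agent.FlatMor12.RegularExtend (res res_res)

namespace Groth.Agent.SDiv28.DualExtend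

variable {X : Scheme.{u}}

local notation "𝒪" => Coh.structureModule X

theorem germ_res_mod (M : X.Modules) {V W : X.Opens} (h : W ≤ V) (m : Γ(M, V)) {y : X} (hy : y ∈ W) :
    M.presheaf.germ W y hy (M.presheaf.map (homOfLE h).op m) = M.presheaf.germ V y (h hy) m :=
  TopCat.Presheaf.germ_res_apply _ _ _ _ _

theorem sec_ext_germ (M : X.Modules) {V : X.Opens} (a b : Γ(M, V))
    (h : ∀ (y : X) (hy : y ∈ V), M.presheaf.germ V y hy a = M.presheaf.germ V y hy b) : a = b :=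
  TopCat.Presheaf.section_ext ⟨M.presheaf, M.isSheaf⟩ V a b h

/-- Being the section defined by a family on an element. -/
def IsVal (M : X.Modules) {W' : X.Opens} (f : ∀ x : W', RefHull.StalkHom M 𝒪 x.1) {V : X.Opens}
    (m : Γ(M, V)) (t : Γ(𝒪, V)) (U : X.Opens) : Prop :=
  ∀ (y : X) (hV : y ∈ V) (_ : y ∈ U) (hW : y ∈ W'),
    (Scheme.Modules.presheaf 𝒪).germ V y hV t = f ⟨y, hW⟩ (M.presheaf.germ V y hV m)

variable {U : X.Opens}

theorem isVal_unique (hU : ModPairLib.IsDenseOpen U) (M : X.Modules) {W' : X.Opens}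
    (f : ∀ x : W', RefHull.StalkHom M 𝒪 x.1) {V : X.Opens} (hV : U ⊓ V ≤ W') (m : Γ(M, V))
    (t t' : Γ(𝒪, V)) (h : IsVal M f m t U) (h' : IsVal M f m t' U) : t = t' := by
  refine RegPairExtend.res_injective hU (O := V) (t₁ := t) (t₂ := t') ?_
  refine sec_ext_germ 𝒪 (V := U ⊓ V) ((Scheme.Modules.presheaf 𝒪).map (homOfLE inf_le_right).op t)
    ((Scheme.Modules.presheaf 𝒪).map (homOfLE inf_le_right).op t') fun y hy => ?_
  rw [germ_res_mod, germ_res_mod, h y hy.2 hy.1 (hV hy), h' y hy.2 hy.1 (hV hy)]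

theorem exists_isVal (hU : ModPairLib.IsDenseOpen U) (hP : ∀ z : X, z ∉ U → RegPairExtend.HasRegPair z)
    (M : X.Modules) {W' : X.Opens} (g : Γ(RefHull.homSh M 𝒪, W')) {V : X.Opens} (hV : U ⊓ V ≤ W')
    (m : Γ(M, V)) : ∃ t : Γ(𝒪, V), IsVal M g.1 m t U := by
  classical
  have hloc := fun x : ↥(U ⊓ V) => RefHull.isLocSect_of_mem g (U ⊓ V) (homOfLE hV)
    (M.presheaf.map (homOfLE inf_le_right).op m) x
  choose N hxN j n hn using hloc
  let Sh : TopCat.Sheaf Ab X := ⟨Scheme.Modules.presheaf 𝒪, Scheme.Modules.isSheaf 𝒪⟩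
  have hn' : ∀ (x : ↥(U ⊓ V)) (y : X) (hy : y ∈ N x),
      (Scheme.Modules.presheaf 𝒪).germ (N x) y hy (n x) =
        g.1 ⟨y, hV ((j x).le hy)⟩ (M.presheaf.germ V y ((j x).le hy).2 m) := fun x y hy => by
    rw [← hn x ⟨y, hy⟩, germ_res_mod]
  obtain ⟨s, hs, -⟩ := Sh.existsUnique_gluing' N (U ⊓ V) j
    (fun x hx => Opens.mem_iSup.2 ⟨⟨x, hx⟩, hxN ⟨x, hx⟩⟩) n (fun a b => by
      refine sec_ext_germ 𝒪 _ _ fun y hy => ?_
      erw [TopCat.Presheaf.germ_res_apply, TopCat.Presheaf.germ_res_apply]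
      rw [hn' a y hy.1, hn' b y hy.2])
  obtain ⟨t, ht⟩ : ∃ t : Γ(X, V), res (inf_le_right : U ⊓ V ≤ V) t = res (inf_le_inf le_rfl le_rfl) (s : Γ(X, U ⊓ V)) := by
    refine RegPairExtend.exists_glue hU (s : Γ(X, U ⊓ V)) V le_rfl fun x hx => ?_
    obtain ⟨A, hA, hxA, hAV⟩ := exists_isAffineOpen_mem_and_subset (U := V) hx
    obtain ⟨t, ht⟩ := RegPairExtend.exists_extend hU hP hA (res (inf_le_inf le_rfl hAV) (s : Γ(X, U ⊓ V)))
    exact ⟨A, hAV, hxA, t, ht⟩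
  refine ⟨t, fun y hy hyU hyW => ?_⟩
  have hts : (Scheme.Modules.presheaf 𝒪).map (homOfLE (inf_le_right : U ⊓ V ≤ V)).op t =
      (Scheme.Modules.presheaf 𝒪).map (homOfLE (inf_le_inf le_rfl le_rfl : U ⊓ V ≤ U ⊓ V)).op s := ht
  have hcomp := congrArg ((Scheme.Modules.presheaf 𝒪).germ (U ⊓ V) y ⟨hyU, hy⟩) hts
  rw [germ_res_mod, germ_res_mod] at hcomp
  rw [hcomp, ← germ_res_mod 𝒪 (j ⟨y, ⟨hyU, hy⟩⟩).le s (hxN ⟨y, ⟨hyU, hy⟩⟩)]
  erw [hs ⟨y, ⟨hyU, hy⟩⟩]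
  exact hn' ⟨y, ⟨hyU, hy⟩⟩ y _

/-- **Duals are determined off the small set**: restriction of sections of a dual is bijective. -/
theorem bijective_map (hU : ModPairLib.IsDenseOpen U) (hP : ∀ z : X, z ∉ U → RegPairExtend.HasRegPair z)
    (M : X.Modules) {W W' : X.Opens} (h : W' ≤ W) (hW' : U ⊓ W ≤ W') :
    Function.Bijective ((RefHull.homSh M 𝒪).presheaf.map (homOfLE h).op) := by
  classical
  constructor
  · intro g₁ g₂ he
    refine Subtype.ext (funext fun x => LinearMap.ext fun v => ?_)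
    obtain ⟨V₀, hxV₀, m₀, rfl⟩ := M.presheaf.exists_germ_eq v
    let V := V₀ ⊓ W
    let m := M.presheaf.map (homOfLE (inf_le_left : V ≤ V₀)).op m₀
    obtain ⟨N₁, hN₁, j₁, n₁, hn₁⟩ := RefHull.isLocSect_of_mem g₁ V (homOfLE inf_le_right) m ⟨x.1, hxV₀, x.2⟩
    obtain ⟨N₂, hN₂, j₂, n₂, hn₂⟩ := RefHull.isLocSect_of_mem g₂ V (homOfLE inf_le_right) m ⟨x.1, hxV₀, x.2⟩
    let N := N₁ ⊓ N₂
    let a₁ := (Scheme.Modules.presheaf 𝒪).map (homOfLE (inf_le_left : N ≤ N₁)).op n₁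
    let a₂ := (Scheme.Modules.presheaf 𝒪).map (homOfLE (inf_le_right : N ≤ N₂)).op n₂
    have hV : U ⊓ N ≤ W' := fun y hy => hW' ⟨hy.1, (j₁.le hy.2.1).2⟩
    let g : ∀ y : W', RefHull.StalkHom M 𝒪 y.1 := fun y => g₁.1 ⟨y.1, h y.2⟩
    have hgg : ∀ y : W', g y = g₂.1 ⟨y.1, h y.2⟩ := fun y => congrFun (congrArg Subtype.val he) y
    let mN := M.presheaf.map (homOfLE ((inf_le_left : N ≤ N₁).trans j₁.le)).op m
    have ha : a₁ = a₂ := by
      refine isVal_unique hU M g hV mN a₁ a₂ (fun y hy _ hyW => ?_) (fun y hy _ hyW => ?_)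
      · rw [germ_res_mod, germ_res_mod, ← hn₁ ⟨y, hy.1⟩]
      · rw [germ_res_mod, germ_res_mod, ← hn₂ ⟨y, hy.2⟩, hgg]
    have e₁ := hn₁ ⟨x.1, hN₁⟩
    have e₂ := hn₂ ⟨x.1, hN₂⟩
    rw [germ_res_mod] at e₁ e₂
    dsimp only at e₁ e₂
    rw [e₁, e₂, ← germ_res_mod 𝒪 (inf_le_left : N ≤ N₁) n₁ (⟨hN₁, hN₂⟩ : x.1 ∈ N),
      ← germ_res_mod 𝒪 (inf_le_right : N ≤ N₂) n₂ (⟨hN₁, hN₂⟩ : x.1 ∈ N)]
    exact congrArg _ ha
  · intro g
    have hle : ∀ {V : X.Opens}, V ≤ W → U ⊓ V ≤ W' := fun hV => (inf_le_inf le_rfl hV).trans hW'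
    choose t ht using fun (V : X.Opens) (hV : V ≤ W) (m : Γ(M, V)) => exists_isVal hU hP M g (hle hV) m
    have hres : ∀ {V N : X.Opens} (hV : V ≤ W) (e : N ≤ V) (m : Γ(M, V)),
        (Scheme.Modules.presheaf 𝒪).map (homOfLE e).op (t V hV m) =
          t N (e.trans hV) (M.presheaf.map (homOfLE e).op m) := fun {V N} hV e m => by
      refine isVal_unique hU M g.1 (hle (e.trans hV)) _ _ _ (fun y hy hyU hyW => ?_) (ht _ _ _)
      rw [germ_res_mod, germ_res_mod]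
      exact ht V hV m y (e hy) hyU hyW
    have key : ∀ (x : X) (hx : x ∈ W) (V : X.Opens) (hV : V ≤ W) (hxV : x ∈ V) (m : Γ(M, V))
        (V' : X.Opens) (hV' : V' ≤ W) (hxV' : x ∈ V') (m' : Γ(M, V')),
        M.presheaf.germ V x hxV m = M.presheaf.germ V' x hxV' m' →
          (Scheme.Modules.presheaf 𝒪).germ V x hxV (t V hV m) =
            (Scheme.Modules.presheaf 𝒪).germ V' x hxV' (t V' hV' m') := by
      intro x hx V hV hxV m V' hV' hxV' m' he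
      obtain ⟨N, hxN, i, i', hi⟩ := M.presheaf.germ_eq x hxV hxV' m m' he
      rw [← germ_res_mod 𝒪 i.le (t V hV m) hxN, ← germ_res_mod 𝒪 i'.le (t V' hV' m') hxN, hres, hres]
      exact congrArg _ (congrArg _ hi)
    have hrep : ∀ (x : W) (v : M.presheaf.stalk x.1),
        ∃ (V : X.Opens) (hV : V ≤ W) (hxV : x.1 ∈ V) (m : Γ(M, V)), M.presheaf.germ V x.1 hxV m = v := by
      intro x v
      obtain ⟨V₀, hxV₀, m₀, rfl⟩ := M.presheaf.exists_germ_eq v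
      exact ⟨V₀ ⊓ W, inf_le_right, ⟨hxV₀, x.2⟩, M.presheaf.map (homOfLE inf_le_left).op m₀,
        germ_res_mod _ _ _ _⟩
    choose VV hVV hxVV mm hmm using hrep
    let φ : ∀ x : W, M.presheaf.stalk x.1 → (Scheme.Modules.presheaf 𝒪).stalk x.1 := fun x v =>
      (Scheme.Modules.presheaf 𝒪).germ (VV x v) x.1 (hxVV x v) (t _ (hVV x v) (mm x v))
    have hφ : ∀ (x : W) (V : X.Opens) (hV : V ≤ W) (hxV : x.1 ∈ V) (m : Γ(M, V)),
        φ x (M.presheaf.germ V x.1 hxV m) = (Scheme.Modules.presheaf 𝒪).germ V x.1 hxV (t V hV m) :=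
      fun x V hV hxV m => key x.1 x.2 _ _ _ _ _ hV hxV m (hmm x _)
    let f : ∀ x : W, RefHull.StalkHom M 𝒪 x.1 := fun x =>
      { toFun := φ x
        map_add' := fun v w => by
          obtain ⟨V₁, hV₁, h₁, m₁, rfl⟩ : ∃ (V : X.Opens) (_ : V ≤ W) (hxV : x.1 ∈ V) (m : Γ(M, V)),
            M.presheaf.germ V x.1 hxV m = v := ⟨_, hVV x v, _, _, hmm x v⟩
          obtain ⟨V₂, hV₂, h₂, m₂, rfl⟩ : ∃ (V : X.Opens) (_ : V ≤ W) (hxV : x.1 ∈ V) (m : Γ(M, V)),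
            M.presheaf.germ V x.1 hxV m = w := ⟨_, hVV x w, _, _, hmm x w⟩
          have hV : V₁ ⊓ V₂ ≤ W := inf_le_left.trans hV₁
          have hxV : x.1 ∈ V₁ ⊓ V₂ := ⟨h₁, h₂⟩
          rw [← germ_res_mod M (inf_le_left : V₁ ⊓ V₂ ≤ V₁) m₁ hxV,
            ← germ_res_mod M (inf_le_right : V₁ ⊓ V₂ ≤ V₂) m₂ hxV, ← map_add, hφ x _ hV, hφ x _ hV,
            hφ x _ hV, ← map_add]
          refine congrArg _ (isVal_unique hU M g.1 (hle hV) _ _ _ (ht _ _ _) fun y hy hyU hyW => ?_)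
          rw [map_add, map_add, map_add, ht _ _ _ y hy hyU hyW, ht _ _ _ y hy hyU hyW]
        map_smul' := fun a v => by
          obtain ⟨Ua, hxa, r, rfl⟩ := X.presheaf.exists_germ_eq a
          obtain ⟨V₁, hV₁, h₁, m₁, rfl⟩ : ∃ (V : X.Opens) (_ : V ≤ W) (hxV : x.1 ∈ V) (m : Γ(M, V)),
            M.presheaf.germ V x.1 hxV m = v := ⟨_, hVV x v, _, _, hmm x v⟩
          have hV : Ua ⊓ V₁ ≤ W := inf_le_right.trans hV₁
          have hxV : x.1 ∈ Ua ⊓ V₁ := ⟨hxa, h₁⟩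
          rw [RingHom.id_apply, ← germ_res_mod M (inf_le_right : Ua ⊓ V₁ ≤ V₁) m₁ hxV,
            ← TopCat.Presheaf.germ_res_apply X.presheaf (homOfLE (inf_le_left : Ua ⊓ V₁ ≤ Ua)) x.1 hxV,
            ← Mero.germ_smul, hφ x _ hV, hφ x _ hV, ← Mero.germ_smul]
          refine congrArg _ (isVal_unique hU M g.1 (hle hV) _ _ _ (ht _ _ _) fun y hy hyU hyW => ?_)
          rw [Mero.germ_smul, Mero.germ_smul, map_smul, ht _ _ _ y hy hyU hyW] }
    refine ⟨⟨f, fun V i m x => ⟨V, x.2, 𝟙 V, t V i.le m, fun y => hφ ⟨y.1, i.le y.2⟩ V i.le y.2 m⟩⟩, ?_⟩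
    refine Subtype.ext (funext fun x => LinearMap.ext fun v => ?_)
    obtain ⟨V₀, hxV₀, m₀, rfl⟩ := M.presheaf.exists_germ_eq v
    show φ ⟨x.1, h x.2⟩ (M.presheaf.germ V₀ x.1 hxV₀ m₀) = _
    have hxV : x.1 ∈ V₀ ⊓ W' := ⟨hxV₀, x.2⟩
    rw [← germ_res_mod M (inf_le_left : V₀ ⊓ W' ≤ V₀) m₀ hxV, hφ _ _ (inf_le_right.trans h)]
    -- the value agrees with the given family
    obtain ⟨N, hxN, j, n, hn⟩ := RefHull.isLocSect_of_mem g (V₀ ⊓ W') (homOfLE inf_le_right)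
      (M.presheaf.map (homOfLE inf_le_left).op m₀) ⟨x.1, hxV⟩
    have e : (Scheme.Modules.presheaf 𝒪).map j.op (t _ (inf_le_right.trans h) (M.presheaf.map (homOfLE inf_le_left).op m₀)) = n := by
      refine isVal_unique hU M g.1 (hle (j.le.trans (inf_le_right.trans h)))
        (M.presheaf.map j.op (M.presheaf.map (homOfLE inf_le_left).op m₀)) _ _ (fun y hy hyU hyW => ?_) fun y hy hyU hyW => ?_
      · erw [TopCat.Presheaf.germ_res_apply, TopCat.Presheaf.germ_res_apply]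
        exact ht _ _ _ y (j.le hy) hyU hyW
      · erw [TopCat.Presheaf.germ_res_apply]
        exact (hn ⟨y, hy⟩).symm
    rw [← TopCat.Presheaf.germ_res_apply _ j x.1 hxN, e]
    exact (hn ⟨x.1, hxN⟩).symm

theorem isIso_unit (hU : ModPairLib.IsDenseOpen U) (hP : ∀ z : X, z ∉ U → RegPairExtend.HasRegPair z)
    (M : X.Modules) : IsIso ((Scheme.Modules.restrictAdjunction U.ι).unit.app (RefHull.homSh M 𝒪)) :=
  Scheme.Modules.Hom.isIso_iff_isIso_app.2 fun W => by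
    rw [Scheme.Modules.restrictAdjunction_unit_app_app]
    refine (ConcreteCategory.isIso_iff_bijective _).2 (bijective_map hU hP M _ ?_)
    intro y hy
    exact ⟨⟨y, hy.1⟩, hy.2, rfl⟩

end Groth.Agent.SDiv28.DualExtend
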