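import Groth.Agent.PicLib.BasisOn
import Groth.Agent.PicLib.Invertible
import Groth.Agent.SDiv28.DualExtend
import Groth.Agent.SDiv28.WeakAssUnit
import Groth.Agent.Canon15.TopDiff
import Groth.Agent.Canon15.RestrictGen

/-!
# The biduality map is bijective where the module has a generator
-/

set_option autoImplicit false
set_option backward.isDefEq.respectTransparency false
set_option linter.style.haveILetI false
universe u

open CategoryTheory CategoryTheory.Limits AlgebraicGeometry TopologicalSpace Opposite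
open Groth.Agent.Coherent Groth.Agent.PicLib

namespace Groth.Agent.SDiv28.BidualGen

variable {X : Scheme.{u}} {L : X.Modules} {V : X.Opens} {s : Γ(L, V)}

local notation "𝒪" => Coh.structureModule X

open DualExtend (germ_res_mod sec_ext_germ)

theorem bijective_smul_germ (hs : IsGen L V s) {x : X} (hx : x ∈ V) :
    Function.Bijective (fun a : X.presheaf.stalk x => a • L.presheaf.germ V x hx s) := by
  constructor
  · intro a b hab
    obtain ⟨Ua, hxa, ra, rfl⟩ := X.presheaf.exists_germ_eq a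
    obtain ⟨Ub, hxb, rb, rfl⟩ := X.presheaf.exists_germ_eq b
    let N := Ua ⊓ Ub ⊓ V
    have hN : x ∈ N := ⟨⟨hxa, hxb⟩, hx⟩
    have e : ∀ {A : X.Opens} (hA : x ∈ A) (r : Γ(X, A)) (hNA : N ≤ A),
        X.presheaf.germ A x hA r • L.presheaf.germ V x hx s =
          L.presheaf.germ N x hN (X.presheaf.map (homOfLE hNA).op r • resM L (inf_le_right : N ≤ V) s) := by
      intro A hA r hNA
      rw [Mero.germ_smul, TopCat.Presheaf.germ_res_apply]
      exact congrArg _ (germ_res_mod L inf_le_right s hN).symm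
    dsimp only at hab
    rw [e hxa ra (inf_le_left.trans inf_le_left), e hxb rb (inf_le_left.trans inf_le_right)] at hab
    obtain ⟨N', hxN', i, i', hi⟩ := L.presheaf.germ_eq x hN hN _ _ hab
    have hk := (hs N' (i.le.trans inf_le_right)).1
      (a₁ := X.presheaf.map i.op (X.presheaf.map (homOfLE (inf_le_left.trans inf_le_left : N ≤ Ua)).op ra))
      (a₂ := X.presheaf.map i'.op (X.presheaf.map (homOfLE (inf_le_left.trans inf_le_right : N ≤ Ub)).op rb)) (by
        rw [Subsingleton.elim i' i] at hi ⊢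
        rw [Scheme.Modules.map_smul, Scheme.Modules.map_smul] at hi
        have e2 : L.presheaf.map i.op (resM L (inf_le_right : N ≤ V) s) = resM L (i.le.trans inf_le_right) s :=
          resM_resM L _ i.le s
        rw [e2] at hi
        exact hi)
    have := congrArg (X.presheaf.germ N' x hxN') hk
    rwa [TopCat.Presheaf.germ_res_apply, TopCat.Presheaf.germ_res_apply, TopCat.Presheaf.germ_res_apply,
      TopCat.Presheaf.germ_res_apply] at this
  · intro v
    obtain ⟨U₀, hx₀, m, rfl⟩ := L.presheaf.exists_germ_eq v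
    obtain ⟨r, hr⟩ := (hs (U₀ ⊓ V) inf_le_right).2 (L.presheaf.map (homOfLE inf_le_left).op m)
    refine ⟨X.presheaf.germ (U₀ ⊓ V) x ⟨hx₀, hx⟩ r, ?_⟩
    have := congrArg (L.presheaf.germ (U₀ ⊓ V) x ⟨hx₀, hx⟩) hr
    rw [Mero.germ_smul, germ_res_mod] at this
    dsimp only
    exact this.trans (germ_res_mod L inf_le_left m (⟨hx₀, hx⟩ : x ∈ U₀ ⊓ V))

/-- The dual generator. -/
noncomputable def dualGen (hs : IsGen L V s) {W : X.Opens} (hW : W ≤ V) : Γ(RefHull.dual L, W) :=
  ⟨show ∀ x : W, RefHull.StalkHom L 𝒪 x.1 from fun x => (SDiv28.unitStalkEquiv x.1).toLinearMap.comp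
      (LinearEquiv.ofBijective (LinearMap.toSpanSingleton _ _ (L.presheaf.germ V x.1 (hW x.2) s))
        (bijective_smul_germ hs (hW x.2))).symm.toLinearMap, fun V' i m x => by
    obtain ⟨r, hr⟩ := (hs V' (i.le.trans hW)).2 m
    refine ⟨V', x.2, 𝟙 V', (show Γ(𝒪, V') from r), fun y => ?_⟩
    have e : (LinearEquiv.ofBijective (LinearMap.toSpanSingleton _ _ (L.presheaf.germ V y.1 (hW (i.le y.2)) s))
        (bijective_smul_germ hs (hW (i.le y.2)))).symm (L.presheaf.germ V' y.1 y.2 m) =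
        X.presheaf.germ V' y.1 y.2 r := by
      apply (LinearEquiv.ofBijective (LinearMap.toSpanSingleton _ _ (L.presheaf.germ V y.1 (hW (i.le y.2)) s))
        (bijective_smul_germ hs (hW (i.le y.2)))).injective
      rw [LinearEquiv.apply_symm_apply, LinearEquiv.ofBijective_apply, LinearMap.toSpanSingleton_apply,
        ← hr, Mero.germ_smul]
      exact congrArg _ (germ_res_mod L (i.le.trans hW) s y.2)
    exact (congrArg (SDiv28.unitStalkEquiv y.1) e).trans (AssSch12.germ_eq_smul_unitOne y.1 y.2 r).symm⟩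

theorem dualGen_germ (hs : IsGen L V s) {W : X.Opens} (hW : W ≤ V) (x : W) :
    (dualGen hs hW).1 x (L.presheaf.germ V x.1 (hW x.2) s) = SDiv28.unitStalkEquiv x.1 1 := by
  let T := LinearEquiv.ofBijective (LinearMap.toSpanSingleton _ _ (L.presheaf.germ V x.1 (hW x.2) s))
    (bijective_smul_germ hs (hW x.2))
  show SDiv28.unitStalkEquiv x.1 (T.symm (L.presheaf.germ V x.1 (hW x.2) s)) = _
  refine congrArg _ (T.injective ?_)
  rw [LinearEquiv.apply_symm_apply]
  exact (one_smul (X.presheaf.stalk x.1) _).symm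

/-- The biduality map is bijective on sections below a generator. -/
theorem bijective_bidualMap_app (hs : IsGen L V s) {W : X.Opens} (hW : W ≤ V) :
    Function.Bijective ((RefHull.bidualMap L).app W) := by
  classical
  let θ := dualGen hs hW
  -- values on the dual generator
  have hval : ∀ (r : Γ(X, W)) (x : W),
      ((RefHull.bidualMap L).app W (r • resM L hW s)).1 x ((RefHull.dual L).presheaf.germ W x.1 x.2 θ) =
        X.presheaf.germ W x.1 x.2 r • SDiv28.unitStalkEquiv x.1 1 := by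
    intro r x
    rw [RefHull.bidualMap_app_apply, RefHull.bidualAt_apply, RefHull.evalStalk_germ, Mero.germ_smul,
      map_smul]
    refine congrArg _ (Eq.trans ?_ (dualGen_germ hs hW x))
    exact congrArg _ (germ_res_mod L hW s x.2)
  constructor
  · intro m₁ m₂ he
    obtain ⟨r₁, rfl⟩ := (hs W hW).2 m₁
    obtain ⟨r₂, rfl⟩ := (hs W hW).2 m₂
    dsimp only at he ⊢
    suffices r₁ = r₂ by rw [this]
    refine TopCat.Presheaf.section_ext X.sheaf W r₁ r₂ fun x hx => ?_
    have h := hval r₁ ⟨x, hx⟩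
    rw [he, hval r₂ ⟨x, hx⟩] at h
    rw [← map_smul, ← map_smul, smul_eq_mul, smul_eq_mul, mul_one, mul_one] at h
    exact ((SDiv28.unitStalkEquiv x).injective h).symm
  · intro g
    have hloc := fun x : W => RefHull.isLocSect_of_mem g W (𝟙 W) θ x
    choose N hxN j n hn using hloc
    obtain ⟨r, hr, -⟩ := X.sheaf.existsUnique_gluing' N W j
      (fun x hx => Opens.mem_iSup.2 ⟨⟨x, hx⟩, hxN ⟨x, hx⟩⟩) (fun x => (show Γ(X, N x) from n x))
      (fun a b => by
        refine TopCat.Presheaf.section_ext X.sheaf _ _ _ fun y hy => ?_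
        refine (SDiv28.unitStalkEquiv y).injective ?_
        have ha := hn a ⟨y, hy.1⟩
        have hb := hn b ⟨y, hy.2⟩
        erw [TopCat.Presheaf.germ_res_apply, TopCat.Presheaf.germ_res_apply]
        exact ((AssSch12.germ_eq_smul_unitOne y hy.1 (show Γ(X, N a) from n a)).symm.trans
          (ha.symm.trans hb)).trans (AssSch12.germ_eq_smul_unitOne y hy.2 (show Γ(X, N b) from n b)))
    let r' : Γ(X, W) := r
    refine ⟨r' • resM L hW s, Subtype.ext (funext fun x => LinearMap.ext fun w => ?_)⟩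
    have hgr : g.1 x ((RefHull.dual L).presheaf.germ W x.1 x.2 θ) =
        X.presheaf.germ W x.1 x.2 r' • SDiv28.unitStalkEquiv x.1 1 := by
      refine (hn x ⟨x.1, hxN x⟩).trans ?_
      refine (AssSch12.germ_eq_smul_unitOne x.1 (hxN x) (show Γ(X, N x) from n x)).trans ?_
      have e2 : X.presheaf.germ (N x) x.1 (hxN x) (show Γ(X, N x) from n x) =
          X.presheaf.germ W x.1 x.2 r' := by
        erw [← hr x, TopCat.Presheaf.germ_res_apply]
      rw [e2]
      exact congrArg _ (one_smul (X.presheaf.stalk x.1) _).symm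
    -- every germ of the dual is a multiple of the dual generator
    obtain ⟨U₁, hxU₁, ψ, rfl⟩ := (RefHull.dual L).presheaf.exists_germ_eq w
    let W₁ := U₁ ⊓ W
    obtain ⟨N₁, hxN₁, j₁, a, ha⟩ := RefHull.isLocSect_of_mem ψ W₁ (homOfLE inf_le_left)
      (resM L ((inf_le_right : W₁ ≤ W).trans hW) s) ⟨x.1, hxU₁, x.2⟩
    let a' : Γ(X, N₁) := a
    have hψ : (RefHull.dual L).presheaf.map (homOfLE (j₁.le.trans inf_le_left : N₁ ≤ U₁)).op ψ =
        a' • (RefHull.dual L).presheaf.map (homOfLE (j₁.le.trans inf_le_right : N₁ ≤ W)).op θ := by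
      refine Subtype.ext (funext fun y => LinearMap.ext fun v => ?_)
      obtain ⟨c, rfl⟩ := (bijective_smul_germ hs (hW (j₁.le y.2).2)).2 v
      show ψ.1 ⟨y.1, (j₁.le y.2).1⟩ _ = X.presheaf.germ N₁ y.1 y.2 a' • θ.1 ⟨y.1, (j₁.le y.2).2⟩ _
      dsimp only
      rw [map_smul, map_smul, smul_comm]
      refine congrArg _ ?_
      rw [dualGen_germ hs hW ⟨y.1, (j₁.le y.2).2⟩]
      refine Eq.trans ?_ ((ha y).trans ?_)
      · exact congrArg _ (germ_res_mod L ((inf_le_right : W₁ ≤ W).trans hW) s (j₁.le y.2)).symm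
      · refine (AssSch12.germ_eq_smul_unitOne y.1 y.2 a').trans ?_
        exact congrArg _ (one_smul (X.presheaf.stalk y.1) _).symm
    rw [← germ_res_mod (RefHull.dual L) (j₁.le.trans inf_le_left : N₁ ≤ U₁) ψ hxN₁, hψ, Mero.germ_smul,
      LinearMap.map_smul, LinearMap.map_smul, germ_res_mod, hval, hgr]

/-- A top exterior power has a generator near the points of a basis. -/
theorem exists_isGen_of_isBasisOn {n : ℕ} {N : X.Modules} {U₀ : X.Opens}
    {e₀ : ULift.{u} (Fin n) → Γ(N, U₀)} (hb₀ : IsBasisOn N U₀ e₀) {y : X} (hy₀ : y ∈ U₀)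
    (hL : ExtPow.IsExtPow n N L) : ∃ (U : X.Opens), U ≤ U₀ ∧ y ∈ U ∧ ∃ s : Γ(L, U), IsGen L U s := by
  obtain ⟨φ, hφ⟩ := hL
  obtain ⟨U, hU, hyU, hle⟩ := Opens.isBasis_iff_nbhd.mp X.isBasis_affineOpens hy₀
  let e : Fin n → N.val.obj (op U) := fun i => resM N hle (e₀ ⟨i⟩)
  refine ⟨U, hle, hyU, (φ ⟨U, hU⟩).symm (exteriorPower.ιMulti _ n e), Lift15.isGen_of_affine _ fun V hV h => ?_⟩
  let e' : Fin n → N.val.obj (op V) := fun i => N.val.map (homOfLE h).op (e i)
  have hres : ∀ i, e' i = resM N (h.trans hle) (e₀ ⟨i⟩) := fun i => resM_resM N hle h (e₀ ⟨i⟩)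
  let T : (Fin n → Γ(X, V)) →ₗ[Γ(X, V)] N.val.obj (op V) := Fintype.linearCombination Γ(X, V) e'
  have hT : Function.Bijective T := by
    have hh := hb₀ (h.trans hle)
    have key : ⇑T = (fun c : ULift.{u} (Fin n) → Γ(X, V) => ∑ i, c i • resM N (h.trans hle) (e₀ i)) ∘
        fun c i => c i.down := funext fun c => by
      show ∑ i, c i • e' i = ∑ i : ULift.{u} (Fin n), c i.down • resM N (h.trans hle) (e₀ i)
      refine Fintype.sum_equiv Equiv.ulift.symm _ _ fun i => ?_
      rw [hres i]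
      rfl
    rw [key]
    exact hh.comp (Equiv.arrowCongr Equiv.ulift.symm (Equiv.refl _)).bijective
  let b : Module.Basis (Fin n) Γ(X, V) (N.val.obj (op V)) := Module.Basis.ofEquivFun (LinearEquiv.ofBijective T hT).symm
  have hb : ⇑b = e' := funext fun i => by
    classical
    simp [b, T, Fintype.linearCombination_apply, Module.Basis.coe_ofEquivFun, LinearEquiv.ofBijective_apply, Pi.single_apply, ite_smul]
  have hbij := Frob15.bijective_smul_ιMulti b
  rw [hb] at hbij
  have hcomp := (φ ⟨V, hV⟩).symm.bijective.comp hbij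
  have key : (fun r : Γ(X, V) => r • resM L h ((φ ⟨U, hU⟩).symm (exteriorPower.ιMulti _ n e))) =
      ⇑(φ ⟨V, hV⟩).symm ∘ (fun r : Γ(X, V) => r • exteriorPower.ιMulti Γ(X, V) n e') := funext fun r => by
    rw [show resM L h ((φ ⟨U, hU⟩).symm (exteriorPower.ιMulti _ n e)) =
      (φ ⟨V, hV⟩).symm (exteriorPower.ιMulti _ n e') from hφ ⟨U, hU⟩ ⟨V, hV⟩ h e]
    exact ((φ ⟨V, hV⟩).symm.map_smul r _).symm
  rw [key]
  exact hcomp

/-- A basis of a restriction is a basis. -/
theorem exists_isBasisOn_of_restrict {n : ℕ} {N : X.Modules} {U : X.Opens}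
    (hN : FlatMod.IsFinLocFreeOfRank n (N.restrict U.ι)) {y : X} (hy : y ∈ U) :
    ∃ (U₀ : X.Opens) (e₀ : ULift.{u} (Fin n) → Γ(N, U₀)), U₀ ≤ U ∧ y ∈ U₀ ∧ IsBasisOn N U₀ e₀ := by
  obtain ⟨O, e, hyO, hb⟩ := Canon15.exists_isBasisOn_rank hN ⟨y, hy⟩
  have hOU : U.ι ''ᵁ O ≤ U := by
    rintro _ ⟨z, -, rfl⟩
    exact z.2
  refine ⟨U.ι ''ᵁ O, fun i => (N.restrictAppIso U.ι O).hom (e i), hOU, ⟨⟨y, hy⟩, hyO, rfl⟩, fun V hV => ?_⟩
  obtain ⟨W, rfl⟩ : ∃ W : U.toScheme.Opens, U.ι ''ᵁ W = V := by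
    refine ⟨U.ι ⁻¹ᵁ V, ?_⟩
    rw [U.ι.image_preimage_eq_opensRange_inf, Scheme.Opens.opensRange_ι, inf_eq_right]
    exact hV.trans hOU
  have hWO : W ≤ O := fun z hz => by
    obtain ⟨z', hz', hzz⟩ := hV ⟨z, hz, rfl⟩
    exact U.ι.isOpenEmbedding.injective hzz ▸ hz'
  have h1 := ConcreteCategory.bijective_of_isIso (U.ι.appIso W).hom
  have h4 := ConcreteCategory.bijective_of_isIso (N.restrictAppIso U.ι W).hom
  have h1' : Function.Bijective (fun c : ULift.{u} (Fin n) → Γ(X, U.ι ''ᵁ W) => fun i => (U.ι.appIso W).hom (c i)) :=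
    Function.Bijective.piMap fun _ => h1
  convert h4.comp ((hb hWO).comp h1') using 1
  funext c
  simp only [Function.comp_apply, map_sum]
  refine Finset.sum_congr rfl fun i _ => ?_
  refine Eq.trans ?_ (Scheme.Modules.smul_restrictAppIso_hom_apply U.ι N W _ _).symm
  refine congrArg₂ (fun a b => a • b) ?_ rfl
  rw [← ConcreteCategory.comp_apply, Iso.hom_inv_id]
  rfl

theorem bijective_app_of_cover {M N : X.Modules} (φ : M ⟶ N) (W : X.Opens)
    (h : ∀ x ∈ W, ∃ V : X.Opens, x ∈ V ∧ ∀ W' ≤ V, Function.Bijective (φ.app W')) :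
    Function.Bijective (φ.app W) := by
  classical
  choose V hxV hV using h
  constructor
  · intro m₁ m₂ he
    refine sec_ext_germ M m₁ m₂ fun y hy => ?_
    have hy' : y ∈ W ⊓ V y hy := ⟨hy, hxV y hy⟩
    rw [← germ_res_mod M (inf_le_left : W ⊓ V y hy ≤ W) m₁ hy',
      ← germ_res_mod M (inf_le_left : W ⊓ V y hy ≤ W) m₂ hy']
    refine congrArg _ ((hV y hy _ inf_le_right).1 ?_)
    exact (app_resM φ _ m₁).trans ((congrArg (resM N _) he).trans (app_resM φ _ m₂).symm)
  · intro t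
    let O : W → X.Opens := fun x => W ⊓ V x.1 x.2
    choose m hm using fun x : W => (hV x.1 x.2 (O x) inf_le_right).2 (resM N (inf_le_left : O x ≤ W) t)
    let Sh : TopCat.Sheaf Ab X := ⟨M.presheaf, M.isSheaf⟩
    obtain ⟨g, hg, -⟩ := Sh.existsUnique_gluing' O W (fun x => homOfLE inf_le_left)
      (fun x hx => Opens.mem_iSup.2 ⟨⟨x, hx⟩, hx, hxV x hx⟩) m (fun a b => by
        show resM M (inf_le_left : O a ⊓ O b ≤ O a) (m a) = resM M (inf_le_right : O a ⊓ O b ≤ O b) (m b)
        refine (hV a.1 a.2 _ (inf_le_left.trans inf_le_right)).1 ?_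
        rw [app_resM, app_resM, hm a, hm b, resM_resM, resM_resM])
    refine ⟨g, sec_ext_germ N _ _ fun y hy => ?_⟩
    have hy' : y ∈ O ⟨y, hy⟩ := ⟨hy, hxV y hy⟩
    rw [← germ_res_mod N (inf_le_left : O ⟨y, hy⟩ ≤ W) (φ.app W g) hy',
      ← germ_res_mod N (inf_le_left : O ⟨y, hy⟩ ≤ W) t hy']
    refine congrArg _ ?_
    exact (app_resM φ _ g).symm.trans ((congrArg (φ.app _) (hg ⟨y, hy⟩)).trans (hm ⟨y, hy⟩))

end Groth.Agent.SDiv28.BidualGen
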