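import Groth.Agent.SDiv28.UfdPrincipal
import Groth.Agent.SDiv28.StalkCartier
import Groth.Agent.SDiv28.SchDenseAss
import Groth.Agent.ModPairLib.MProd
import Groth.Agent.Misc15.DivDescentSheaf
import Groth.Agent.Misc15.StalkLoc
import Groth.Agent.CAlgH3.Serre
import Groth.Prelude.Def_BlowUp2
import Mathlib

/-!
# Closure of an effective Cartier divisor of an open through factorial points
-/

set_option autoImplicit false
set_option backward.isDefEq.respectTransparency.types false
universe u

open CategoryTheory AlgebraicGeometry IsLocalRing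
open Groth.Agent.Misc15.DivDescent

namespace Groth.Agent.SDiv28.CartierExtend

theorem dim_eq_one {R : Type u} [CommRing R] [IsNoetherianRing R] [IsLocalRing R] [IsDomain R]
    [IsIntegrallyClosed R] {g : R} (hg : g ≠ 0) (hgm : g ∈ maximalIdeal R)
    (hass : maximalIdeal R ∈ associatedPrimes R (R ⧸ Ideal.span {g})) : ringKrullDim R = 1 := by
  have hreg : IsSMulRegular R g := fun a b hab => mul_left_cancel₀ hg hab
  have hnt := CAlgH3.nontrivial_quotSMulTop (M := R) hgm
  have hge : (1 : WithBot ℕ∞) ≤ ringKrullDim R := by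
    haveI : Nontrivial (R ⧸ Ideal.span {g}) := Ideal.Quotient.nontrivial_iff.2
      (ne_top_of_le_ne_top (maximalIdeal.isMaximal R).ne_top
        ((Ideal.span_singleton_le_iff_mem _).2 hgm))
    refine le_trans ?_ (ringKrullDim_quotient_succ_le_of_nonZeroDivisor (mem_nonZeroDivisors_of_ne_zero hg))
    calc (1 : WithBot ℕ∞) = 0 + 1 := (zero_add 1).symm
      _ ≤ _ := by gcongr; exact ringKrullDim_nonneg_of_nontrivial
  refine le_antisymm ?_ hge
  by_contra h2
  have hd : 2 ≤ ringKrullDim R := by
    have h3 := not_le.1 h2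
    revert h3
    generalize ringKrullDim R = d
    induction d using WithBot.recBotCoe with
    | bot => intro h3; exact absurd h3 not_lt_bot
    | coe d =>
      intro h3
      exact WithBot.coe_le_coe.2 (by
        have h4 : (1 : ℕ∞) < d := WithBot.coe_lt_coe.1 h3
        simpa [one_add_one_eq_two] using Order.add_one_le_of_lt h4)
  have h := CAlgH3.two_le_depth_of_normal (R := R) hd
  rw [← CAlgH3.depth_quotSMulTop_add_one hgm hreg, show (2 : ℕ∞) = ((1 + 1 : ℕ) : ℕ∞) from rfl,
    CAlgH3.natCast_add_one_le_iff, Nat.cast_one, CAlgH3.one_le_depth_iff,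
    LinearEquiv.AssociatedPrimes.eq (CAlgH3.quotSMulTopSelf g)] at h
  exact h hass

variable {X : Scheme.{u}} [IsLocallyNoetherian X]

theorem exists_extension (U : X.Opens) (D : (U : Scheme.{u}).IdealSheafData)
    (hD : BlowUp.IsEffCartierIdeal D)
    (hufd : ∀ x : X, x ∉ U → IsDomain (X.presheaf.stalk x) ∧ UniqueFactorizationMonoid (X.presheaf.stalk x)) :
    ∃ D' : X.IdealSheafData, BlowUp.IsEffCartierIdeal D' ∧ D'.comap U.ι = D := by
  haveI : IsLocallyNoetherian (U : Scheme.{u}) := isLocallyNoetherian_of_isOpenImmersion U.ι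
  haveI : QuasiCompact U.ι := inferInstance
  let I : X.IdealSheafData := (D.subschemeι ≫ U.ι).ker
  have hcomap : I.comap U.ι = D := by
    refine Scheme.IdealSheafData.ext (funext fun W => ?_)
    have hsq : IsPullback D.subschemeι (𝟙 D.subscheme) U.ι (D.subschemeι ≫ U.ι) :=
      IsPullback.of_vert_isIso_mono ⟨by simp⟩
    rw [Scheme.IdealSheafData.ideal_comap_of_isOpenImmersion,
      ← Scheme.ker_ideal_of_isPullback_of_isOpenImmersion (D.subschemeι ≫ U.ι) D.subschemeι
        (𝟙 D.subscheme) U.ι hsq, Scheme.IdealSheafData.ker_subschemeι]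
  have hgen : ∀ u : (U : Scheme.{u}), ∃ g ∈ nonZeroDivisors (X.presheaf.stalk (U.ι u)),
      stk I (U.ι u) = Ideal.span {g} := fun u => by
    obtain ⟨g, hg, hgD⟩ := exists_gen hD u
    rw [← hcomap, stk_comap] at hgD
    let e := (asIso (U.ι.stalkMap u)).commRingCatIsoToRingEquiv
    refine ⟨e.symm g, (MulEquivClass.map_nonZeroDivisors e.symm).le (Submonoid.mem_map_of_mem _ hg), ?_⟩
    have h1 : stk I (U.ι u) = (Ideal.span {g}).map e.symm.toRingHom := by
      rw [← hgD, Ideal.map_map]
      have : e.symm.toRingHom.comp (U.ι.stalkMap u).hom = RingHom.id _ :=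
        RingHom.ext fun a => e.symm_apply_apply a
      rw [this, Ideal.map_id]
    rw [h1, Ideal.map_span, Set.image_singleton]
    rfl
  have hdense : CInt.IsSchematicallyDense (I.subschemeι ⁻¹ᵁ U) := fun V =>
    (injective_iff_map_eq_zero _).2 fun s hs =>
      ModPairLib.isDenseOpen_imageι_preimage U D.subschemeι V s hs
  haveI : IsLocallyNoetherian I.subscheme := LocallyOfFiniteType.isLocallyNoetherian I.subschemeι
  refine ⟨I, StalkCartier.isEffCartierIdeal_of_stalks I fun x _ W hxW => ?_, hcomap⟩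
  rw [← stk_eq I W hxW]
  by_cases hxU : x ∈ U
  · exact hgen ⟨x, hxU⟩
  obtain ⟨hdom, hu⟩ := hufd x hxU
  obtain ⟨V, hxV, f, hf, hfV⟩ := Ufd.exists_nhd I x hdom hu fun z hzx hz => by
    have hzU : I.subschemeι z ∈ U := (isSchematicallyDense_iff _).1 hdense z hz
    obtain ⟨g, hg, hgI⟩ := hgen ⟨_, hzU⟩
    replace hgI : stk I (I.subschemeι z) = Ideal.span {g} := hgI
    have hker : RingHom.ker (I.subschemeι.stalkMap z).hom = stk I (I.subschemeι z) := by
      obtain ⟨_, ⟨V, hV, rfl⟩, hzV, -⟩ :=
        X.isBasis_affineOpens.exists_subset_of_mem_open (Set.mem_univ (I.subschemeι z)) isOpen_univ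
      haveI : IsClosedImmersion (I.subschemeι ∣_ V) := inferInstance
      rw [CAlgH.RegImmStalk.ker_stalkMap_eq I.subschemeι z hV hzV, I.ker_subschemeι_app ⟨V, hV⟩,
        ← stk_eq I ⟨V, hV⟩ hzV]
    letI := (X.presheaf.stalkSpecializes hzx).hom.toAlgebra
    haveI := Misc15.isLocalization_stalkSpecializes hzx
    let R := X.presheaf.stalk (I.subschemeι z)
    have hM : ((IsUnit.submonoid R).comap (X.presheaf.stalkSpecializes hzx).hom) ≤
        nonZeroDivisors (X.presheaf.stalk x) := fun a ha => mem_nonZeroDivisors_of_ne_zero fun h0 => by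
      have ha' : IsUnit ((X.presheaf.stalkSpecializes hzx).hom a) := ha
      rw [h0, map_zero] at ha'
      exact not_isUnit_zero ha'
    haveI : IsDomain R := IsLocalization.isDomain_of_le_nonZeroDivisors _ hM
    haveI : IsIntegrallyClosed R := isIntegrallyClosed_of_isLocalization _ _ hM
    refine dim_eq_one (nonZeroDivisors.ne_zero (show g ∈ nonZeroDivisors R from hg)) ?_ ?_
    · have h1 : RingHom.ker (I.subschemeι.stalkMap z).hom ≤ maximalIdeal R :=
        le_maximalIdeal (RingHom.ker_ne_top _)
      rw [hker] at h1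
      exact h1 (hgI ▸ Ideal.mem_span_singleton_self g)
    · obtain ⟨-, m, hm⟩ := hz
      obtain ⟨a, rfl⟩ := I.subschemeι.stalkMap_surjective z m
      refine ⟨inferInstance, Ideal.Quotient.mk _ a, Ideal.ext fun r => ?_⟩
      have h2 : r ∈ maximalIdeal R ↔
          (I.subschemeι.stalkMap z).hom r ∈ maximalIdeal (I.subscheme.presheaf.stalk z) := by
        rw [mem_maximalIdeal, mem_maximalIdeal, mem_nonunits_iff, mem_nonunits_iff,
          isUnit_map_iff]
      rw [h2, hm]
      refine exists_congr fun n => ?_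
      rw [Submodule.mem_colon_singleton, Submodule.mem_bot, smul_eq_mul, Submodule.mem_colon_singleton,
        Submodule.mem_bot, Algebra.smul_def, Ideal.Quotient.algebraMap_eq, ← map_mul,
        Ideal.Quotient.eq_zero_iff_mem, ← map_pow, ← map_mul, ← RingHom.mem_ker, hker, hgI]
      exact Iff.rfl
  exact ⟨_, germ_mem_nonZeroDivisors V hf hxV, stk_span I V hfV hxV⟩

end Groth.Agent.SDiv28.CartierExtend
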