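import Groth.Agent.SDiv28.SchDenseAss
import Groth.Agent.SDiv28.WeakAssUnit
import Groth.Agent.CAlgH3.Factorial
import Groth.Agent.ModPairLib.EffCartier
import Mathlib

/-!
# Pure codimension one closed subschemes with factorial local rings are effective Cartier
-/

set_option autoImplicit false
set_option backward.isDefEq.respectTransparency.types false
universe u

open CategoryTheory AlgebraicGeometry Opposite TopologicalSpace
open Groth.Agent.AssSch12
open Groth.Agent.ModPairLib (res)

namespace Groth.Agent.SDiv28.Ufd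

/-- An ideal of a Noetherian factorial domain all of whose associated primes have height one is principal. -/
theorem isPrincipal_of_ass_height_one {R : Type u} [CommRing R] [IsNoetherianRing R] [IsDomain R]
    [UniqueFactorizationMonoid R] (I : Ideal R)
    (h : ∀ q ∈ associatedPrimes R (R ⧸ I), q.height = 1) : Submodule.IsPrincipal I := by
  induction I using IsWellFounded.induction (α := Ideal R) (· > ·) with
  | ind I IH =>
    rcases eq_or_ne I ⊤ with rfl | htop
    · exact top_isPrincipal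
    haveI : Nontrivial (R ⧸ I) := Ideal.Quotient.nontrivial_iff.2 htop
    obtain ⟨q, hq⟩ := associatedPrimes.nonempty R (R ⧸ I)
    haveI := hq.isPrime
    have hI : I ≠ ⊥ := by
      rintro rfl
      have hq0 : q = ⊥ := by
        obtain ⟨-, z, hz⟩ := hq
        obtain ⟨a, rfl⟩ := Ideal.Quotient.mk_surjective z
        have ha : a ≠ 0 := fun ha => ‹q.IsPrime›.ne_top (by
          rw [hz, ha, map_zero]
          refine (Ideal.eq_top_iff_one _).2 ⟨1, ?_⟩
          simp)
        rw [hz, eq_bot_iff]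
        rintro r ⟨n, hn⟩
        rw [Submodule.mem_colon_singleton, Submodule.mem_bot, Algebra.smul_def, Ideal.Quotient.algebraMap_eq,
          ← map_mul, Ideal.Quotient.eq_zero_iff_mem, Ideal.mem_bot, mul_eq_zero, or_iff_left ha] at hn
        exact (pow_eq_zero_iff'.1 hn).1
      have := h q hq
      rw [hq0, Ideal.height_bot] at this
      exact zero_ne_one this
    obtain ⟨π, hπ⟩ := CAlgH3.isPrincipal_of_height_le_one q (h q hq).le
    change q = Ideal.span {π} at hπ
    have hIq : I ≤ q := fun r hr => by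
      obtain ⟨-, z, hz⟩ := hq
      rw [hz]
      refine ⟨1, ?_⟩
      rw [pow_one, Submodule.mem_colon_singleton, Submodule.mem_bot, Algebra.smul_def,
        Ideal.Quotient.algebraMap_eq, Ideal.Quotient.eq_zero_iff_mem.2 hr, zero_mul]
    let J : Ideal R := Submodule.comap (LinearMap.mulLeft R π) I
    have hJ : ∀ r, r ∈ J ↔ π * r ∈ I := fun r => Iff.rfl
    have hIJ : I = Ideal.span {π} * J := by
      refine le_antisymm (fun r hr => ?_) (Ideal.mul_le.2 fun a ha b hb => ?_)
      · obtain ⟨c, rfl⟩ := Ideal.mem_span_singleton'.1 (hπ.le (hIq hr))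
        rw [mul_comm c π] at hr ⊢
        exact Ideal.mul_mem_mul (Ideal.mem_span_singleton_self π) ((hJ c).2 hr)
      · obtain ⟨c, rfl⟩ := Ideal.mem_span_singleton'.1 ha
        rw [mul_assoc]
        exact I.mul_mem_left c hb
    have hle : I ≤ J := fun r hr => I.mul_mem_left π hr
    have hlt : I < J := lt_of_le_of_ne hle fun he => hI (by
      have h1 : I ≤ q • I := by
        rw [smul_eq_mul, hπ]
        exact (hIJ.trans (congrArg _ he.symm)).le
      obtain ⟨r, hr1, hr0⟩ :=
        Submodule.exists_sub_one_mem_and_smul_eq_zero_of_fg_of_le_smul q I (IsNoetherian.noetherian I) h1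
      refine eq_bot_iff.2 fun a ha => ?_
      rcases mul_eq_zero.1 (hr0 a ha) with h2 | h2
      · exact absurd ((Ideal.eq_top_iff_one q).2 (by simpa [h2] using hr1)) ‹q.IsPrime›.ne_top
      · exact h2)
    let μ : (R ⧸ J) →ₗ[R] R ⧸ I := Submodule.mapQ J I (LinearMap.mulLeft R π) le_rfl
    have hμ : Function.Injective μ := by
      refine (injective_iff_map_eq_zero _).2 fun z => ?_
      obtain ⟨a, rfl⟩ := Submodule.Quotient.mk_surjective J z
      intro h0
      exact (Submodule.Quotient.mk_eq_zero J).2 ((Submodule.Quotient.mk_eq_zero I).1 h0)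
    obtain ⟨g, hg⟩ := IH J hlt fun p hp => h p (IsAssociatedPrime.map_of_injective μ hp hμ)
    change J = Ideal.span {g} at hg
    exact ⟨π * g, by rw [hIJ, hg, Ideal.span_singleton_mul_span_singleton]⟩

variable {X : Scheme.{u}}

/-- Associated primes of `Γ(U)/I(U)` are images of associated points of the subscheme. -/
theorem exists_point_of_ass (I : X.IdealSheafData) (U : X.affineOpens) {q : Ideal Γ(X, U)}
    (hq : q ∈ associatedPrimes Γ(X, U) (Γ(X, U) ⧸ I.ideal U)) :
    ∃ (z : I.subscheme) (hz : I.subschemeι z ∈ U.1),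
      IsAssociatedPrime (IsLocalRing.maximalIdeal (I.subscheme.presheaf.stalk z)) (I.subscheme.presheaf.stalk z) ∧
        primeAt U.2 hz = q := by
  let φ := (I.subschemeι.app U.1).hom
  have hφ : Function.Surjective φ := I.subschemeι_app_surjective U
  have hker : RingHom.ker φ = I.ideal U := I.ker_subschemeι_app U
  have hW : IsAffineOpen (I.subschemeι ⁻¹ᵁ U.1) := U.2.preimage _
  obtain ⟨hqp, m, hm⟩ := hq
  obtain ⟨a, rfl⟩ := Ideal.Quotient.mk_surjective m
  have hmem : ∀ r, r ∈ q ↔ ∃ n : ℕ, r ^ n * a ∈ I.ideal U := fun r => by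
    rw [hm]
    refine exists_congr fun n => ?_
    rw [Submodule.mem_colon_singleton, Submodule.mem_bot, Algebra.smul_def, Ideal.Quotient.algebraMap_eq,
      ← map_mul, Ideal.Quotient.eq_zero_iff_mem]
  have hle : RingHom.ker φ ≤ q := fun r hr => (hmem r).2 ⟨1, by
    rw [pow_one]; exact (I.ideal U).mul_mem_right _ (hker ▸ hr)⟩
  let q' := q.map φ
  haveI : q'.IsPrime := Ideal.map_isPrime_of_surjective hφ hle
  have hcomap : q'.comap φ = q := by
    rw [Ideal.comap_map_of_surjective φ hφ, sup_eq_left]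
    exact hle
  have hass : q' ∈ associatedPrimes Γ(I.subscheme, I.subschemeι ⁻¹ᵁ U.1) Γ(I.subscheme, I.subschemeι ⁻¹ᵁ U.1) := by
    refine ⟨inferInstance, φ a, Ideal.ext fun b => ?_⟩
    obtain ⟨r, rfl⟩ := hφ b
    rw [← Ideal.mem_comap, hcomap, hmem]
    refine exists_congr fun n => ?_
    rw [Submodule.mem_colon_singleton, Submodule.mem_bot, smul_eq_mul, ← map_pow, ← map_mul,
      ← RingHom.mem_ker, hker]
  obtain ⟨z, hz, hzq⟩ := exists_point hW q'
  refine ⟨z, hz, (isAssociatedPrime_stalk_iff hW hz).2 (hzq ▸ mem_weakAss_of_isAssociatedPrime hass), ?_⟩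
  ext r
  rw [← hcomap, Ideal.mem_comap, ← hzq, ← not_iff_not, notMem_primeAt_iff, notMem_primeAt_iff]
  exact iff_of_eq (congrArg (z ∈ ·) (Scheme.preimage_basicOpen I.subschemeι r))

/-- If the stalk ideal at `x` has associated primes of height one, `I` is Cartier near `x`. -/
theorem exists_nhd [IsLocallyNoetherian X] (I : X.IdealSheafData) (x : X)
    (hdom : IsDomain (X.presheaf.stalk x)) (hufd : UniqueFactorizationMonoid (X.presheaf.stalk x))
    (h : ∀ z : I.subscheme, I.subschemeι z ⤳ x →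
      IsAssociatedPrime (IsLocalRing.maximalIdeal (I.subscheme.presheaf.stalk z)) (I.subscheme.presheaf.stalk z) →
      ringKrullDim (X.presheaf.stalk (I.subschemeι z)) = 1) :
    ∃ V : X.affineOpens, x ∈ V.1 ∧
      ∃ f : Γ(X, V.1), f ∈ nonZeroDivisors Γ(X, V.1) ∧ I.ideal V = Ideal.span {f} := by
  classical
  obtain ⟨_, ⟨U, hU, rfl⟩, hxU, -⟩ :=
    X.isBasis_affineOpens.exists_subset_of_mem_open (Set.mem_univ x) isOpen_univ
  haveI := isNoetherianRing_of_isAffineOpen hU
  letI := TopCat.Presheaf.algebra_section_stalk X.presheaf (⟨x, hxU⟩ : U)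
  haveI := hU.isLocalization_stalk ⟨x, hxU⟩
  haveI : IsNoetherianRing (X.presheaf.stalk x) := inferInstance
  let A := Γ(X, U)
  let R := X.presheaf.stalk x
  let p := primeAt hU hxU
  haveI : p.IsPrime := (hU.primeIdealOf ⟨x, hxU⟩).2
  haveI : IsLocalization p.primeCompl R := hU.isLocalization_stalk ⟨x, hxU⟩
  let I₀ := I.ideal ⟨U, hU⟩
  let J : Ideal R := Submodule.localized' R p.primeCompl (Algebra.linearMap A R) I₀
  have hJ : J = I₀.map (algebraMap A R) := Ideal.localized'_eq_map _ _ _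
  have hheight : ∀ Q ∈ associatedPrimes R (R ⧸ J), Q.height = 1 := by
    intro Q hQ
    have hQ' := Module.associatedPrimes.comap_mem_associatedPrimes_of_mem_associatedPrimes_of_isLocalizedModule_of_fg
      p.primeCompl (Submodule.toLocalizedQuotient' R p.primeCompl (Algebra.linearMap A R) I₀) Q hQ
      (IsNoetherian.noetherian _)
    obtain ⟨z, hz, hass, hzq⟩ := exists_point_of_ass I ⟨U, hU⟩ hQ'
    have hspec : I.subschemeι z ⤳ x := by
      rw [specializes_iff hU hz hxU, hzq]
      haveI := hQ.isPrime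
      exact (Ideal.comap_mono (IsLocalRing.le_maximalIdeal hQ.isPrime.ne_top)).trans
        (IsLocalization.AtPrime.under_maximalIdeal R p).le
    have h1 := h z hspec hass
    letI := TopCat.Presheaf.algebra_section_stalk X.presheaf (⟨_, hz⟩ : U)
    haveI := hU.isLocalization_stalk ⟨_, hz⟩
    haveI : (primeAt hU hz).IsPrime := (hU.primeIdealOf ⟨_, hz⟩).2
    haveI : IsLocalization.AtPrime (X.presheaf.stalk (I.subschemeι z)) (primeAt hU hz) := hU.isLocalization_stalk ⟨_, hz⟩
    rw [IsLocalization.AtPrime.ringKrullDim_eq_height (primeAt hU hz), hzq] at h1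
    rw [← IsLocalization.height_under p.primeCompl]
    exact_mod_cast h1
  obtain ⟨g, hg⟩ := isPrincipal_of_ass_height_one J hheight
  change J = Ideal.span {g} at hg
  have hg0 : g ≠ 0 := by
    rintro rfl
    rw [Ideal.span_singleton_eq_bot.2 rfl] at hg
    haveI : Nontrivial (R ⧸ J) := Ideal.Quotient.nontrivial_iff.2 (hg ▸ bot_ne_top)
    obtain ⟨Q, hQ⟩ := associatedPrimes.nonempty R (R ⧸ J)
    have h1 := hheight Q hQ
    obtain ⟨hQp, z, hz⟩ := hQ
    obtain ⟨c, rfl⟩ := Ideal.Quotient.mk_surjective z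
    have hc : c ≠ 0 := fun hc => hQp.ne_top (by
      rw [hz, hc, map_zero]
      refine (Ideal.eq_top_iff_one _).2 ⟨1, ?_⟩
      simp)
    have : Q = ⊥ := by
      rw [hz, eq_bot_iff]
      rintro r ⟨n, hn⟩
      rw [Submodule.mem_colon_singleton, Submodule.mem_bot, Algebra.smul_def, Ideal.Quotient.algebraMap_eq,
        ← map_mul, Ideal.Quotient.eq_zero_iff_mem, hg, Ideal.mem_bot, mul_eq_zero, or_iff_left hc] at hn
      exact (pow_eq_zero_iff'.1 hn).1
    rw [this, Ideal.height_bot] at h1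
    exact zero_ne_one h1
  -- the generator may be taken in `I₀`
  obtain ⟨⟨⟨a, ha⟩, s₀⟩, hs₀⟩ := (IsLocalization.mem_map_algebraMap_iff p.primeCompl R).1
    (show g ∈ I₀.map (algebraMap A R) from hJ ▸ hg ▸ Ideal.mem_span_singleton_self g)
  have hs₀u : IsUnit (algebraMap A R (s₀ : A)) := IsLocalization.map_units R s₀
  have ha0 : algebraMap A R a ≠ 0 := by
    rw [← hs₀]; exact mul_ne_zero hg0 hs₀u.ne_zero
  have hgen : Ideal.span {algebraMap A R a} = Ideal.span {g} := by
    rw [← hs₀]
    exact Ideal.span_singleton_mul_right_unit hs₀u g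
  -- kill finitely many elements
  obtain ⟨T, hT⟩ := IsNoetherian.noetherian I₀
  have hK : (LinearMap.ker (LinearMap.mulRight A a)).FG := IsNoetherian.noetherian _
  obtain ⟨S, hS⟩ := hK
  have h1 : ∀ t ∈ T, ∃ s : A, s ∉ p ∧ s * t ∈ Ideal.span {a} := by
    intro t ht
    have : algebraMap A R t ∈ (Ideal.span {a}).map (algebraMap A R) := by
      rw [Ideal.map_span, Set.image_singleton, hgen, ← hg, hJ]
      exact Ideal.mem_map_of_mem _ (hT ▸ Submodule.subset_span ht)
    obtain ⟨⟨⟨c, hc⟩, s⟩, hs⟩ := (IsLocalization.mem_map_algebraMap_iff p.primeCompl R).1 this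
    rw [← map_mul] at hs
    obtain ⟨u, hu⟩ := (IsLocalization.eq_iff_exists p.primeCompl R).1 hs
    refine ⟨u * s, (u * s).2, ?_⟩
    rw [mul_assoc, mul_comm (s : A), hu]
    exact Ideal.mul_mem_left _ _ hc
  have h2 : ∀ k ∈ S, ∃ s : A, s ∉ p ∧ s * k = 0 := by
    intro k hk
    have hka : k * a = 0 := LinearMap.mem_ker.1 (hS ▸ Submodule.subset_span hk)
    have : algebraMap A R k = 0 := by
      have := congrArg (algebraMap A R) hka
      rw [map_mul, map_zero] at this
      exact (mul_eq_zero.1 this).resolve_right ha0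
    obtain ⟨u, hu⟩ := (IsLocalization.map_eq_zero_iff p.primeCompl R k).1 this
    exact ⟨u, u.2, hu⟩
  choose! s₁ hs₁p hs₁ using h1
  choose! s₂ hs₂p hs₂ using h2
  let s := (∏ t ∈ T, s₁ t) * ∏ k ∈ S, s₂ k
  have hsp : s ∉ p := fun hs => (Ideal.IsPrime.mem_or_mem ‹p.IsPrime› hs).elim
    (fun h' => by obtain ⟨i, hi, hm⟩ := Ideal.IsPrime.prod_mem_iff.1 h'; exact hs₁p i hi hm)
    (fun h' => by obtain ⟨i, hi, hm⟩ := Ideal.IsPrime.prod_mem_iff.1 h'; exact hs₂p i hi hm)
  haveI := hU.isLocalization_basicOpen s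
  have hsu : IsUnit (res (X.basicOpen_le s) s) := RingedSpace.isUnit_res_basicOpen X.toRingedSpace s
  refine ⟨⟨X.basicOpen s, hU.basicOpen s⟩, (notMem_primeAt_iff hU hxU s).1 hsp,
    res (X.basicOpen_le s) a, ?_, ?_⟩
  · rw [mem_nonZeroDivisors_iff_right]
    intro z hz
    obtain ⟨⟨w, u⟩, hw⟩ := IsLocalization.surj (Submonoid.powers s) z
    have h0 : algebraMap A Γ(X, X.basicOpen s) (w * a) = 0 := by
      rw [map_mul, ← hw]
      show z * algebraMap _ _ (u : A) * res (X.basicOpen_le s) a = 0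
      rw [mul_right_comm, hz, zero_mul]
    obtain ⟨⟨_, m, rfl⟩, hm⟩ := (IsLocalization.map_eq_zero_iff (Submonoid.powers s) _ _).1 h0
    have hk : s ^ m * w ∈ Submodule.span A (S : Set A) := by
      rw [hS]; exact LinearMap.mem_ker.2 (by rw [LinearMap.mulRight_apply, mul_assoc]; exact hm)
    have hkill : ∀ k ∈ Submodule.span A (S : Set A), s * k = 0 := by
      intro k hk
      induction hk using Submodule.span_induction with
      | mem k hk =>
        show ((∏ t ∈ T, s₁ t) * ∏ j ∈ S, s₂ j) * k = 0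
        rw [← Finset.prod_erase_mul S s₂ hk, mul_assoc, mul_assoc, hs₂ k hk, mul_zero, mul_zero]
      | zero => rw [mul_zero]
      | add x y _ _ hx hy => rw [mul_add, hx, hy, add_zero]
      | smul c x _ hx => rw [smul_eq_mul, mul_left_comm, hx, mul_zero]
    have h2' : algebraMap A Γ(X, X.basicOpen s) w = 0 :=
      (IsLocalization.map_eq_zero_iff (Submonoid.powers s) _ _).2
        ⟨⟨s ^ (m + 1), m + 1, rfl⟩, by show s ^ (m + 1) * w = 0; rw [pow_succ', mul_assoc, hkill _ hk]⟩
    exact (IsLocalization.map_units _ u).mul_left_eq_zero.1 (hw.trans h2')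
  · rw [← I.map_ideal (U := ⟨X.basicOpen s, hU.basicOpen s⟩) (V := ⟨U, hU⟩) (X.basicOpen_le s)]
    refine le_antisymm (Ideal.map_le_iff_le_comap.2 ?_) ?_
    · show I₀ ≤ _
      rw [← hT, Submodule.span_le]
      intro t ht
      obtain ⟨c, hc⟩ := Ideal.mem_span_singleton'.1 (hs₁ t ht)
      show res (X.basicOpen_le s) t ∈ Ideal.span {res (X.basicOpen_le s) a}
      refine (Ideal.unit_mul_mem_iff_mem _ hsu).1 ?_
      rw [← map_mul]
      have : s * t = ((∏ i ∈ T.erase t, s₁ i) * (∏ k ∈ S, s₂ k) * c) * a := by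
        show (∏ i ∈ T, s₁ i) * (∏ k ∈ S, s₂ k) * t = _
        rw [← Finset.prod_erase_mul T s₁ ht]
        linear_combination (-(∏ i ∈ T.erase t, s₁ i) * ∏ k ∈ S, s₂ k) * hc
      rw [this, map_mul]
      exact Ideal.mul_mem_left _ _ (Ideal.mem_span_singleton_self _)
    · rw [Ideal.span_singleton_le_iff_mem]
      exact Ideal.mem_map_of_mem _ ha

theorem isEffCartierIdeal [IsLocallyNoetherian X] (I : X.IdealSheafData)
    (hufd : ∀ x : X, x ∈ I.support → IsDomain (X.presheaf.stalk x) ∧ UniqueFactorizationMonoid (X.presheaf.stalk x))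
    (h : ∀ z : I.subscheme,
      IsAssociatedPrime (IsLocalRing.maximalIdeal (I.subscheme.presheaf.stalk z)) (I.subscheme.presheaf.stalk z) →
      ringKrullDim (X.presheaf.stalk (I.subschemeι z)) = 1) : BlowUp.IsEffCartierIdeal I := by
  intro x
  by_cases hx : x ∈ I.support
  · obtain ⟨hd, hu⟩ := hufd x hx
    exact exists_nhd I x hd hu fun z _ hz => h z hz
  · obtain ⟨V, hV, hxV, hVc⟩ :=
      Opens.isBasis_iff_nbhd.mp X.isBasis_affineOpens (show x ∈ I.support.compl from hx)
    refine ⟨⟨V, hV⟩, hxV, 1, one_mem _, ?_⟩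
    rw [Ideal.span_singleton_one, Ideal.eq_top_iff_one]
    by_contra h1
    obtain ⟨m, hm, hle⟩ := Ideal.exists_le_maximal (I.ideal ⟨V, hV⟩) ((Ideal.ne_top_iff_one _).2 h1)
    haveI := hm.isPrime
    obtain ⟨y, hy, rfl⟩ := exists_point hV m
    refine hVc hy ((I.mem_support_iff_of_mem (U := ⟨V, hV⟩) hy).2 ?_)
    rw [Scheme.mem_zeroLocus_iff]
    exact fun f hf => fun hmem => (notMem_primeAt_iff hV hy f).2 hmem (hle hf)

end Groth.Agent.SDiv28.Ufd
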