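import Groth.Agent.SDiv28.RelDiv
import Groth.Agent.CAlgMisc2.FlatAdic
import Groth.Agent.EGA43.Cons.FibreCritScheme
import Mathlib

/-!
# Flatness of the ambient scheme along a relative effective Cartier divisor
-/

set_option autoImplicit false
set_option backward.isDefEq.respectTransparency.types false

universe u

open CategoryTheory Limits AlgebraicGeometry TopologicalSpace TensorProduct
open Groth.Agent.ModPairLib (res res_res ideal_restrict exists_local)

namespace Groth.Agent.SDiv28

theorem flat_quot_map {R A B : Type u} [CommRing R] [CommRing A] [CommRing B] [Algebra R A]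
    [Algebra A B] [Algebra R B] [IsScalarTower R A B] [Module.Flat A B] (I : Ideal A)
    [Module.Flat R (A ⧸ I)] : Module.Flat R (B ⧸ I.map (algebraMap A B)) := by
  have : Module.Flat (A ⧸ I) (B ⧸ I.map (algebraMap A B)) :=
    Module.Flat.of_linearEquiv (Algebra.TensorProduct.quotIdealMapEquivQuotTensor B I).toLinearEquiv
  haveI : IsScalarTower R (A ⧸ I) (B ⧸ I.map (algebraMap A B)) := by
    refine IsScalarTower.of_algebraMap_eq fun r => ?_
    show Ideal.Quotient.mk _ (algebraMap R B r) = Ideal.Quotient.mk _ (algebraMap A B (algebraMap R A r))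
    rw [← IsScalarTower.algebraMap_apply]
  exact Module.Flat.trans R (A ⧸ I) _

/-- `A/a` flat over `R`, `a` a nonzerodivisor in a prime `p` with `A_p` Noetherian: `A_p` is flat. -/
theorem flat_localization_of_flat_quot {R A : Type u} [CommRing R] [CommRing A] [Algebra R A]
    (p : Ideal A) [p.IsPrime] (B : Type u) [CommRing B] [Algebra A B] [Algebra R B] [IsScalarTower R A B]
    [IsLocalization.AtPrime B p] [IsNoetherianRing B] {a : A} (hap : a ∈ p) (ha : a ∈ nonZeroDivisors A)
    [Module.Flat R (A ⧸ Ideal.span {a})] : Module.Flat R B := by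
  haveI := IsLocalization.AtPrime.isLocalRing B p
  haveI : Module.Flat A B := IsLocalization.flat B p.primeCompl
  refine CAlgMisc2.flat_of_flat_mod_regular (algebraMap A B a) ?_ B ?_ ?_
  · rw [← IsLocalization.AtPrime.map_eq_maximalIdeal p B]
    exact Ideal.mem_map_of_mem _ hap
  · have h1 : Function.Injective ((LinearMap.lsmul A A a).lTensor B) :=
      Module.Flat.lTensor_preserves_injective_linearMap _ fun x y h =>
        (mul_cancel_left_mem_nonZeroDivisors ha).1 h
    intro x y h
    apply (TensorProduct.rid A B).symm.injective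
    apply h1
    apply (TensorProduct.rid A B).injective
    simpa [Algebra.smul_def] using h
  · rw [Submodule.ideal_span_singleton_smul]
    have := flat_quot_map (R := R) (B := B) (Ideal.span {a})
    rw [Ideal.map_span, Set.image_singleton] at this
    refine @Module.Flat.of_linearEquiv R _ _ _ _ _ _ _ this ?_
    refine (Submodule.quotEquivOfEq _ (Ideal.span {algebraMap A B a} : Submodule B B) ?_).restrictScalars R
    ext z
    simp [Submodule.mem_smul_pointwise_iff_exists, Ideal.mem_span_singleton', mul_comm]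

variable {X S : Scheme.{u}}

/-- A point of an effective Cartier divisor has a chart where the ideal is generated by a nonzerodivisor in
the prime of the point. -/
theorem exists_chart_mem {I : X.IdealSheafData} (hI : BlowUp.IsEffCartierIdeal I) (f : X ⟶ S) {x : X}
    (hx : x ∈ I.support) :
    ∃ (U : S.affineOpens) (V : X.affineOpens) (hxV : x ∈ V.1) (_ : V.1 ≤ f ⁻¹ᵁ U.1) (a : Γ(X, V.1)),
      a ∈ nonZeroDivisors Γ(X, V.1) ∧ I.ideal V = Ideal.span {a} ∧
        a ∈ (V.2.primeIdealOf ⟨x, hxV⟩).asIdeal := by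
  obtain ⟨_, ⟨U, hU, rfl⟩, hxU, -⟩ :=
    S.isBasis_affineOpens.exists_subset_of_mem_open (Set.mem_univ (f x)) isOpen_univ
  obtain ⟨V, hxV, hV, a, ha, haI⟩ := exists_local hI x (f ⁻¹ᵁ U) hxU
  refine ⟨⟨U, hU⟩, V, hxV, hV, a, ha, haI, ?_⟩
  have h0 : x ∈ X.zeroLocus (U := V.1) {a} := by
    have : x ∈ X.zeroLocus (U := V.1) (I.ideal V : Set Γ(X, V.1)) := by
      have h := I.coe_support_inter V
      exact (h.subset ⟨hx, hxV⟩).1
    rw [haI, Scheme.zeroLocus_span] at this
    exact this
  rw [Scheme.zeroLocus_singleton] at h0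
  by_contra hc
  apply h0
  rw [SetLike.mem_coe, Scheme.mem_basicOpen X a x hxV]
  letI := (X.presheaf.germ V.1 x hxV).hom.toAlgebra
  haveI : IsLocalization.AtPrime (X.presheaf.stalk x) (V.2.primeIdealOf ⟨x, hxV⟩).asIdeal :=
    V.2.isLocalization_stalk ⟨x, hxV⟩
  exact IsLocalization.map_units (X.presheaf.stalk x) (⟨a, hc⟩ : (V.2.primeIdealOf ⟨x, hxV⟩).asIdeal.primeCompl)

theorem flat_stalkMap_of_relEffCartier (f : X ⟶ S) {I : X.IdealSheafData}
    (hI : BlowUp.IsEffCartierIdeal I) [Flat (I.subschemeι ≫ f)] {x : X} (hx : x ∈ I.support)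
    [IsNoetherianRing (X.presheaf.stalk x)] : (f.stalkMap x).hom.Flat := by
  obtain ⟨U, V, hxV, e, a, ha, haI, hap⟩ := exists_chart_mem hI f hx
  rw [EGA43.Cons.flat_stalkMap_iff_of_affine f U.2 V.2 e hxV]
  letI := (f.appLE U.1 V.1 e).hom.toAlgebra
  have h := flat_quot_of_flat I f e
  rw [haI] at h
  haveI : Module.Flat Γ(S, U.1) (Γ(X, V.1) ⧸ Ideal.span {a}) := RingHom.flat_algebraMap_iff.1 h
  let p := (V.2.primeIdealOf ⟨x, hxV⟩).asIdeal
  letI := (X.presheaf.germ V.1 x hxV).hom.toAlgebra
  haveI : IsLocalization.AtPrime (X.presheaf.stalk x) p := V.2.isLocalization_stalk ⟨x, hxV⟩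
  let e₁ := IsLocalization.algEquiv p.primeCompl (X.presheaf.stalk x) (Localization.AtPrime p)
  haveI : IsNoetherianRing (Localization.AtPrime p) :=
    isNoetherianRing_of_ringEquiv _ e₁.toRingEquiv
  have h2 := flat_localization_of_flat_quot (R := Γ(S, U.1)) p (Localization.AtPrime p) hap ha
  let e₂ := (IsLocalizedModule.iso p.primeCompl
    (Algebra.linearMap Γ(X, V.1) (Localization.AtPrime p))).restrictScalars Γ(S, U.1)
  exact Module.Flat.of_linearEquiv e₂

end Groth.Agent.SDiv28
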