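import Groth.Agent.SDiv28.FlatAt
import Groth.Agent.EGA43.FlatDescent.Global
import Groth.Agent.EGA43.FlatDescent.SchemeOpen
import Mathlib

/-!
# `A/a` flat, `a` a nonzerodivisor, `A` finitely presented: `A` is flat along `V(a)`
-/

set_option autoImplicit false
set_option backward.isDefEq.respectTransparency.types false

universe u

open CategoryTheory Limits AlgebraicGeometry TopologicalSpace TensorProduct Function

namespace Groth.Agent.SDiv28

open EGA43.FlatDescent

attribute [local instance] bcModule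

theorem flatAt_self_iff {R P A : Type u} [CommRing R] [CommRing P] [Algebra R P] [CommRing A]
    [Algebra R A] (q : Ideal (A ⊗[R] P)) [q.IsPrime] :
    FlatAt R P P A q ↔ Module.Flat A (Localization.AtPrime q) := by
  let S := A ⊗[R] P
  have he : ∀ (s : S) (x : S), (bcModule R P P A).toSMul.smul s x = s * x := fun s x => by
    induction x using TensorProduct.induction_on with
    | zero => exact (@smul_zero S S _ (bcModule R P P A).toDistribMulAction.toDistribSMul.toSMulZeroClass s).trans (mul_zero s).symm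
    | add u v hu hv =>
      exact ((@smul_add S S _ (bcModule R P P A).toDistribMulAction.toDistribSMul s u v).trans
        (congrArg₂ (· + ·) hu hv)).trans (mul_add s u v).symm
    | tmul c m =>
      induction s using TensorProduct.induction_on with
      | zero => exact ((bcModule R P P A).zero_smul _).trans (zero_mul _).symm
      | add u v hu hv =>
        exact ((@add_smul S S _ _ (bcModule R P P A) u v (c ⊗ₜ[R] m)).trans
          (congrArg₂ (· + ·) hu hv)).trans (add_mul u v _).symm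
      | tmul a p =>
        exact (bc_smul_tmul a c p m).trans (Algebra.TensorProduct.tmul_mul_tmul a c p m).symm
  exact @flat_localized_iff A S S S S _ _ _ _ _ _ _ (bcModule R P P A) _ _ _ Semiring.toModule _
    (RingHom.id S) Function.surjective_id (LinearEquiv.refl A S) he q _ ‹q.IsPrime›

section quot

variable {R₀ A₀ D : Type u} [CommRing R₀] [CommRing A₀] [Algebra R₀ A₀] [CommRing D] [Algebra R₀ D]
  (a₀ : A₀)

theorem mulLeft_one_tmul (z : D ⊗[R₀] A₀) :
    (LinearMap.mulLeft R₀ a₀).lTensor D z = ((1 : D) ⊗ₜ[R₀] a₀) * z := by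
  induction z using TensorProduct.induction_on with
  | zero => simp
  | add x y hx hy => simp only [map_add, hx, hy, mul_add]
  | tmul d a => simp

variable (D) in
/-- `D ⊗ A₀/a₀ = (D ⊗ A₀)/(1 ⊗ a₀)`. -/
theorem exists_quot_equiv : Nonempty
    (((D ⊗[R₀] A₀) ⧸ Ideal.span {((1 : D) ⊗ₜ[R₀] a₀)}) ≃ₗ[D] D ⊗[R₀] (A₀ ⧸ Ideal.span {a₀})) := by
  let q : A₀ →ₗ[R₀] A₀ ⧸ Ideal.span {a₀} := (Ideal.Quotient.mkₐ R₀ _).toLinearMap
  let Q := q.baseChange D
  have hq : Surjective q := Ideal.Quotient.mkₐ_surjective R₀ _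
  have hex : Exact (LinearMap.mulLeft R₀ a₀) q := by
    intro x
    show Ideal.Quotient.mk _ x = 0 ↔ _
    rw [Ideal.Quotient.eq_zero_iff_mem, Ideal.mem_span_singleton']
    exact ⟨fun ⟨c, hc⟩ => ⟨c, by simp [← hc, mul_comm]⟩, fun ⟨c, hc⟩ => ⟨c, by simp [← hc, mul_comm]⟩⟩
  have hQ : Surjective Q := fun y => LinearMap.lTensor_surjective D hq y
  have hker : (Ideal.span {((1 : D) ⊗ₜ[R₀] a₀)}).restrictScalars D = LinearMap.ker Q := by
    ext z
    rw [Submodule.restrictScalars_mem, Ideal.mem_span_singleton', LinearMap.mem_ker]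
    refine Iff.trans ?_ ((lTensor_exact D hex hq) z).symm
    exact ⟨fun ⟨c, hc⟩ => ⟨c, by rw [mulLeft_one_tmul, mul_comm, hc]⟩,
      fun ⟨c, hc⟩ => ⟨c, by rw [← hc, mulLeft_one_tmul, mul_comm]⟩⟩
  exact ⟨(Submodule.Quotient.restrictScalarsEquiv D _).symm ≪≫ₗ (Submodule.quotEquivOfEq _ _ hker) ≪≫ₗ
    LinearMap.quotKerEquivOfSurjective Q hQ⟩

/-- If the annihilator of `a₀` dies in `D ⊗ A₀` and `A₀/a₀` is flat, then `1 ⊗ a₀` is a nonzerodivisor. -/
theorem one_tmul_mem_nonZeroDivisors [Module.Flat R₀ (A₀ ⧸ Ideal.span {a₀})]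
    (H : ∀ k : A₀, a₀ * k = 0 → (1 : D) ⊗ₜ[R₀] k = 0) :
    (1 : D) ⊗ₜ[R₀] a₀ ∈ nonZeroDivisors (D ⊗[R₀] A₀) := by
  let q : A₀ →ₗ[R₀] A₀ ⧸ Ideal.span {a₀} := (Ideal.Quotient.mkₐ R₀ _).toLinearMap
  let g : A₀ →ₗ[R₀] LinearMap.range (LinearMap.mulLeft R₀ a₀) := (LinearMap.mulLeft R₀ a₀).rangeRestrict
  let j := (LinearMap.range (LinearMap.mulLeft R₀ a₀)).subtype
  have hg : Surjective g := LinearMap.surjective_rangeRestrict _
  have hjq : Exact j q := by
    intro x
    show Ideal.Quotient.mk _ x = 0 ↔ x ∈ Set.range j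
    rw [Ideal.Quotient.eq_zero_iff_mem, Ideal.mem_span_singleton']
    exact ⟨fun ⟨c, hc⟩ => ⟨⟨x, c, by simp [← hc, mul_comm]⟩, rfl⟩,
      fun ⟨⟨y, c, hc⟩, hy⟩ => ⟨c, by rw [← hy, show j ⟨y, c, hc⟩ = y from rfl, ← hc]; simp [mul_comm]⟩⟩
  have hj : Injective (j.lTensor D) :=
    LinearMap.lTensor_injective_of_exact_of_flat q (Ideal.Quotient.mkₐ_surjective R₀ _) j
      Subtype.val_injective hjq D
  refine mem_nonZeroDivisors_iff_right.2 fun z hz => ?_
  rw [mul_comm, ← mulLeft_one_tmul, show LinearMap.mulLeft R₀ a₀ = j ∘ₗ g from rfl,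
    LinearMap.lTensor_comp, LinearMap.comp_apply] at hz
  obtain ⟨w, rfl⟩ := (lTensor_exact D (LinearMap.exact_subtype_ker_map g) hg z).1
    (hj (hz.trans (map_zero _).symm))
  clear hz
  induction w using TensorProduct.induction_on with
  | zero => simp
  | add x y hx hy => rw [map_add, hx, hy, add_zero]
  | tmul d k =>
    have hk : a₀ * (k : A₀) = 0 := congrArg Subtype.val (LinearMap.mem_ker.1 k.2)
    rw [LinearMap.lTensor_tmul, Submodule.subtype_apply, ← mul_one d, ← smul_eq_mul,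
      ← TensorProduct.smul_tmul', H _ hk, smul_zero]

end quot

/-- Flatness at a Noetherian stage gives flatness after base change. -/
theorem flat_localization_at_stage {R₀ A₀ D R : Type u} [CommRing R₀] [CommRing A₀] [Algebra R₀ A₀]
    [Algebra.FiniteType R₀ A₀] [CommRing D] [Algebra R₀ D] [IsNoetherianRing D] [CommRing R]
    [Algebra R₀ R] (φ : D →ₐ[R₀] R) (a₀ : A₀) [Module.Flat R₀ (A₀ ⧸ Ideal.span {a₀})]
    (haD : (1 : D) ⊗ₜ[R₀] a₀ ∈ nonZeroDivisors (D ⊗[R₀] A₀)) (p : Ideal (R ⊗[R₀] A₀)) [p.IsPrime]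
    (hp : (1 : R) ⊗ₜ[R₀] a₀ ∈ p) : Module.Flat R (Localization.AtPrime p) := by
  haveI : Algebra.FiniteType D (D ⊗[R₀] A₀) := Algebra.FiniteType.baseChange (A := A₀) D
  haveI : IsNoetherianRing (D ⊗[R₀] A₀) := Algebra.FiniteType.isNoetherianRing D _
  let σ := Algebra.TensorProduct.map φ (AlgHom.id R₀ A₀)
  let q : Ideal (D ⊗[R₀] A₀) := p.comap σ
  haveI : q.IsPrime := Ideal.comap_isPrime σ p
  haveI : IsNoetherianRing (Localization.AtPrime q) :=
    IsLocalization.isNoetherianRing q.primeCompl _ inferInstance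
  obtain ⟨e⟩ := exists_quot_equiv (R₀ := R₀) D a₀
  haveI := Module.Flat.of_linearEquiv e
  have hq : (1 : D) ⊗ₜ[R₀] a₀ ∈ q := by
    show σ ((1 : D) ⊗ₜ[R₀] a₀) ∈ p
    simpa [σ] using hp
  have h := flat_localization_of_flat_quot (R := D) q (Localization.AtPrime q) hq haD
  rw [← flatAt_self_iff] at h ⊢
  exact FlatAt.of_hom φ h

/-- The Noetherian step. -/
theorem flat_localization_step {R₀ A₀ R : Type u} [CommRing R₀] [IsNoetherianRing R₀] [CommRing A₀]
    [Algebra R₀ A₀] [Algebra.FiniteType R₀ A₀] [CommRing R] [Algebra R₀ R] (a₀ : A₀)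
    [Module.Flat R₀ (A₀ ⧸ Ideal.span {a₀})]
    (ha : (1 : R) ⊗ₜ[R₀] a₀ ∈ nonZeroDivisors (R ⊗[R₀] A₀)) (p : Ideal (R ⊗[R₀] A₀)) [p.IsPrime]
    (hp : (1 : R) ⊗ₜ[R₀] a₀ ∈ p) : Module.Flat R (Localization.AtPrime p) := by
  classical
  haveI : IsNoetherianRing A₀ := Algebra.FiniteType.isNoetherianRing R₀ A₀
  let K : Ideal A₀ := LinearMap.ker (LinearMap.mulLeft A₀ a₀)
  obtain ⟨s, hs⟩ : K.FG := IsNoetherian.noetherian K
  have hkR : ∀ k ∈ s, (1 : R) ⊗ₜ[R₀] k = 0 := fun k hk => by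
    have : a₀ * k = 0 := (hs.le (Ideal.subset_span hk) : k ∈ K)
    refine mem_nonZeroDivisors_iff_right.1 ha _ ?_
    rw [Algebra.TensorProduct.tmul_mul_tmul, one_mul, mul_comm k, this, tmul_zero]
  have hB : ∀ k : s, ∃ B : Subalgebra R₀ R, B.FG ∧ (1 : B) ⊗ₜ[R₀] (k : A₀) = 0 := fun k => by
    obtain ⟨B, hle, hB, h⟩ := TensorProduct.Algebra.eq_of_fg_of_subtype_eq
      (Subalgebra.fg_bot (R := R₀) (A := R)) (t := (1 : (⊥ : Subalgebra R₀ R)) ⊗ₜ[R₀] (k : A₀))
      (t' := 0) (by simpa using hkR k k.2)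
    refine ⟨B, hB, ?_⟩
    simpa using h
  choose B hBfg hB0 using hB
  let D : Subalgebra R₀ R := Finset.univ.sup B
  have hD : D.FG := Finset.sup_induction Subalgebra.fg_bot (fun a ha b hb => Subalgebra.FG.sup ha hb)
    fun q _ => hBfg q
  have hD0 : ∀ k : s, (1 : D) ⊗ₜ[R₀] (k : A₀) = 0 := fun k => by
    have := congrArg ((Subalgebra.inclusion (Finset.le_sup (f := B) (Finset.mem_univ k))).toLinearMap.rTensor A₀)
      (hB0 k)
    rw [map_zero, LinearMap.rTensor_tmul] at this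
    exact this
  have haD : (1 : D) ⊗ₜ[R₀] a₀ ∈ nonZeroDivisors (D ⊗[R₀] A₀) := by
    refine one_tmul_mem_nonZeroDivisors a₀ fun k hk => ?_
    have hk' : k ∈ Ideal.span (s : Set A₀) := hs.ge (show k ∈ K from hk)
    induction hk' using Submodule.span_induction with
    | mem x hx => exact hD0 ⟨x, hx⟩
    | zero => exact tmul_zero _ _
    | add x y _ _ hx hy => rw [tmul_add, hx (by
          have : x ∈ K := hs.le ‹_›
          exact this), hy (by
          have : y ∈ K := hs.le ‹_›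
          exact this), add_zero]
    | smul c x hx' hx =>
      rw [smul_eq_mul, show (1 : D) ⊗ₜ[R₀] (c * x) = ((1 : D) ⊗ₜ[R₀] c) * ((1 : D) ⊗ₜ[R₀] x) by simp,
        hx (by have : x ∈ K := hs.le hx'
               exact this), mul_zero]
  haveI : IsNoetherianRing D := EGA43.FlatDescent.isNoetherianRing_of_fg hD
  exact flat_localization_at_stage D.val a₀ haD p hp

theorem flat_localization_congr {R A A' : Type u} [CommRing R] [CommRing A] [Algebra R A] [CommRing A']
    [Algebra R A'] (c : A ≃ₐ[R] A') (p : Ideal A') [p.IsPrime] (q : Ideal A) [q.IsPrime]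
    (hq : ∀ x, x ∈ q ↔ c x ∈ p) [Module.Flat R (Localization.AtPrime q)] :
    Module.Flat R (Localization.AtPrime p) := by
  have H : q.primeCompl.map c.toRingEquiv.toMonoidHom = p.primeCompl := by
    ext x
    constructor
    · rintro ⟨y, hy, rfl⟩; exact fun h => hy ((hq y).2 h)
    · intro hx
      exact ⟨c.symm x, fun h => hx (by simpa using (hq _).1 h), c.apply_symm_apply x⟩
  let φ : Localization.AtPrime q ≃+* Localization.AtPrime p :=
    IsLocalization.ringEquivOfRingEquiv _ _ c.toRingEquiv H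
  let φₗ : Localization.AtPrime q ≃ₐ[R] Localization.AtPrime p :=
    AlgEquiv.ofRingEquiv (f := φ) fun r => by
      rw [IsScalarTower.algebraMap_apply R A (Localization.AtPrime q),
        IsScalarTower.algebraMap_apply R A' (Localization.AtPrime p)]
      exact (IsLocalization.ringEquivOfRingEquiv_eq H _).trans (congrArg _ (c.commutes r))
  exact Module.Flat.of_linearEquiv φₗ.symm.toLinearEquiv

theorem flat_quot_congr {R A A' : Type u} [CommRing R] [CommRing A] [Algebra R A] [CommRing A']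
    [Algebra R A'] (c : A ≃ₐ[R] A') (a : A) (b : A') (hab : c a = b)
    [Module.Flat R (A' ⧸ Ideal.span {b})] : Module.Flat R (A ⧸ Ideal.span {a}) :=
  Module.Flat.of_linearEquiv (Ideal.quotientEquivAlg (Ideal.span {a}) (Ideal.span {b}) c (by
    rw [Ideal.map_span, Set.image_singleton, ← hab]; rfl)).toLinearEquiv

theorem nzd_congr {R A A' : Type u} [CommRing R] [CommRing A] [Algebra R A] [CommRing A']
    [Algebra R A'] (c : A ≃ₐ[R] A') (a : A) (b : A') (hab : c a = b) (hb : b ∈ nonZeroDivisors A') :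
    a ∈ nonZeroDivisors A :=
  mem_nonZeroDivisors_iff_right.2 fun x hx => c.injective (by
    rw [map_zero]
    exact mem_nonZeroDivisors_iff_right.1 hb _ (by rw [← hab, ← map_mul, hx, map_zero]))

/-- The step, transported along `R ⊗[B] (B ⊗ A₀) ≅ R ⊗ A₀ ≅ A`. -/
theorem flat_localization_of_stage {R₀ A₀ B R A : Type u} [CommRing R₀]
    [CommRing A₀] [Algebra R₀ A₀] [Algebra.FiniteType R₀ A₀] [CommRing B] [Algebra R₀ B] [IsNoetherianRing B]
    [CommRing R] [Algebra R₀ R] [Algebra B R] [IsScalarTower R₀ B R] [CommRing A] [Algebra R A]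
    (e : R ⊗[R₀] A₀ ≃ₐ[R] A) (a₀ : A₀) {a : A} (he : e ((1 : R) ⊗ₜ[R₀] a₀) = a)
    (p : Ideal A) [p.IsPrime] (hap : a ∈ p) (ha : a ∈ nonZeroDivisors A)
    [Module.Flat B (B ⊗[R₀] (A₀ ⧸ Ideal.span {a₀}))] : Module.Flat R (Localization.AtPrime p) := by
  haveI : Algebra.FiniteType B (B ⊗[R₀] A₀) := Algebra.FiniteType.baseChange (A := A₀) B
  obtain ⟨eq₁⟩ := exists_quot_equiv (R₀ := R₀) B a₀
  haveI : Module.Flat B ((B ⊗[R₀] A₀) ⧸ Ideal.span {((1 : B) ⊗ₜ[R₀] a₀)}) :=
    Module.Flat.of_linearEquiv eq₁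
  let c : R ⊗[B] (B ⊗[R₀] A₀) ≃ₐ[R] A :=
    (Algebra.TensorProduct.cancelBaseChange R₀ B R R A₀).trans e
  have hc : c ((1 : R) ⊗ₜ[B] ((1 : B) ⊗ₜ[R₀] a₀)) = a := by
    show e (Algebra.TensorProduct.cancelBaseChange R₀ B R R A₀ _) = a
    rw [Algebra.TensorProduct.cancelBaseChange_tmul, one_smul, he]
  let p' : Ideal (R ⊗[B] (B ⊗[R₀] A₀)) := p.comap c
  haveI : p'.IsPrime := Ideal.comap_isPrime c p
  haveI := flat_localization_step (R₀ := B) (R := R) ((1 : B) ⊗ₜ[R₀] a₀)
    (nzd_congr c _ a hc ha) p' (by show c _ ∈ p; rw [hc]; exact hap)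
  exact flat_localization_congr c p p' fun x => Iff.rfl

/-- Combine: descend the flatness of the quotient, then apply the Noetherian step. -/
theorem flat_localization_of_model {R₀ A₀ R A : Type u} [CommRing R₀] [IsNoetherianRing R₀]
    [CommRing A₀] [Algebra R₀ A₀] [Algebra.FiniteType R₀ A₀] [CommRing R] [Algebra R₀ R] [CommRing A]
    [Algebra R A] (e : R ⊗[R₀] A₀ ≃ₐ[R] A) (a₀ : A₀) {a : A} (he : e ((1 : R) ⊗ₜ[R₀] a₀) = a)
    (p : Ideal A) [p.IsPrime] (hap : a ∈ p) (ha : a ∈ nonZeroDivisors A)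
    [Module.Flat R (A ⧸ Ideal.span {a})] : Module.Flat R (Localization.AtPrime p) := by
  obtain ⟨eq₀⟩ := exists_quot_equiv (R₀ := R₀) R a₀
  haveI := flat_quot_congr e _ a he
  haveI : Module.Flat R (R ⊗[R₀] (A₀ ⧸ Ideal.span {a₀})) := Module.Flat.of_linearEquiv eq₀.symm
  obtain ⟨B, hB, hflat⟩ := exists_stage_flat (R := R₀) (P := A₀) (M := A₀ ⧸ Ideal.span {a₀}) (A := R)
  haveI := hflat
  haveI : IsNoetherianRing B := EGA43.FlatDescent.isNoetherianRing_of_fg hB
  exact flat_localization_of_stage (B := B) e a₀ he p hap ha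

/-- A Noetherian model over a ring containing the coefficients. -/
theorem flat_localization_of_coeffs {R₀ R A : Type u} [CommRing R₀] [IsNoetherianRing R₀] [CommRing R]
    [CommRing A] [Algebra R A] [Algebra R₀ R] [Algebra R₀ A] [IsScalarTower R₀ R A] {ι σ : Type}
    [Finite ι] [Finite σ] (P : Algebra.Presentation R A ι σ) [P.HasCoeffs R₀] (p : Ideal A) [p.IsPrime]
    {a : A} (hap : a ∈ p) (ha : a ∈ nonZeroDivisors A) [Module.Flat R (A ⧸ Ideal.span {a})]
    (a' : MvPolynomial ι R₀) (ha' : MvPolynomial.map (algebraMap R₀ R) a' = P.σ a) :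
    Module.Flat R (Localization.AtPrime p) := by
  haveI : Algebra.FiniteType R₀ (P.ModelOfHasCoeffs R₀) := inferInstance
  have he : P.tensorModelOfHasCoeffsEquiv R₀ ((1 : R) ⊗ₜ[R₀] Ideal.Quotient.mk _ a') = a := by
    rw [Algebra.Presentation.tensorModelOfHasCoeffsEquiv_tmul, map_one, one_mul,
      ← MvPolynomial.aeval_map_algebraMap R, ha', P.aeval_val_σ]
  exact flat_localization_of_model (P.tensorModelOfHasCoeffsEquiv R₀) _ he p hap ha

theorem flat_localization_of_presentation {R A : Type u} [CommRing R] [CommRing A] [Algebra R A]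
    {ι σ : Type} [Finite ι] [Finite σ] (P : Algebra.Presentation R A ι σ) (p : Ideal A) [p.IsPrime]
    {a : A} (hap : a ∈ p) (ha : a ∈ nonZeroDivisors A) [Module.Flat R (A ⧸ Ideal.span {a})]
    (R₀ : Subalgebra ℤ R) [IsNoetherianRing R₀] (hP : P.coeffs ⊆ (R₀ : Set R))
    (ha' : ((P.σ a).coeffs : Set R) ⊆ (R₀ : Set R)) :
    Module.Flat R (Localization.AtPrime p) := by
  haveI : P.HasCoeffs R₀ := ⟨fun c hc => ⟨⟨c, hP hc⟩, rfl⟩⟩
  have h : P.σ a ∈ Set.range (MvPolynomial.map (algebraMap R₀ R)) :=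
    MvPolynomial.mem_range_map_iff_coeffs_subset.2 fun c hc => ⟨⟨c, ha' hc⟩, rfl⟩
  obtain ⟨a₀', ha₀'⟩ := h
  exact flat_localization_of_coeffs (R₀ := R₀) P p hap ha a₀' ha₀'

theorem isNoetherianRing_adjoin_int {R : Type u} [CommRing R] (S : Set R) (hS : S.Finite) :
    IsNoetherianRing (Algebra.adjoin ℤ S) := by
  have : Algebra.FiniteType ℤ (Algebra.adjoin ℤ S) :=
    (Algebra.adjoin ℤ S).fg_iff_finiteType.1 (Subalgebra.fg_def.2 ⟨S, hS, rfl⟩)
  exact Algebra.FiniteType.isNoetherianRing ℤ _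

/-- **`A/a` flat with `a` a nonzerodivisor and `A` finitely presented implies flatness along `V(a)`.** -/
theorem flat_localization_of_flat_quot_fp {R A : Type u} [CommRing R] [CommRing A] [Algebra R A]
    [Algebra.FinitePresentation R A] (p : Ideal A) [p.IsPrime] {a : A} (hap : a ∈ p)
    (ha : a ∈ nonZeroDivisors A) [Module.Flat R (A ⧸ Ideal.span {a})] :
    Module.Flat R (Localization.AtPrime p) := by
  obtain ⟨n, m, ⟨P⟩⟩ : ∃ n m, Nonempty (Algebra.Presentation R A (Fin n) (Fin m)) :=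
    ⟨_, _, ⟨Algebra.Presentation.ofFinitePresentation R A⟩⟩
  have hS : (P.coeffs ∪ ((P.σ a).coeffs : Set R)).Finite := P.finite_coeffs.union (Finset.finite_toSet _)
  haveI : IsNoetherianRing (Algebra.adjoin ℤ (P.coeffs ∪ ((P.σ a).coeffs : Set R))) :=
    isNoetherianRing_adjoin_int _ hS
  exact flat_localization_of_presentation P p hap ha _
    (Set.subset_union_left.trans Algebra.subset_adjoin) (Set.subset_union_right.trans Algebra.subset_adjoin)

variable {X S : Scheme.{u}}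

theorem flat_stalkMap_of_relEffCartier_lfp (f : X ⟶ S) [LocallyOfFinitePresentation f]
    {I : X.IdealSheafData} (hI : BlowUp.IsEffCartierIdeal I) [Flat (I.subschemeι ≫ f)] {x : X}
    (hx : x ∈ I.support) : (f.stalkMap x).hom.Flat := by
  obtain ⟨U, V, hxV, e, a, ha, haI, hap⟩ := exists_chart_mem hI f hx
  rw [EGA43.Cons.flat_stalkMap_iff_of_affine f U.2 V.2 e hxV]
  letI := (f.appLE U.1 V.1 e).hom.toAlgebra
  have h := flat_quot_of_flat I f e
  rw [haI] at h
  haveI : Module.Flat Γ(S, U.1) (Γ(X, V.1) ⧸ Ideal.span {a}) := RingHom.flat_algebraMap_iff.1 h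
  haveI : Algebra.FinitePresentation Γ(S, U.1) Γ(X, V.1) :=
    LocallyOfFinitePresentation.finitePresentation_appLE f U.2 V.2 e
  let p := (V.2.primeIdealOf ⟨x, hxV⟩).asIdeal
  have h2 := flat_localization_of_flat_quot_fp (R := Γ(S, U.1)) p hap ha
  exact Module.Flat.of_linearEquiv ((IsLocalizedModule.iso p.primeCompl
    (Algebra.linearMap Γ(X, V.1) (Localization.AtPrime p))).restrictScalars Γ(S, U.1))

theorem exists_flat_open (f : X ⟶ S) [LocallyOfFinitePresentation f]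
    {I : X.IdealSheafData} (hI : BlowUp.IsEffCartierIdeal I) [Flat (I.subschemeι ≫ f)] :
    ∃ U : X.Opens, (I.support : Set X) ⊆ U ∧ Flat (U.ι ≫ f) := by
  refine ⟨⟨{x | (f.stalkMap x).hom.Flat}, EGA43.FlatDescent.isOpen_flat_stalkMap f⟩,
    fun x hx => flat_stalkMap_of_relEffCartier_lfp f hI hx, ?_⟩
  rw [Flat.iff_flat_stalkMap]
  rintro ⟨x, hx⟩
  rw [Scheme.Hom.stalkMap_comp, ← Scheme.Opens.stalkIso_inv]
  exact (RingHom.Flat.respectsIso.cancel_right_isIso _ _).2 hx

end Groth.Agent.SDiv28
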