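import Groth.Agent.SDiv28.CartierPart
import Groth.Agent.Misc15.StalkLoc
import Groth.Agent.CAlgMisc2.Normal
import Groth.Agent.ModelLib7.IsoOfGeneric
import Groth.Prelude.Def_CInt
import Groth.Prelude.Def_BlowUp2
import Mathlib

/-!
# Effective Cartier divisors of a normal scheme are detected after a surjective pull back
-/

set_option autoImplicit false
set_option backward.isDefEq.respectTransparency.types false
universe u

open CategoryTheory AlgebraicGeometry IsLocalRing
open Groth.Agent.Misc15.DivDescent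
open Groth.Agent.SDiv28.CartierPart (mem_support_iff_stk stk_eq_top isOpen_stk_le)

namespace Groth.Agent.SDiv28.NormalEq

variable {S S' : Scheme.{u}} [IsLocallyNoetherian S] [IsLocallyNoetherian S'] (f : S' ⟶ S)

theorem stk_bot (x : S) : stk (⊥ : S.IdealSheafData) x = ⊥ := by
  obtain ⟨_, ⟨U, hU, rfl⟩, hxU, -⟩ :=
    S.isBasis_affineOpens.exists_subset_of_mem_open (Set.mem_univ x) isOpen_univ
  rw [stk_eq _ ⟨U, hU⟩ hxU, Scheme.IdealSheafData.ideal_bot, Pi.bot_apply, Ideal.map_bot]

theorem dim_stalk_le_one {z x : S} (h : z ⤳ x) (hp : (primeOf h).height = 1) :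
    ringKrullDim (S.presheaf.stalk z) = 1 := by
  letI := (S.presheaf.stalkSpecializes h).hom.toAlgebra
  haveI := Misc15.isLocalization_stalkSpecializes h
  haveI := isPrime_primeOf h
  have e : (IsUnit.submonoid (S.presheaf.stalk z)).comap (S.presheaf.stalkSpecializes h).hom =
      (primeOf h).primeCompl := Submonoid.ext fun t => (notMem_primeOf h t).symm
  haveI : IsLocalization.AtPrime (S.presheaf.stalk z) (primeOf h) := by
    show IsLocalization (primeOf h).primeCompl _
    rw [← e]; exact Misc15.isLocalization_stalkSpecializes h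
  rw [IsLocalization.AtPrime.ringKrullDim_eq_height (primeOf h), hp]
  rfl

theorem dvd_of_comap_eq [QuasiCompact f] (hsurj : Function.Surjective f) (U : S.Opens)
    (hU' : CInt.IsSchematicallyDense (f ⁻¹ᵁ U)) (D E : S.IdealSheafData)
    (hDU : (D.support : Set S) ⊆ (U : Set S)ᶜ) (h : D.comap f = E.comap f) (z : S)
    {d e : S.presheaf.stalk z} (hd : stk D z = Ideal.span {d}) (he : stk E z = Ideal.span {e})
    (hde : d ∣ e) : e ∣ d := by
  obtain ⟨r, rfl⟩ := hde
  by_cases hr : IsUnit r
  · exact hr.mul_right_dvd.2 dvd_rfl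
  exfalso
  obtain ⟨z', rfl⟩ := hsurj z
  have h1 : stk (D.comap f) z' = stk (E.comap f) z' := by rw [h]
  rw [stk_comap, stk_comap, hd, he, Ideal.map_span, Ideal.map_span, Set.image_singleton,
    Set.image_singleton, map_mul] at h1
  obtain ⟨c, hc⟩ := Ideal.mem_span_singleton'.1 (h1.le (Ideal.mem_span_singleton_self _))
  set a := (f.stalkMap z').hom d
  have hu : IsUnit (1 - c * (f.stalkMap z').hom r) :=
    IsLocalRing.isUnit_one_sub_self_of_mem_nonunits _ fun hu =>
      hr (isUnit_of_map_unit (f.stalkMap z').hom r (isUnit_of_mul_isUnit_right hu))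
  have ha : a = 0 := hu.mul_left_eq_zero.1 (by linear_combination -hc)
  have hbot : stk (D.comap f) z' = ⊥ := by
    rw [stk_comap, hd, Ideal.map_span, Set.image_singleton]
    exact Ideal.span_singleton_eq_bot.2 ha
  obtain ⟨V, hV, hVopen, hzV⟩ : ∃ V : Set S', V ⊆ {y | stk (D.comap f) y ≤ stk ⊥ y} ∧ IsOpen V ∧ z' ∈ V :=
    ⟨_, subset_rfl, isOpen_stk_le _ _, by rw [Set.mem_setOf_eq, hbot]; exact bot_le⟩
  let W : S'.Opens := ⟨V, hVopen⟩
  have hemp : W ⊓ f ⁻¹ᵁ U = ⊥ := by
    refine eq_bot_iff.2 fun y hy => ?_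
    have h2 : y ∈ (D.comap f).support :=
      (mem_support_iff_stk _ y).2 ((hV hy.1).trans (by rw [stk_bot]; exact bot_le))
    rw [Scheme.IdealSheafData.support_comap] at h2
    exact absurd hy.2 (hDU h2)
  have h3 : (1 : Γ(S', W)) = 0 := by
    refine hU' W ?_
    haveI : Subsingleton Γ(S', W ⊓ f ⁻¹ᵁ U) := by rw [hemp]; infer_instance
    exact Subsingleton.elim _ _
  have h4 := congrArg (S'.presheaf.germ W z' hzV) h3
  rw [map_one, map_zero] at h4
  exact one_ne_zero h4

theorem le_of_comap_eq [QuasiCompact f] (hsurj : Function.Surjective f)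
    (hnorm : ∀ x : S, IsDomain (S.presheaf.stalk x) ∧ IsIntegrallyClosed (S.presheaf.stalk x)) (U : S.Opens)
    (hU' : CInt.IsSchematicallyDense (f ⁻¹ᵁ U)) (D E : S.IdealSheafData)
    (hD : BlowUp.IsEffCartierIdeal D) (hE : BlowUp.IsEffCartierIdeal E)
    (hDU : (D.support : Set S) ⊆ (U : Set S)ᶜ) (h : D.comap f = E.comap f) (x : S) :
    stk D x ≤ stk E x := by
  obtain ⟨d, -, hd⟩ := exists_gen hD x
  obtain ⟨e, he0, he⟩ := exists_gen hE x
  obtain ⟨_, _⟩ := hnorm x
  rw [hd, he, Ideal.span_singleton_le_span_singleton]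
  have hne : algebraMap (S.presheaf.stalk x) (FractionRing (S.presheaf.stalk x)) e ≠ 0 :=
    IsFractionRing.to_map_ne_zero_of_mem_nonZeroDivisors he0
  obtain ⟨q, hq⟩ := CAlgMisc2.mem_range_of_forall_height_one
    (algebraMap _ (FractionRing (S.presheaf.stalk x)) d / algebraMap _ _ e) fun P hP hP1 => by
      obtain ⟨z, hzx, rfl⟩ := exists_point P hP
      obtain ⟨_, _⟩ := hnorm z
      haveI := ModelLib7.isDVR_of_dim_one _ (dim_stalk_le_one hzx hP1)
      have hdz : stk D z = Ideal.span {(S.presheaf.stalkSpecializes hzx).hom d} := by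
        rw [stk_specializes D hzx, hd, Ideal.map_span, Set.image_singleton]
      have hez : stk E z = Ideal.span {(S.presheaf.stalkSpecializes hzx).hom e} := by
        rw [stk_specializes E hzx, he, Ideal.map_span, Set.image_singleton]
      have hdvd : (S.presheaf.stalkSpecializes hzx).hom e ∣ (S.presheaf.stalkSpecializes hzx).hom d :=
        (ValuationRing.dvd_total _ _).elim id fun h' =>
          dvd_of_comap_eq f hsurj U hU' D E hDU h z hdz hez h'
      obtain ⟨t, ht, c, hc⟩ := (specializes_dvd hzx).1 hdvd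
      refine ⟨c, t, ht, ?_⟩
      rw [div_mul_eq_mul_div, div_eq_iff hne, ← map_mul, ← map_mul, mul_comm d t, hc, mul_comm c e]
  refine ⟨q, IsFractionRing.injective _ (FractionRing (S.presheaf.stalk x)) ?_⟩
  rw [eq_div_iff hne] at hq
  rw [← hq, ← map_mul, mul_comm]

end Groth.Agent.SDiv28.NormalEq
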