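import Groth.Agent.SDiv28.CartierPart
import Groth.Agent.Misc15.StalkLoc
import Groth.Agent.Props12.Stalks
import Groth.Prelude.Def_BlowUp2
import Mathlib

/-!
# Fibrewise containment in a flat closed subscheme over a reduced base
-/

set_option autoImplicit false
set_option backward.isDefEq.respectTransparency.types false
universe u

open CategoryTheory CategoryTheory.Limits AlgebraicGeometry IsLocalRing
open Groth.Agent.Misc15.DivDescent
open Groth.Agent.SDiv28.CartierPart (mem_support_iff_stk stk_eq_top)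

namespace Groth.Agent.SDiv28.FibrewiseLe

variable {C T : Scheme.{u}} [IsLocallyNoetherian T] [AlgebraicGeometry.IsReduced T]

theorem le_of_fibre_le (π : C ⟶ T) (D D' : C.IdealSheafData) [Flat (D'.subschemeι ≫ π)]
    (hfib : ∀ t : ↥T, D.comap (π.fiberι t) ≤ D'.comap (π.fiberι t)) : D ≤ D' := by
  have hker : ∀ z : D'.subscheme,
      RingHom.ker (D'.subschemeι.stalkMap z).hom = stk D' (D'.subschemeι z) := fun z => by
    obtain ⟨_, ⟨V, hV, rfl⟩, hzV, -⟩ :=
      C.isBasis_affineOpens.exists_subset_of_mem_open (Set.mem_univ (D'.subschemeι z)) isOpen_univ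
    haveI : IsClosedImmersion (D'.subschemeι ∣_ V) := inferInstance
    rw [CAlgH.RegImmStalk.ker_stalkMap_eq D'.subschemeι z hV hzV, D'.ker_subschemeι_app ⟨V, hV⟩,
      ← stk_eq D' ⟨V, hV⟩ hzV]
  have hstk : ∀ y : C, stk D y ≤ stk D' y ⊔
      (maximalIdeal (T.presheaf.stalk (π y))).map (π.stalkMap y).hom := fun y => by
    suffices key : ∀ (s : T) (w : ↥(π.fiber s)) (y₀ : C), π.fiberι s w = y₀ →
        stk D y₀ ≤ stk D' y₀ ⊔ (maximalIdeal (T.presheaf.stalk (π y₀))).map (π.stalkMap y₀).hom from
      key (π y) (π.asFiber y) y (π.fiberι_asFiber y)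
    rintro s w _ rfl
    obtain ⟨hsurj, hk⟩ := Props12.stalkMap_fiberι π s w
    have h1 : stk (D.comap (π.fiberι s)) w ≤ stk (D'.comap (π.fiberι s)) w := by
      obtain ⟨_, ⟨U, hU, rfl⟩, hwU, -⟩ :=
        (π.fiber s).isBasis_affineOpens.exists_subset_of_mem_open (Set.mem_univ w) isOpen_univ
      rw [stk_eq _ ⟨U, hU⟩ hwU, stk_eq _ ⟨U, hU⟩ hwU]
      exact Ideal.map_mono (Scheme.IdealSheafData.le_def.1 (hfib s) ⟨U, hU⟩)
    rw [stk_comap, stk_comap, Ideal.map_le_iff_le_comap, Ideal.comap_map_of_surjective _ hsurj] at h1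
    refine h1.trans (sup_le_sup_left ?_ _)
    rw [← hk]; rfl
  refine Scheme.IdealSheafData.le_def.2 fun U c hc => (mem_ideal_iff _ U).2 fun x hx => ?_
  by_cases hxD : x ∈ D'.support
  swap
  · rw [stk_eq_top hxD]; trivial
  obtain ⟨z, rfl⟩ := D'.range_subschemeι.ge hxD
  have hf : C.presheaf.germ U.1 _ hx c ∈ stk D (D'.subschemeι z) := (mem_ideal_iff _ U).1 hc _ hx
  rw [← hker z, RingHom.mem_ker]
  let p := D'.subschemeι ≫ π
  set m := (D'.subschemeι.stalkMap z).hom (C.presheaf.germ U.1 _ hx c)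
  let A := T.presheaf.stalk (p z)
  let α : A →+* D'.subscheme.presheaf.stalk z := (p.stalkMap z).hom
  have key : ∀ q ∈ minimalPrimes A, ∃ a ∉ q, α a * m = 0 := by
    intro q hq
    by_contra hcon
    push Not at hcon
    haveI hqp : q.IsPrime := hq.1.1
    have hdisj : Disjoint (LinearMap.ker (LinearMap.mulRight (D'.subscheme.presheaf.stalk z) m) :
        Set (D'.subscheme.presheaf.stalk z)) (q.primeCompl.map α : Set (D'.subscheme.presheaf.stalk z)) := by
      rw [Set.disjoint_left]
      rintro _ h ⟨a, ha, rfl⟩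
      exact hcon a ha (LinearMap.mem_ker.1 h)
    obtain ⟨P, hP, hle, hPd⟩ := Ideal.exists_le_prime_disjoint
      (LinearMap.ker (LinearMap.mulRight (D'.subscheme.presheaf.stalk z) m)) (q.primeCompl.map α) hdisj
    obtain ⟨z', hz', rfl⟩ := exists_point P hP
    have hsub : (primeOf hz').comap α = q := by
      refine le_antisymm (fun a ha => ?_) (hq.2 ⟨(hP.comap α), bot_le⟩ fun a ha => ?_)
      · by_contra haq
        exact Set.disjoint_left.1 hPd ha ⟨a, haq, rfl⟩
      · by_contra haq
        exact Set.disjoint_left.1 hPd ha ⟨a, haq, rfl⟩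
    have hs : p z' ⤳ p z := hz'.map p.continuous
    have hps : primeOf hs = q := by
      rw [← hsub, ← primeOf_comap p hz' rfl rfl hs, φ_rfl]
    have hm0 : maximalIdeal (T.presheaf.stalk (p z')) = ⊥ := by
      letI := (T.presheaf.stalkSpecializes hs).hom.toAlgebra
      haveI := isPrime_primeOf hs
      haveI : IsLocalization.AtPrime (T.presheaf.stalk (p z')) (primeOf hs) := by
        show IsLocalization (primeOf hs).primeCompl _
        have e : (IsUnit.submonoid (T.presheaf.stalk (p z'))).comap (T.presheaf.stalkSpecializes hs).hom =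
            (primeOf hs).primeCompl := Submonoid.ext fun t => (notMem_primeOf hs t).symm
        rw [← e]
        exact Misc15.isLocalization_stalkSpecializes hs
      haveI : Ring.KrullDimLE 0 (T.presheaf.stalk (p z')) := by
        rw [Ring.krullDimLE_iff, IsLocalization.AtPrime.ringKrullDim_eq_height (primeOf hs), hps,
          Ideal.height_eq_zero_iff.2 hq]
        rfl
      exact isField_iff_maximalIdeal_eq.1 Ring.KrullDimLE.isField_of_isReduced
    have h2 : (D'.subscheme.presheaf.stalkSpecializes hz').hom m = 0 := by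
      have hy : D'.subschemeι z' ⤳ D'.subschemeι z := hz'.map D'.subschemeι.continuous
      have h3 : (C.presheaf.stalkSpecializes hy).hom (C.presheaf.germ U.1 _ hx c) ∈
          stk D' (D'.subschemeι z') := by
        have h4 := hstk (D'.subschemeι z') (stk_specializes D hy ▸ Ideal.mem_map_of_mem _ hf)
        have h5 : maximalIdeal (T.presheaf.stalk (π (D'.subschemeι z'))) = ⊥ := hm0
        rwa [h5, Ideal.map_bot, sup_bot_eq] at h4
      rw [← hker z', RingHom.mem_ker] at h3
      rw [← h3]
      exact (Scheme.Hom.stalkSpecializes_stalkMap_apply D'.subschemeι z' z hz' _).symm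
    obtain ⟨t, ht, u, hu⟩ := (specializes_dvd hz' (g := 0) (e := m)).1 (by rw [h2]; exact dvd_zero _)
    rw [zero_mul] at hu
    exact ht (hle (LinearMap.mem_ker.2 hu))
  let J : Ideal A := Ideal.comap α (LinearMap.ker (LinearMap.mulRight (D'.subscheme.presheaf.stalk z) m) :
    Ideal (D'.subscheme.presheaf.stalk z))
  have hfin := minimalPrimes.finite_of_isNoetherianRing A
  have hnot : ¬ (J : Set A) ⊆ ⋃ q ∈ hfin.toFinset, (q : Set A) := fun h => by
    obtain ⟨q, hq, hJq⟩ := (Ideal.subset_union_prime ⊥ ⊥ fun q hq _ _ => (hfin.mem_toFinset.1 hq).1.1).1 h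
    obtain ⟨a, haq, ha⟩ := key q (hfin.mem_toFinset.1 hq)
    exact haq (hJq (LinearMap.mem_ker.2 ha))
  obtain ⟨a, haJ, ha⟩ := Set.not_subset.1 hnot
  have hreg : IsRegular a := isRegular_iff_mem_nonZeroDivisors.2 <| mem_nonZeroDivisors_iff_right.2 fun b hb => by
    have : b ∈ nilradical A := by
      rw [nilradical, ← Ideal.sInf_minimalPrimes, Submodule.mem_sInf]
      intro q hq
      exact ((hq.1.1).mem_or_mem (hb ▸ zero_mem q)).resolve_right fun h =>
        ha (Set.mem_biUnion (hfin.mem_toFinset.2 hq) h)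
    rwa [nilradical_eq_zero, Ideal.zero_eq_bot, Ideal.mem_bot] at this
  letI := α.toAlgebra
  haveI : Module.Flat A (D'.subscheme.presheaf.stalk z) := Flat.stalkMap p z
  refine (Module.Flat.isSMulRegular_of_isRegular hreg).right_eq_zero_of_smul ?_
  rw [Algebra.smul_def]
  exact LinearMap.mem_ker.1 haJ

end Groth.Agent.SDiv28.FibrewiseLe
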