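import Groth.Agent.SDiv28.RegMeroExists
import Groth.Agent.Coherent.QcohSections
import Mathlib

/-!
# The ideal sheaf of denominators of a meromorphic section of an invertible module
-/

set_option autoImplicit false
set_option backward.isDefEq.respectTransparency.types false
universe u

open CategoryTheory AlgebraicGeometry Opposite TopologicalSpace
open Groth.Agent.AssSch12 Groth.Agent.Coherent Groth.Agent.PicLib

namespace Groth.Agent.SDiv28

variable {X : Scheme.{u}} {L : X.Modules}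

theorem mkLinearMap_injective_of_isInvertible (hL : PicF.IsInvertible L) (x : X) :
    Function.Injective (LocalizedModule.mkLinearMap (Mero.regStalk X x) (L.presheaf.stalk x)) := by
  obtain ⟨U, hxU, g, hg⟩ := exists_isGen hL x
  have hb := bijective_smul_germ_gen hg hxU
  intro a b hab
  obtain ⟨ra, rfl⟩ := hb.2 a
  obtain ⟨rb, rfl⟩ := hb.2 b
  obtain ⟨u, hu⟩ := LocalizedModule.mk_eq.1 hab
  simp only [one_smul, Submonoid.smul_def, ← mul_smul] at hu
  have h1 : (u : X.presheaf.stalk x) * (ra - rb) = 0 := by rw [mul_sub, hb.1 hu, sub_self]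
  have h2 := mem_nonZeroDivisors_iff_right.1 (Mero.regStalk_le_nonZeroDivisors x u.2) (ra - rb)
    (by rw [mul_comm]; exact h1)
  rw [sub_eq_zero.1 h2]

/-- Regular germs act injectively on the localized stalk. -/
theorem regStalk_smul_cancel {x : X} (b : Mero.regStalk X x) {z w : Mero.MStalk L x}
    (h : (b : X.presheaf.stalk x) • z = (b : X.presheaf.stalk x) • w) : z = w :=
  ((Module.End.isUnit_iff _).1 (IsLocalizedModule.map_units
    (LocalizedModule.mkLinearMap (Mero.regStalk X x) (L.presheaf.stalk x)) b)).1 h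

variable (s : Γ(Mero.merMod L, ⊤))

/-- Locally a meromorphic section has a regular denominator. -/
theorem exists_mem_denomIdeal (x : X) : ∃ (V : X.Opens) (_ : x ∈ V) (b : Γ(X, V)),
    b ∈ Mero.regSub X V ∧ b ∈ Mero.denomIdeal L s V := by
  obtain ⟨V, hxV, i, m, b, hmb⟩ := s.2 ⟨x, Opens.mem_top x⟩
  refine ⟨V, hxV, b.1, b.2, m, fun y => ?_⟩
  have hy : s.1 ⟨y.1, Opens.mem_top y.1⟩ =
      LocalizedModule.mk (L.presheaf.germ V y.1 y.2 m) (Mero.regGerm y b) := hmb y
  rw [hy, LocalizedModule.smul'_mk]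
  exact LocalizedModule.mk_cancel (Mero.regGerm y b) _

theorem denomIdeal_res {U V : X.Opens} (h : V ≤ U) {f : Γ(X, U)} (hf : f ∈ Mero.denomIdeal L s U) :
    res h f ∈ Mero.denomIdeal L s V := by
  obtain ⟨m, hm⟩ := hf
  refine ⟨resM L h m, fun y => ?_⟩
  rw [TopCat.Presheaf.germ_res_apply, TopCat.Presheaf.germ_res_apply]
  exact hm ⟨y.1, h y.2⟩

variable (hL : PicF.IsInvertible L)
include hL

/-- A function whose restriction to a basic open is a denominator becomes one after multiplying by a power. -/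
theorem exists_pow_mul_mem_denomIdeal {U : X.Opens} (hU : IsAffineOpen U) (g c : Γ(X, U))
    (hc : res (X.basicOpen_le g) c ∈ Mero.denomIdeal L s (X.basicOpen g)) :
    ∃ n : ℕ, g ^ n * c ∈ Mero.denomIdeal L s U := by
  haveI : Coh.IsQCoh L := AmpleLib.isQCoh_of_isInvertible hL
  obtain ⟨m0, hm0⟩ := hc
  obtain ⟨n, t, ht⟩ := qcoh_exists_pow_smul hU L g m0
  have loc : ∀ x : U, ∃ (W : X.Opens), x.1 ∈ W ∧ W ≤ U ∧ ∃ k : ℕ, ∀ (y : X) (hy : y ∈ W) (hyU : y ∈ U),
      X.presheaf.germ U y hyU (g ^ (k + n) * c) • s.1 ⟨y, Opens.mem_top y⟩ =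
        LocalizedModule.mkLinearMap (Mero.regStalk X y) _ (L.presheaf.germ U y hyU (g ^ k • t)) := by
    intro x
    obtain ⟨V, hxV, b, hb, mb, hmb⟩ := exists_mem_denomIdeal s x.1
    obtain ⟨W, hW, hxW, hWVU⟩ := exists_isAffineOpen_mem_and_subset (x := x.1) (U := V ⊓ U) ⟨hxV, x.2⟩
    have hWV : W ≤ V := fun z hz => (hWVU hz).1
    have hWU : W ≤ U := fun z hz => (hWVU hz).2
    refine ⟨W, hxW, hWU, ?_⟩
    let δ : Γ(L, W) := res hWV b • resM L hWU t - res hWU (g ^ n * c) • resM L hWV mb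
    have hδ : ∀ (y : X) (hy : y ∈ W) (hyg : y ∈ X.basicOpen g), L.presheaf.germ W y hy δ = 0 := by
      intro y hy hyg
      have e1 := hm0 ⟨y, hyg⟩
      have e2 := hmb ⟨y, hWV hy⟩
      rw [TopCat.Presheaf.germ_res_apply] at e1
      have e3 : L.presheaf.germ U y (hWU hy) t =
          X.presheaf.germ U y (hWU hy) (g ^ n) • L.presheaf.germ (X.basicOpen g) y hyg m0 := by
        rw [← TopCat.Presheaf.germ_res_apply L.presheaf (homOfLE (X.basicOpen_le g)) y hyg]
        refine (congrArg (L.presheaf.germ (X.basicOpen g) y hyg) ht).trans ?_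
        rw [QCohLoc.germ_smul', TopCat.Presheaf.germ_res_apply]
      refine mkLinearMap_injective_of_isInvertible hL y ?_
      rw [map_zero, map_sub, QCohLoc.germ_smul', QCohLoc.germ_smul', TopCat.Presheaf.germ_res_apply,
        TopCat.Presheaf.germ_res_apply, TopCat.Presheaf.germ_res_apply, TopCat.Presheaf.germ_res_apply,
        map_sub, map_smul, map_smul, e3, map_smul, ← e1, ← e2, sub_eq_zero, smul_smul, smul_smul, smul_smul,
        map_mul]
      congr 1
      ring
    have hres : resM L (X.basicOpen_le (res hWU g)) δ = 0 := by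
      apply TopCat.Presheaf.section_ext (F := (⟨L.presheaf, L.isSheaf⟩ : TopCat.Sheaf Ab X))
      intro y hy
      show L.presheaf.germ _ y hy _ = L.presheaf.germ _ y hy 0
      rw [map_zero, TopCat.Presheaf.germ_res_apply]
      exact hδ y (X.basicOpen_le _ hy) (by
        have h1 := hy
        rw [Scheme.basicOpen_res] at h1
        exact h1.2)
    obtain ⟨k, hk⟩ := qcoh_exists_pow_smul_eq_zero hW L (res hWU g) δ hres
    refine ⟨k, fun y hy hyU => regStalk_smul_cancel (Mero.regGerm (⟨y, hWV hy⟩ : V) ⟨b, hb⟩) ?_⟩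
    have h2 := congr(L.presheaf.germ W y hy $hk)
    rw [map_zero, QCohLoc.germ_smul', map_sub, QCohLoc.germ_smul', QCohLoc.germ_smul', map_pow,
      TopCat.Presheaf.germ_res_apply, TopCat.Presheaf.germ_res_apply, TopCat.Presheaf.germ_res_apply,
      TopCat.Presheaf.germ_res_apply, TopCat.Presheaf.germ_res_apply, smul_sub, sub_eq_zero] at h2
    have h3 := congr(LocalizedModule.mkLinearMap (Mero.regStalk X y) _ $h2)
    have e2 := hmb ⟨y, hWV hy⟩
    rw [map_smul, map_smul, map_smul, map_smul, ← e2, smul_smul, smul_smul, smul_smul] at h3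
    show X.presheaf.germ V y (hWV hy) b • _ = X.presheaf.germ V y (hWV hy) b • _
    rw [QCohLoc.germ_smul', map_smul, smul_smul, smul_smul, map_pow, mul_comm _ (X.presheaf.germ U y hyU g ^ k), h3]
    congr 1
    simp only [map_mul, map_pow, pow_add]
    ring
  choose W hxW hWU k hk using loc
  obtain ⟨T, hT⟩ := hU.isCompact.elim_finite_subcover (fun x => (W x : Set X)) (fun x => (W x).2)
    fun y hy => Set.mem_iUnion.2 ⟨⟨y, hy⟩, hxW _⟩
  refine ⟨T.sup k + n, g ^ T.sup k • t, fun y => ?_⟩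
  obtain ⟨x, hx, hyW⟩ := Set.mem_iUnion₂.1 (hT y.2)
  obtain ⟨d, hd⟩ := Nat.le.dest (Finset.le_sup (f := k) hx)
  have := congrArg (fun z => X.presheaf.germ U y.1 y.2 (g ^ d) • z) (hk x y.1 hyW y.2)
  dsimp only at this
  rw [← map_smul, ← QCohLoc.germ_smul', smul_smul, smul_smul, ← map_mul] at this
  rw [← hd, show g ^ (k x + d + n) * c = g ^ d * (g ^ (k x + n) * c) by ring,
    show g ^ (k x + d) = g ^ d * g ^ k x by ring]
  exact this

theorem map_denomIdeal_basicOpen (U : X.affineOpens) (g : Γ(X, U)) :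
    (Mero.denomIdeal L s U.1).map (X.presheaf.map (homOfLE <| X.basicOpen_le g).op).hom =
      Mero.denomIdeal L s (X.affineBasicOpen g).1 := by
  refine le_antisymm (Ideal.map_le_iff_le_comap.2 fun f hf => denomIdeal_res s (X.basicOpen_le g) hf) fun f hf => ?_
  haveI := U.2.isLocalization_basicOpen g
  obtain ⟨⟨c, ⟨_, N, rfl⟩⟩, hc⟩ := IsLocalization.surj (Submonoid.powers g) (S := Γ(X, X.basicOpen g)) f
  have hu : IsUnit (res (X.basicOpen_le g) (g ^ N)) :=
    IsLocalization.map_units Γ(X, X.basicOpen g) (⟨g ^ N, N, rfl⟩ : Submonoid.powers g)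
  have hcf : res (X.basicOpen_le g) c = f * res (X.basicOpen_le g) (g ^ N) := hc.symm
  obtain ⟨n, hn⟩ := exists_pow_mul_mem_denomIdeal s hL U.2 g c (by rw [hcf]; exact Ideal.mul_mem_right _ _ hf)
  have h1 := Ideal.mem_map_of_mem (X.presheaf.map (homOfLE <| X.basicOpen_le g).op).hom hn
  rw [map_mul] at h1
  have hu' : IsUnit (res (X.basicOpen_le g) (g ^ n)) :=
    IsLocalization.map_units Γ(X, X.basicOpen g) (⟨g ^ n, n, rfl⟩ : Submonoid.powers g)
  have h2 := (Ideal.unit_mul_mem_iff_mem _ hu').1 h1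
  rw [show (X.presheaf.map (homOfLE <| X.basicOpen_le g).op).hom c = f * res (X.basicOpen_le g) (g ^ N) from hcf] at h2
  exact (Ideal.mul_unit_mem_iff_mem _ hu).1 h2

/-- The ideal sheaf of denominators. -/
def denomSheaf : X.IdealSheafData where
  ideal U := Mero.denomIdeal L s U.1
  map_ideal_basicOpen U g := map_denomIdeal_basicOpen s hL U g

theorem interior_support_denomSheaf : interior ((denomSheaf s hL).support : Set X) = ∅ := by
  rw [Set.eq_empty_iff_forall_notMem]
  intro x hx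
  obtain ⟨V, hxV, b, hb, hbd⟩ := exists_mem_denomIdeal s x
  obtain ⟨W, hW, hxW, hWsub⟩ := exists_isAffineOpen_mem_and_subset (x := x)
    (U := V ⊓ ⟨interior ((denomSheaf s hL).support : Set X), isOpen_interior⟩) ⟨hxV, hx⟩
  have hWV : W ≤ V := fun z hz => (hWsub hz).1
  have hb' : res hWV b ∈ (denomSheaf s hL).ideal ⟨W, hW⟩ := denomIdeal_res s hWV hbd
  have hnil : IsNilpotent (res hWV b) := by
    rw [← mem_nilradical, nilradical_eq_sInf, Submodule.mem_sInf]
    rintro (P : Ideal Γ(X, W)) (hP : P.IsPrime)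
    obtain ⟨y, hy, rfl⟩ := exists_point hW P
    rw [mem_primeAt_iff hW hy]
    have hys : y ∈ (denomSheaf s hL).support := interior_subset (hWsub hy).2
    rw [Scheme.IdealSheafData.mem_support_iff_of_mem (U := ⟨W, hW⟩) hy, Scheme.mem_zeroLocus_iff] at hys
    exact hys _ hb'
  have h1 := hnil.map (X.presheaf.germ W x hxW).hom
  have h2 := Mero.regSub_res (homOfLE hWV) hb ⟨x, hxW⟩
  obtain ⟨e, he⟩ := h1
  exact zero_notMem_nonZeroDivisors (he ▸ pow_mem h2 e)

end Groth.Agent.SDiv28
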