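import Groth.Agent.LocCoh.Depth
import Groth.Agent.CommAlg6.DepthOne
import Groth.Agent.CAlgH3.Serre
import Mathlib

/-!
# Depth at least two: linear maps on the maximal ideal extend
-/

set_option autoImplicit false
universe u v

open RingTheory.Sequence IsLocalRing

namespace Groth.Agent.SDiv28

variable {R : Type u} [CommRing R] [IsLocalRing R] [IsNoetherianRing R]
  {F : Type u} [AddCommGroup F] [Module R F] [Module.Finite R F]

/-- If the depth of `F` is at least two, every linear map from the maximal ideal to `F` extends to `R`. -/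
theorem exists_extend_of_two_le_depth (h : (2 : ℕ∞) ≤ LocCoh.depth R F)
    (φ : maximalIdeal R →ₗ[R] F) : ∃ f : F, ∀ r : maximalIdeal R, φ r = (r : R) • f := by
  cases subsingleton_or_nontrivial F with
  | inl _ => exact ⟨0, fun r => Subsingleton.elim _ _⟩
  | inr _ =>
    obtain ⟨rs, hlen, hmem, hreg⟩ := (Groth.Agent.LocCoh.natCast_le_idealDepth_iff_exists _ F
      Groth.Agent.CAlgH3.maximal_smul_top_ne_top 2).1 h
    match rs, hlen with
    | a :: b :: rs, _ =>
      obtain ⟨ha, hrest⟩ := (isWeaklyRegular_cons_iff F a (b :: rs)).1 hreg.1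
      obtain ⟨hb, -⟩ := (isWeaklyRegular_cons_iff _ b rs).1 hrest
      let A : maximalIdeal R := ⟨a, hmem a (by simp)⟩
      let B : maximalIdeal R := ⟨b, hmem b (by simp)⟩
      have hsym : ∀ r s : maximalIdeal R, (r : R) • φ s = (s : R) • φ r := fun r s => by
        rw [← map_smul, ← map_smul]
        exact congrArg φ (Subtype.ext (mul_comm _ _))
      have h1 : (Submodule.Quotient.mk (φ A) : QuotSMulTop a F) = 0 := by
        refine hb ?_
        simp only [smul_zero]
        rw [← Submodule.Quotient.mk_smul, Submodule.Quotient.mk_eq_zero,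
          Submodule.mem_smul_pointwise_iff_exists]
        exact ⟨φ B, trivial, hsym A B⟩
      rw [Submodule.Quotient.mk_eq_zero, Submodule.mem_smul_pointwise_iff_exists] at h1
      obtain ⟨f, -, hf⟩ := h1
      refine ⟨f, fun r => ha ?_⟩
      show a • φ r = a • ((r : R) • f)
      rw [smul_comm a (r : R) f, hf]
      exact hsym A r

/-- The cokernel criterion: if `F` has depth at least two and the maximal ideal is not associated to
`G`, then it is not associated to the cokernel of a map `F → G`. -/
theorem maximalIdeal_notMem_associatedPrimes_of_exact {G Q : Type u} [AddCommGroup G] [Module R G]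
    [AddCommGroup Q] [Module R Q] (h : (2 : ℕ∞) ≤ LocCoh.depth R F) (f : F →ₗ[R] G) (g : G →ₗ[R] Q)
    (hf : Function.Injective f) (hfg : Function.Exact f g) (hg : Function.Surjective g)
    (hG : maximalIdeal R ∉ associatedPrimes R G) : maximalIdeal R ∉ associatedPrimes R Q := by
  intro hQ
  obtain ⟨-, q, hq⟩ := (isAssociatedPrime_iff (R := R)).1 hQ
  obtain ⟨x, rfl⟩ := hg q
  have hker : ∀ r : maximalIdeal R, (r : R) • x ∈ LinearMap.range f := fun r => by
    refine (hfg _).1 ?_
    have hr : (r : R) ∈ (⊥ : Submodule R Q).colon {g x} := hq ▸ r.2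
    rw [Submodule.mem_colon_singleton, Submodule.mem_bot] at hr
    rw [map_smul]; exact hr
  choose c hc using hker
  have hlin : IsLinearMap R c :=
    ⟨fun r s => hf (by rw [map_add, hc, hc, hc]; exact add_smul _ _ _),
      fun t r => hf (by rw [map_smul, hc, hc]; exact mul_smul t _ _)⟩
  obtain ⟨y, hy⟩ := exists_extend_of_two_le_depth h hlin.mk'
  have hd : ∀ r ∈ maximalIdeal R, r • (x - f y) = 0 := fun r hr => by
    rw [smul_sub, ← map_smul, ← hy ⟨r, hr⟩]
    exact sub_eq_zero.2 (hc ⟨r, hr⟩).symm
  have hne : x - f y ≠ 0 := fun h0 => by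
    have : g x = 0 := by
      rw [sub_eq_zero.1 h0]; exact hfg.apply_apply_eq_zero y
    exact (maximalIdeal.isMaximal R).ne_top (hq.trans (eq_top_iff.2 fun r _ => by
      simp [Submodule.mem_colon_singleton, this]))
  refine hG ((isAssociatedPrime_iff (R := R)).2 ⟨(maximalIdeal.isMaximal R).isPrime, x - f y, ?_⟩)
  refine (maximalIdeal.isMaximal R).eq_of_le ?_ fun r hr => ?_
  · intro ht
    have h1 : (1 : R) ∈ (⊥ : Submodule R G).colon {x - f y} := ht ▸ Submodule.mem_top
    rw [Submodule.mem_colon_singleton, Submodule.mem_bot, one_smul] at h1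
    exact hne h1
  · rw [Submodule.mem_colon_singleton, Submodule.mem_bot]; exact hd r hr

end Groth.Agent.SDiv28
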